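import Cfsg.Agent.Cw3.A
import Cfsg.Agent.Th3.Q

/-! Subgroups given by lists of codes, and checkers. -/

set_option autoImplicit false
set_option linter.unusedSimpArgs false
set_option linter.style.haveILetI false

namespace CF.Cw3

open CF.Comp Subgroup CF.Fus CF.FusU CF.Th3

variable {Ω : Type*} [Group Ω] {S D H : Subgroup Ω} {v : ℕ → Ω} {a b c k j n : ℕ} {s t x y z : Ω}
  {A B E : List ℕ}

/-- `v` parametrizes `S` by the codes -/
structure Md (S : Subgroup Ω) (v : ℕ → Ω) : Prop where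
  mul : ∀ {a b}, a < 19683 → b < 19683 → v (mu a b) = v a * v b
  inj : ∀ {a b}, a < 19683 → b < 19683 → v a = v b → a = b
  mem : ∀ {a}, a < 19683 → v a ∈ S
  sur : ∀ {s}, s ∈ S → ∃ a < 19683, v a = s
  fin : Finite S
  pg : IsPGroup 3 S

/-- generators of the terms of the chain -/
noncomputable def zl (k : ℕ) : List ℕ :=
  List.rec (motive := fun _ => List ℕ) [] (fun g _ r => Bool.rec 0 g (lt g (Nat.pow 3 k)) :: r) g9

/-- the chain of normal subgroups -/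
noncomputable def Z (v : ℕ → Ω) (k : ℕ) : Subgroup Ω := cl v (zl k)

theorem okl_iff : okl A = true ↔ ∀ a ∈ A, a < 19683 := by simp only [okl, lall_iff, lt_iff]

theorem cjc_lt (ha : a < 19683) (hb : b < 19683) : cjc a b < 19683 := by
  rw [cjc, force_eq]; exact mu_lt (mu_lt hb ha) (iv_lt hb).1

theorem cc_lt (ha : a < 19683) (hb : b < 19683) : cc a b < 19683 := by
  rw [cc, force_eq]; exact mu_lt (iv_lt ha).1 (cjc_lt ha hb)

theorem cu_lt (ha : a < 19683) : cu a < 19683 := by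
  rw [cu, force_eq]; exact mu_lt (mu_lt ha ha) ha

theorem zl_spec (hk : k ≤ 9) : (∀ a ∈ zl k, a < 3 ^ k) ∧ ∀ g ∈ g9, g < 3 ^ k → g ∈ zl k := by
  interval_cases k <;> decide

theorem pow_le (hk : k ≤ 9) : 3 ^ k ≤ 19683 := Nat.pow_le_pow_right (by decide) hk

/-- all commutators lie in the `k`-th term -/
noncomputable def CC (A B : List ℕ) (k : ℕ) : Bool := band (band (okl A) (okl B)) (ccl A B (Nat.pow 3 k))

theorem kC : allFrom (fun k => CC (zl (Nat.succ k)) g9 k) 0 9 = true := by decide +kernel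

theorem anyN_spec {f : ℕ → Bool} (h : anyN n f = false) (hn : n ≤ 19683) : ∀ i < n, f i = false := fun i hi => by
  have : allN n (fun c => Bool.rec true false (f c)) = true := by
    rw [anyN] at h; revert h; cases allN n (fun c => Bool.rec true false (f c)) <;> simp
  have := allN_spec this hn i hi
  revert this; cases f i <;> simp

namespace Md

variable (h : Md S v)
include h

theorem zero : v 0 = 1 := by
  have := h.mul (a := 0) (b := 0) (by decide) (by decide)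
  rw [show mu 0 0 = 0 by decide +kernel] at this
  exact left_eq_mul.1 this

theorem inv (ha : a < 19683) : v (iv a) = (v a)⁻¹ :=
  eq_inv_of_mul_eq_one_right (by rw [← h.mul ha (iv_lt ha).1, (iv_lt ha).2, h.zero])

theorem cjc (ha : a < 19683) (hb : b < 19683) : v (cjc a b) = v b * v a * (v b)⁻¹ := by
  rw [Cw3.cjc, force_eq, h.mul (mu_lt hb ha) (iv_lt hb).1, h.mul hb ha, h.inv hb]

theorem cc (ha : a < 19683) (hb : b < 19683) : v (cc a b) = cm (v a) (v b) := by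
  rw [Cw3.cc, force_eq, h.mul (iv_lt ha).1 (cjc_lt ha hb), h.inv ha, h.cjc ha hb, cm]

theorem cu (ha : a < 19683) : v (cu a) = v a ^ 3 := by
  rw [Cw3.cu, force_eq, h.mul (mu_lt ha ha) ha, h.mul ha ha, pow_three']

theorem eq_iff (ha : a < 19683) (hb : b < 19683) : v a = v b ↔ a = b := ⟨h.inj ha hb, fun e => e ▸ rfl⟩

theorem one_iff (ha : a < 19683) : v a = 1 ↔ a = 0 := by rw [← h.zero, h.eq_iff ha (by decide)]

theorem cj (hs : s ∈ S) : Md S fun c => s⁻¹ * v c * s :=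
  ⟨fun ha hb => by rw [h.mul ha hb]; group, fun ha hb e => h.inj ha hb (by simpa using e),
    fun ha => mul_mem (mul_mem (inv_mem hs) (h.mem ha)) hs, fun {t} ht =>
      let ⟨a, ha, e⟩ := h.sur (mul_mem (mul_mem hs ht) (inv_mem hs))
      ⟨a, ha, by rw [e]; group⟩, h.fin, h.pg⟩

theorem cl_le_S (hA : okl A = true) : cl v A ≤ S := cl_le.2 fun c hc => h.mem (okl_iff.1 hA c hc)

theorem mem_of_gen (hk : k ≤ 9) (hH : ∀ g ∈ g9, g < 3 ^ k → v g ∈ H) (hc : c < 3 ^ k) : v c ∈ H := by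
  induction c using Nat.strong_induction_on with
  | _ c ih =>
  rcases eq_or_ne c 0 with rfl | h0
  · rw [h.zero]; exact one_mem _
  have := pow_le hk
  obtain ⟨g, h1, h2, h3⟩ := dec (c := c) (by omega) h0
  have : 0 < g := (by decide : ∀ g ∈ g9, 0 < g) g h1
  rw [← h3, h.mul (by omega) (by omega)]
  exact mul_mem (ih _ (by omega) (by omega)) (hH g h1 (by omega))

theorem Z_of_lt (hk : k ≤ 9) (hc : c < 3 ^ k) : v c ∈ Z v k :=
  h.mem_of_gen hk (fun g h1 h2 => mem_cl ((zl_spec hk).2 g h1 h2)) hc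

theorem ex_Z (hk : k ≤ 9) (hx : x ∈ Z v k) : ∃ c < 3 ^ k, v c = x := by
  haveI := h.fin
  have := pow_le hk
  refine clo_ind (S := S) (p := fun x => ∃ c < 3 ^ k, v c = x) ?_ ⟨0, by positivity, h.zero⟩ ?_ hx
  · rintro _ ⟨c, hc, rfl⟩
    exact h.mem (((zl_spec hk).1 c hc).trans_le this)
  · rintro _ ⟨c, hc, rfl⟩ _ ⟨d, hd, rfl⟩
    have := (zl_spec hk).1 c hc
    exact ⟨_, mu_pow hk this hd, h.mul (by omega) (by omega)⟩

theorem mem_Z (hk : k ≤ 9) (hc : c < 19683) : v c ∈ Z v k ↔ c < 3 ^ k :=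
  ⟨fun e => let ⟨_, hd, e⟩ := h.ex_Z hk e
    (h.eq_iff (hd.trans_le (pow_le hk)) hc).1 e ▸ hd, h.Z_of_lt hk⟩

theorem Z_le (hk : k ≤ 9) : Z v k ≤ S := fun _ e =>
  let ⟨_, hd, e⟩ := h.ex_Z hk e
  e ▸ h.mem (hd.trans_le (pow_le hk))

theorem Z_top : Z v 9 = S := le_antisymm (h.Z_le le_rfl) fun _ hs =>
  let ⟨_, ha, e⟩ := h.sur hs
  e ▸ h.Z_of_lt le_rfl ha

theorem S_eq : S = cl v g9 := h.Z_top.symm

theorem Z_zero : Z v 0 = ⊥ := eq_bot_iff.2 fun _ e =>
  let ⟨d, hd, e⟩ := h.ex_Z (by decide) e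
  mem_bot.2 (by rw [← e, show d = 0 by omega, h.zero])

theorem Z_mono (hj : j ≤ k) (hk : k ≤ 9) : Z v j ≤ Z v k := fun _ e =>
  let ⟨_, hd, e⟩ := h.ex_Z (hj.trans hk) e
  e ▸ h.Z_of_lt hk (hd.trans_le (Nat.pow_le_pow_right (by decide) hj))

theorem CC_aux (hk : k ≤ 9) (hn : S ≤ normalizer (Z v k : Set Ω)) (e : CC A B k = true) (hx : x ∈ cl v A)
    (hy : y ∈ cl v B) : cm x y ∈ Z v k := by
  simp only [CC, ccl, band_iff, okl_iff, lall_iff, lt_iff] at e
  refine cm_closure ?_ ?_ ?_ hx hy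
  · rintro _ ⟨a, ha, rfl⟩; exact hn (h.mem (e.1.1 a ha))
  · rintro _ ⟨a, ha, rfl⟩; exact hn (h.mem (e.1.2 a ha))
  · rintro _ ⟨a, ha, rfl⟩ _ ⟨b, hb, rfl⟩
    rw [← h.cc (e.1.1 a ha) (e.1.2 b hb)]
    exact h.Z_of_lt hk (e.2 a ha b hb)

theorem Z_norm (hk : k ≤ 9) : S ≤ normalizer (Z v k : Set Ω) := by
  haveI := h.fin
  induction k with
  | zero => rw [h.Z_zero]; exact fun s _ => mem_normalizer_iff.2 (by simp)
  | succ k ih =>
    exact fun s hs => norm_of_cm (h.Z_le hk) fun x hx => h.Z_mono (by omega) hk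
      (h.CC_aux (by omega) (ih (by omega)) (all0 kC k (by omega)) hx (h.S_eq ▸ hs))

theorem CC_spec (e : CC A B k = true) (hx : x ∈ cl v A) (hy : y ∈ cl v B) (hk : k ≤ 9 := by decide) :
    cm x y ∈ Z v k := h.CC_aux hk (h.Z_norm hk) e hx hy

theorem cm_Z (hk : k < 9) (hx : x ∈ Z v (k + 1)) (hs : s ∈ S) : cm x s ∈ Z v k :=
  h.CC_spec (all0 kC k hk) hx (h.S_eq ▸ hs) hk.le

theorem cm_Z' (hk : k < 9) (hs : s ∈ S) (hx : x ∈ Z v (k + 1)) : cm s x ∈ Z v k :=
  cm_swap_mem (h.Z_norm hk.le (h.Z_le hk hx)) (h.Z_norm hk.le hs) (h.cm_Z hk hx hs)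

theorem Z_cj (hs : s ∈ S) (hk : k ≤ 9) : Z (fun c => s⁻¹ * v c * s) k = Z v k :=
  le_antisymm (cl_le.2 fun _ hc => conj_mem_of_norm' (h.Z_norm hk hs) (mem_cl hc)) (cl_le.2 fun c hc => by
    have := conj_mem_of_norm ((h.cj hs).Z_norm hk hs) (mem_cl (v := fun c => s⁻¹ * v c * s) hc)
    simpa [mul_assoc] using this)

theorem split (hk : k < 9) (hc : c < 19683) : (v (c - c % 3 ^ k))⁻¹ * v c ∈ Z v k := by
  have h1 : c % 3 ^ k < 3 ^ k := Nat.mod_lt _ (by positivity)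
  have := pow_le (k := k) (by omega)
  have e := h.mul (a := c - c % 3 ^ k) (b := c % 3 ^ k) (by omega) (by omega)
  rw [mu_split hk hc] at e
  rw [e, inv_mul_cancel_left]
  exact h.Z_of_lt (by omega) h1

end Md

end CF.Cw3
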