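import Cfsg.Agent.Cw3.B

/-! Sifting and transversals. -/

set_option autoImplicit false
set_option linter.unusedSimpArgs false
set_option linter.style.haveILetI false

namespace CF.Cw3

open CF.Comp Subgroup CF.Fus CF.FusU CF.Th3

variable {Ω : Type*} [Group Ω] {S H : Subgroup Ω} {v : ℕ → Ω} {a b c k j n p : ℕ} {s t x y z : Ω}
  {A B D E : List ℕ} {P f : ℕ → Bool}

theorem alp_spec (e : alp f D p a = true) (hc : ztp D p c = true) : f (a + c) = true := by
  induction D generalizing p a c with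
  | nil =>
    have : c = 0 := beq_iff.1 hc
    subst this; exact e
  | cons g D ih =>
    have e1 : alp f (g :: D) p a = force (p / 3) fun p' => Bool.rec (alp f D p' a)
      (Bool.rec false (force (a + p) fun a1 => Bool.rec false (force (a1 + p) (alp f D p')) (alp f D p' a1))
        (alp f D p' a)) (Nat.beq g 0) := rfl
    have e2 : ztp (g :: D) p c = force (p / 3) fun p' => Bool.rec (Bool.rec false (ztp D p' c) (lt c p))
      (Bool.rec false (force (c % p) (ztp D p')) (lt (c / p) 3)) (Nat.beq g 0) := rfl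
    rw [e1, force_eq] at e
    rw [e2, force_eq] at hc
    cases hg : Nat.beq g 0 with
    | false =>
      rw [hg] at e hc
      exact ih e (brec_and.1 hc).2
    | true =>
      rw [hg] at e hc
      simp only [brec_and, force_eq, lt_iff] at e hc
      have e0 := Nat.mod_add_div c p
      obtain h | h | h : c / p = 0 ∨ c / p = 1 ∨ c / p = 2 := by
        have := hc.1
        generalize c / p = q at this
        omega
      · have := ih e.1 hc.2
        rwa [show a + c % p = a + c by rw [h] at e0; omega] at this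
      · have := ih e.2.1 hc.2
        rwa [show a + p + c % p = a + c by rw [h] at e0; omega] at this
      · have := ih e.2.2 hc.2
        rwa [show a + p + p + c % p = a + c by rw [h] at e0; omega] at this

theorem alT_spec (e : alT D f = true) (hc : zt D c = true) : f c = true := by
  rw [zt, force_eq] at hc
  have := alp_spec e hc
  rwa [show nat_lit 0 + c = c from Nat.zero_add c] at this

/-- three generators -/
noncomputable def g3 : List ℕ := [6561, 2187, 243]

/-- `D` and the transversal cover `S` -/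
noncomputable def CVS (D : List ℕ) (P : ℕ → Bool) : Bool := band (band (okl D) (zt D 0)) (covS g3 D P)

/-- `D` and the transversal cover `E` -/
noncomputable def CV (E D : List ℕ) (P : ℕ → Bool) : Bool :=
  band (band (band (okl D) (okl E)) (band (zt D 0) (mm E 0))) (cov E D P)

/-- inclusion -/
noncomputable def LE (A B : List ℕ) : Bool := band (band (okl A) (okl B)) (lall (mm B) A)

/-- membership in a list -/
noncomputable def lm (A : List ℕ) (c : ℕ) : Bool := force c fun c => lany (Nat.beq c) A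

theorem mem_of_lm (e : lm A c = true) : c ∈ A := by
  rw [lm, force_eq] at e
  obtain ⟨_, h1, h2⟩ := lany_iff.1 e
  exact beq_iff.1 h2 ▸ h1

/-- a program of commutators and products that produces `B` -/
noncomputable def PR (B : List ℕ) (L : List (ℕ × ℕ × ℕ)) : List ℕ → Bool :=
  List.rec (motive := fun _ => List ℕ → Bool) (fun A => lall (lm A) B)
    (fun q _ ih A => Bool.rec false (ih (q.1 :: A)) (band (band (lm A q.2.1) (lm A q.2.2))
      (Bool.rec (Nat.beq (mu q.2.1 q.2.2) q.1) true (Nat.beq (cc q.2.1 q.2.2) q.1)))) L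

namespace Md

variable (h : Md S v)
include h

theorem sfp_spec (hD : ∀ g ∈ D, g < 19683) (hc : c < 19683) :
    sfp D p c < 19683 ∧ ∃ e ∈ cl v D, v (sfp D p c) = v c * e := by
  induction D generalizing p c with
  | nil => exact ⟨hc, 1, one_mem _, (mul_one _).symm⟩
  | cons g D ih =>
    have e1 : sfp (g :: D) p c = force (p / 3) fun p' => Bool.rec
      (force (c / p % 3) fun d => Bool.rec (force (mu c (Bool.rec g (iv g) (Nat.beq d 1))) (sfp D p')) (sfp D p' c)
        (Nat.beq d 0)) (sfp D p' c) (Nat.beq g 0) := rfl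
    have l : cl v D ≤ cl v (g :: D) := cl_le.2 fun c hc => mem_cl (List.mem_cons_of_mem _ hc)
    have hg := hD g List.mem_cons_self
    have m : v g ∈ cl v (g :: D) := mem_cl List.mem_cons_self
    have k : ∀ {p c}, c < 19683 → sfp D p c < 19683 ∧ ∃ e ∈ cl v (g :: D), v (sfp D p c) = v c * e := fun hc =>
      let ⟨h1, e, h2, h3⟩ := ih (fun g hg => hD g (List.mem_cons_of_mem _ hg)) hc
      ⟨h1, e, l h2, h3⟩
    rw [e1, force_eq]
    cases Nat.beq g 0 with
    | true => exact k hc
    | false =>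
      show force _ _ < _ ∧ ∃ e ∈ _, v (force _ _) = _
      rw [force_eq]
      cases Nat.beq (c / p % 3) 0 with
      | true => exact k hc
      | false =>
        show force _ _ < _ ∧ ∃ e ∈ _, v (force _ _) = _
        rw [force_eq]
        cases Nat.beq (c / p % 3) 1 with
        | true =>
          obtain ⟨h1, e, h2, h3⟩ := k (p := p / 3) (mu_lt hc (iv_lt hg).1)
          exact ⟨h1, (v g)⁻¹ * e, mul_mem (inv_mem m) h2, by rw [← mul_assoc, ← h.inv hg, ← h.mul hc (iv_lt hg).1]; exact h3⟩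
        | false =>
          obtain ⟨h1, e, h2, h3⟩ := k (p := p / 3) (mu_lt hc hg)
          exact ⟨h1, v g * e, mul_mem m h2, by rw [← mul_assoc, ← h.mul hc hg]; exact h3⟩

theorem sf_spec (hD : okl D = true) (hc : c < 19683) : sf D c < 19683 ∧ ∃ e ∈ cl v D, v c = v (sf D c) * e := by
  rw [sf, force_eq]
  obtain ⟨h1, e, h2, h3⟩ := h.sfp_spec (p := nat_lit 6561) (okl_iff.1 hD) hc
  exact ⟨h1, e⁻¹, inv_mem h2, by rw [h3]; simp⟩

theorem mm_spec (hD : okl D = true) (hc : c < 19683) (e : mm D c = true) : v c ∈ cl v D := by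
  obtain ⟨-, e, h2, h3⟩ := h.sf_spec hD hc
  rwa [h3, beq_iff.1 ‹mm D c = true›, show nat_lit 0 = 0 from rfl, h.zero, one_mul]

theorem mem' (e : band (band (okl D) (lt c 19683)) (mm D c) = true := by decide +kernel) : v c ∈ cl v D :=
  h.mm_spec (band_iff.1 (band_iff.1 e).1).1 (lt_iff.1 (band_iff.1 (band_iff.1 e).1).2) (band_iff.1 e).2

theorem LE_spec (e : LE A B = true := by decide +kernel) : cl v A ≤ cl v B := by
  simp only [LE, band_iff, lall_iff] at e
  exact cl_le.2 fun c hc => h.mm_spec e.1.2 (okl_iff.1 e.1.1 c hc) (e.2 c hc)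

theorem PR_spec {L : List (ℕ × ℕ × ℕ)} (hA : ∀ a ∈ A, a < 19683 ∧ v a ∈ H) (e : PR B L A = true) : cl v B ≤ H := by
  induction L generalizing A with
  | nil => exact cl_le.2 fun c hc => (hA c (mem_of_lm (lall_iff.1 e c hc))).2
  | cons q L ih =>
    have e1 : PR B (q :: L) A = Bool.rec false (PR B L (q.1 :: A)) (band (band (lm A q.2.1) (lm A q.2.2))
      (Bool.rec (Nat.beq (mu q.2.1 q.2.2) q.1) true (Nat.beq (Cw3.cc q.2.1 q.2.2) q.1))) := rfl
    rw [e1] at e
    simp only [brec_and, band_iff, brec_or, beq_iff] at e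
    obtain ⟨⟨⟨h1, h2⟩, h3⟩, h4⟩ := e
    have a1 := hA _ (mem_of_lm h1)
    have a2 := hA _ (mem_of_lm h2)
    refine ih (fun a ha => ?_) h4
    rcases List.mem_cons.1 ha with rfl | ha
    · rcases h3 with h3 | h3
      · exact h3 ▸ ⟨cc_lt a1.1 a2.1, h.cc a1.1 a2.1 ▸ cm_mem' a1.2 a2.2⟩
      · exact h3 ▸ ⟨mu_lt a1.1 a2.1, h.mul a1.1 a2.1 ▸ mul_mem a1.2 a2.2⟩
    · exact hA a ha

theorem S_eq3 : S = cl v g3 := by
  refine le_antisymm ?_ (h.cl_le_S (by decide +kernel))
  rw [h.S_eq]
  exact (h.LE_spec (B := [6561, 2187, 729, 243, 90, 28, 9, 3, 1])).trans (h.PR_spec (A := g3)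
    (L := [(729, 2187, 6561), (90, 243, 2187), (9, 2187, 90), (28, 243, 729), (3, 90, 729), (1, 6561, 3)]) (fun a ha => ⟨(by decide : ∀ x ∈ g3, x < 19683) a ha, mem_cl ha⟩) (by decide +kernel))

theorem CVS_spec (e : CVS D P = true) (hs : s ∈ S) : ∃ r < 19683, P r = true ∧ (v r)⁻¹ * s ∈ cl v D := by
  haveI := h.fin
  simp only [CVS, band_iff, covS] at e
  have k : ∀ r, zt D r = true → P r = true ∧ ∀ x ∈ g3, zt D (sf D (mu x r)) = true := fun r hr => by
    simpa only [brec_and, lall_iff] using alT_spec e.2 hr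
  rw [h.S_eq3] at hs
  obtain ⟨r, h1, h2, h3⟩ : ∃ r < 19683, zt D r = true ∧ (v r)⁻¹ * s ∈ cl v D := by
    refine clo_ind (S := S) (p := fun s => ∃ r < 19683, zt D r = true ∧ (v r)⁻¹ * s ∈ cl v D) ?_
      ⟨0, by decide, e.1.2, by simp [h.zero]⟩ ?_ hs
    · rintro _ ⟨x, hx, rfl⟩
      exact h.mem ((by decide : ∀ x ∈ g3, x < 19683) x hx)
    · rintro _ ⟨x, hx, rfl⟩ y ⟨r, h1, h2, h3⟩
      have l := (by decide : ∀ x ∈ g3, x < 19683) x hx
      obtain ⟨h4, d, h5, h6⟩ := h.sf_spec e.1.1 (mu_lt l h1)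
      refine ⟨_, h4, (k r h2).2 x hx, ?_⟩
      rw [h.mul l h1] at h6
      rw [show v x = v (sf D (mu x r)) * d * (v r)⁻¹ by rw [← h6]; simp, mul_assoc, mul_assoc, inv_mul_cancel_left]
      exact mul_mem h5 h3
  exact ⟨r, h1, (k r h2).1, h3⟩

theorem CV_spec (e : CV E D P = true) (hs : s ∈ cl v E) :
    ∃ r < 19683, P r = true ∧ v r ∈ cl v E ∧ (v r)⁻¹ * s ∈ cl v D := by
  haveI := h.fin
  simp only [CV, band_iff, cov] at e
  have k : ∀ r, zt D r = true → mm E r = true → P r = true ∧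
      ∀ x ∈ E, zt D (sf D (mu x r)) = true ∧ mm E (sf D (mu x r)) = true := fun r hr hr' => by
    simpa only [brec_and, lall_iff, force_eq] using brec_imp.1 (alT_spec e.2 hr) hr'
  obtain ⟨r, h1, h2, h2', h3⟩ : ∃ r < 19683, zt D r = true ∧ mm E r = true ∧ (v r)⁻¹ * s ∈ cl v D := by
    refine clo_ind (S := S) (p := fun s => ∃ r < 19683, zt D r = true ∧ mm E r = true ∧ (v r)⁻¹ * s ∈ cl v D) ?_
      ⟨0, by decide, e.1.2.1, e.1.2.2, by simp [h.zero]⟩ ?_ hs
    · rintro _ ⟨x, hx, rfl⟩
      exact h.mem (okl_iff.1 e.1.1.2 x hx)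
    · rintro _ ⟨x, hx, rfl⟩ y ⟨r, h1, h2, h2', h3⟩
      have l := okl_iff.1 e.1.1.2 x hx
      obtain ⟨h4, d, h5, h6⟩ := h.sf_spec e.1.1.1 (mu_lt l h1)
      refine ⟨_, h4, ((k r h2 h2').2 x hx).1, ((k r h2 h2').2 x hx).2, ?_⟩
      rw [h.mul l h1] at h6
      rw [show v x = v (sf D (mu x r)) * d * (v r)⁻¹ by rw [← h6]; simp, mul_assoc, mul_assoc, inv_mul_cancel_left]
      exact mul_mem h5 h3
  exact ⟨r, h1, (k r h2 h2').1, h.mm_spec e.1.1.2 h1 h2', h3⟩

end Md

end CF.Cw3
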