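import Cfsg.Agent.Cw3.C
import Cfsg.Agent.Cw3.G

/-! Classes of elements of order three modulo the terms of the chain. -/

set_option autoImplicit false
set_option maxRecDepth 100000
set_option Elab.async false

namespace CF.Cw3

open CF.Comp

/-- every coset of the `k`-th term (order `n`) that passes the filter is conjugate to the coset of a representative -/
noncomputable def CL (n m : ℕ) (ys : List ℕ) (tab : BT ℕ) (reps : List ℕ) : Bool :=
  allN m fun i => force (Nat.mul n i) fun c => Bool.rec true (Bool.rec true (Bool.rec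
    (force (r16 tab (Nat.div i 243) (Nat.mod i 243)) fun s => band (lt s 19683)
      (force (cjc c s) fun d => lm reps (Nat.sub d (Nat.mod d n)))) true (ccl [c] g3 n))
    (anyN n fun z => Nat.beq (cu (mu c z)) 0)) (lall (fun y => Nat.beq (cc c y) 0) ys)

/-- `E` is the centralizer of the representatives modulo the `k`-th term -/
noncomputable def CEQ (k : ℕ) (q : List ℕ × List ℕ) : Bool := band (CC q.2 q.1 k)
  (CVS q.1 fun t => Bool.rec (lall (fun r => Nat.ble (Nat.pow 3 k) (cc r t)) q.2) true (Nat.beq t 0))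

/-- all representatives -/
noncomputable def rps (L : List (List ℕ × List ℕ)) : List ℕ :=
  List.rec (motive := fun _ => List ℕ) [] (fun q _ r => lapp q.2 r) L

/-- the subgroups at level 0 -/
def L0 : List (List ℕ × List ℕ) :=
  [([0, 0, 0, 243, 81, 27, 9, 3, 1], [81, 82, 83, 162, 163, 164, 246, 249, 252, 253, 254, 261, 262, 263, 489, 492, 495, 496, 497, 504, 505, 506]),
  ([0, 2187, 729, 0, 0, 0, 9, 3, 1], [2187, 2188, 2189, 4374, 4375, 4376]),
  ([0, 2187, 729, 243, 81, 27, 9, 3, 1], [3, 6, 9, 10, 11, 18, 19, 20]),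
  ([0, 2214, 0, 0, 0, 0, 9, 3, 1], [2214, 4428]),
  ([0, 2241, 0, 0, 0, 0, 9, 3, 1], [2241, 4401]),
  ([6561, 0, 0, 243, 81, 27, 9, 3, 1], [27, 54, 243, 244, 245, 486, 487, 488]),
  ([6561, 0, 729, 243, 0, 27, 0, 0, 1], [6561, 13122]),
  ([6561, 0, 810, 243, 0, 27, 0, 0, 1], [6858, 13635]),
  ([6561, 0, 891, 243, 0, 27, 0, 0, 1], [7074, 13419]),
  ([6561, 2187, 729, 0, 0, 0, 9, 3, 1], [729, 1458]),
  ([6570, 0, 900, 414, 0, 33, 0, 0, 1], [7785, 14874]),
  ([6570, 0, 909, 333, 0, 30, 0, 0, 1], [8568, 14118]),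
  ([6579, 0, 819, 333, 0, 30, 0, 0, 1], [8307, 14349]),
  ([6579, 0, 828, 414, 0, 33, 0, 0, 1], [7551, 15132]),
  ([6642, 0, 738, 243, 0, 27, 0, 0, 1], [6669, 13311]),
  ([6642, 2187, 729, 0, 0, 0, 9, 3, 1], [744, 1479]),
  ([6723, 0, 747, 243, 0, 27, 0, 0, 1], [6777, 13257]),
  ([6723, 2187, 729, 0, 0, 0, 9, 3, 1], [750, 1473]),
  ([6804, 0, 810, 0, 0, 0, 9, 3, 1], [813, 1623]),
  ([7047, 0, 891, 0, 0, 0, 9, 3, 1], [897, 1545]),
  ([8748, 0, 0, 243, 81, 27, 9, 3, 1], [48, 69]),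
  ([8748, 0, 729, 0, 0, 45, 0, 0, 1], [9477, 18225]),
  ([10935, 0, 0, 243, 81, 27, 9, 3, 1], [42, 75]),
  ([10935, 0, 729, 0, 0, 36, 0, 0, 1], [12393, 16767])]

/-- the subgroups at level 1 -/
def L1 : List (List ℕ × List ℕ) :=
  [([0, 0, 0, 243, 81, 27, 9, 3, 1], [81, 162, 252, 261, 495, 504]),
  ([0, 2187, 729, 0, 0, 0, 9, 3, 1], [2187, 4374]),
  ([0, 2187, 729, 243, 81, 27, 9, 3, 1], [9, 18]),
  ([0, 2214, 729, 0, 0, 0, 9, 3, 1], [2214, 4428]),
  ([0, 2241, 729, 0, 0, 0, 9, 3, 1], [2241, 4401]),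
  ([6561, 0, 0, 243, 81, 27, 9, 3, 1], [243, 246, 249, 486, 489, 492]),
  ([6561, 0, 729, 243, 0, 27, 0, 3, 1], [6561, 13122]),
  ([6561, 0, 729, 243, 81, 27, 9, 3, 1], [27, 54]),
  ([6561, 0, 810, 243, 0, 27, 0, 3, 1], [6804, 13608]),
  ([6561, 0, 891, 243, 0, 27, 0, 3, 1], [7047, 13365]),
  ([6561, 2187, 729, 0, 0, 27, 9, 3, 1], [729, 1458]),
  ([6570, 0, 900, 414, 0, 27, 0, 3, 1], [7785, 14841]),
  ([6570, 0, 909, 333, 0, 27, 0, 3, 1], [8514, 14112]),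
  ([6579, 0, 819, 333, 0, 27, 0, 3, 1], [8280, 14346]),
  ([6579, 0, 828, 414, 0, 27, 0, 3, 1], [7551, 15075]),
  ([6642, 0, 738, 243, 0, 27, 0, 3, 1], [6642, 13284]),
  ([6642, 2187, 729, 0, 0, 27, 9, 3, 1], [738, 1476]),
  ([6723, 0, 747, 243, 0, 27, 0, 3, 1], [6723, 13203]),
  ([6723, 2187, 729, 0, 0, 27, 9, 3, 1], [747, 1467]),
  ([6804, 0, 810, 0, 0, 27, 9, 3, 1], [810, 1620]),
  ([7047, 0, 891, 0, 0, 27, 9, 3, 1], [891, 1539]),
  ([8748, 0, 729, 0, 0, 45, 0, 3, 1], [8748, 17496]),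
  ([8748, 0, 729, 243, 81, 27, 9, 3, 1], [45, 63]),
  ([10935, 0, 729, 0, 0, 36, 0, 3, 1], [10935, 15309]),
  ([10935, 0, 729, 243, 81, 27, 9, 3, 1], [36, 72])]

/-- the subgroups at level 2 -/
def L2 : List (List ℕ × List ℕ) :=
  [([0, 0, 729, 243, 81, 27, 9, 3, 1], [81, 162]),
  ([0, 2187, 729, 0, 0, 27, 9, 3, 1], [2187, 2214, 2241, 4374, 4401, 4428]),
  ([6561, 0, 0, 243, 81, 27, 9, 3, 1], [243, 252, 261, 486, 495, 504]),
  ([6561, 2187, 729, 0, 81, 27, 9, 3, 1], [729, 738, 747, 1458, 1467, 1476]),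
  ([6804, 0, 729, 0, 81, 27, 9, 3, 1], [810, 1620]),
  ([7047, 0, 729, 0, 81, 27, 9, 3, 1], [891, 1539])]

/-- the subgroups at level 3 -/
def L3 : List (List ℕ × List ℕ) :=
  [([0, 2187, 729, 0, 81, 27, 9, 3, 1], [2187, 2214, 2241, 4374, 4401, 4428]),
  ([0, 2187, 729, 243, 81, 27, 9, 3, 1], [81, 162]),
  ([6561, 0, 0, 243, 81, 27, 9, 3, 1], [243, 486]),
  ([6561, 2187, 729, 0, 81, 27, 9, 3, 1], [729, 1458]),
  ([6804, 2187, 729, 0, 81, 27, 9, 3, 1], [810, 1620]),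
  ([7047, 2187, 729, 0, 81, 27, 9, 3, 1], [891, 1539])]

/-- the subgroups at level 4 -/
def L4 : List (List ℕ × List ℕ) :=
  [([6561, 0, 729, 243, 81, 27, 9, 3, 1], [243, 486])]

/-- the subgroups at level 6 -/
def L6 : List (List ℕ × List ℕ) :=
  [([0, 2187, 729, 243, 81, 27, 9, 3, 1], [2187, 4374]),
  ([6561, 0, 729, 243, 81, 27, 9, 3, 1], [6561, 13122]),
  ([8748, 0, 729, 243, 81, 27, 9, 3, 1], [8748, 17496]),
  ([10935, 0, 729, 243, 81, 27, 9, 3, 1], [10935, 15309])]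

theorem kQ0 : lall (CEQ 0) L0 = true := by decide +kernel

theorem kL0 : CL 1 19683 [] tC0 (rps L0) = true := by decide +kernel

theorem kQ1 : lall (CEQ 1) L1 = true := by decide +kernel

theorem kL1 : CL 3 6561 [] tC1 (rps L1) = true := by decide +kernel

theorem kQ2 : lall (CEQ 2) L2 = true := by decide +kernel

theorem kL2 : CL 9 2187 [3] tC2 (rps L2) = true := by decide +kernel

theorem kQ3 : lall (CEQ 3) L3 = true := by decide +kernel

theorem kL3 : CL 27 729 [3, 9] tC3 (rps L3) = true := by decide +kernel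

theorem kQ4 : lall (CEQ 4) L4 = true := by decide +kernel

theorem kL4 : CL 81 243 [3, 9, 27] tC4 (rps L4) = true := by decide +kernel

theorem kL5 : CL 243 81 [3, 9, 27, 81] (BT.leaf 0) (rps []) = true := by decide +kernel

theorem kQ6 : lall (CEQ 6) L6 = true := by decide +kernel

theorem kL6 : CL 729 27 [] tC6 (rps L6) = true := by decide +kernel

theorem kL7 : CL 2187 9 [] (BT.leaf 0) (rps []) = true := by decide +kernel

theorem kL8 : CL 6561 3 [] (BT.leaf 0) (rps []) = true := by decide +kernel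

end CF.Cw3
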