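import Cfsg.Agent.Cw3.J

/-! Rules for invariant subgroups. -/

set_option autoImplicit false
set_option linter.style.haveILetI false
set_option linter.unusedSimpArgs false

namespace CF.Cw3

open Cfsg Cfsg.FusionSystem Subgroup CF.Fus CF.FusU CF.Comp CF.Th3

variable {Ω : Type*} [Group Ω] {S E U W H T : Subgroup Ω} {F : FusionSystem S} {v : ℕ → Ω}
  {Y M : Subgroup (MulAut E)} {g α β : MulAut E} {s t x y : Ω} {a b c j k r : ℕ} {A B C D N R ys : List ℕ}

/-- the codes that pass the sifting test form the subgroup -/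
noncomputable def KL (D : List ℕ) : Bool := band (band (okl D) (mm D 0))
  (allN 19683 fun c => Bool.rec true (lall (fun g => mm D (mu g c)) D) (mm D c))

/-- membership -/
noncomputable def MM (D : List ℕ) (c : ℕ) : Bool := band (band (okl D) (lt c 19683)) (mm D c)

/-- failure of the sifting test -/
noncomputable def NN (D : List ℕ) (c : ℕ) : Bool := band (lt c 19683) (Bool.rec true false (mm D c))

/-- all commutators lie in `D` -/
noncomputable def CD (A B D : List ℕ) : Bool := band (band (band (okl A) (okl B)) (band (lall (NM D) A) (lall (NM D) B)))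
  (lall (fun a => lall (fun b => MM D (cc a b)) B) A)

/-- the centralizer in `A` of `ys` modulo `D` is `C` -/
noncomputable def CX (A ys D C : List ℕ) : Bool := band (CD C ys D)
  (CV A C fun r => Bool.rec (lany (fun y => NN D (cc r y)) ys) true (Nat.beq r 0))

/-- `C` is generated by commutators of `A` with `B` -/
noncomputable def GD (A B C : List ℕ) (L : List (ℕ × ℕ)) : Bool :=
  band (LE C (lmap (fun q => cc q.1 q.2) L)) (lall (fun q => band (MM A q.1) (MM B q.2)) L)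

theorem kK0 : KL (zl 0) = true := by decide +kernel
theorem kK1 : KL (zl 1) = true := by decide +kernel
theorem kK2 : KL (zl 2) = true := by decide +kernel
theorem kK3 : KL (zl 3) = true := by decide +kernel
theorem kK4 : KL (zl 4) = true := by decide +kernel
theorem kK5 : KL (zl 5) = true := by decide +kernel
theorem kK6 : KL (zl 6) = true := by decide +kernel

/-- the subgroup is invariant -/
def St (E : Subgroup Ω) (Y : Subgroup (MulAut E)) (v : ℕ → Ω) (A : List ℕ) : Prop := Y ≤ stab E (cl v A) ∧ cl v A ≤ E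

theorem St.top (h : E = cl v A) : St E Y v A := ⟨h ▸ stab_self.ge.trans' le_top, h.ge⟩

theorem St.im (h : St E Y v A) (hx : x ∈ cl v A) : Im E Y x (cl v A) := Im.stab h.1 h.2 hx

theorem St.of_im (h : ∀ c ∈ A, Im E Y (v c) (cl v A)) : St E Y v A := ⟨stab_of_im h, cl_le.2 fun c hc => (h c hc).1⟩

theorem St.mono {Y' : Subgroup (MulAut E)} (h : St E Y v A) (l : Y' ≤ Y) : St E Y' v A := ⟨l.trans h.1, h.2⟩

theorem St.not_mem (h : St E Y v A) (hα : α ∈ Y) (hx : x ∉ cl v A) : fn α x ∉ cl v A := fun e =>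
  hx (fn_inv_fn α x ▸ stab_maps (h.1 (inv_mem hα)) e)

theorem Im.cm' (h1 : Im E Y x U) (h2 : Im E Y y W) (k : ∀ u ∈ U, ∀ w ∈ W, cm u w ∈ H) : Im E Y (cm x y) H :=
  ⟨cm_mem' h1.1 h2.1, fun α hα => by rw [fn_cm α h1.1 h2.1]; exact k _ (h1.2 α hα) _ (h2.2 α hα)⟩

namespace Md

variable (h : Md S v)
include h

theorem mem_of (e : MM D c = true := by decide +kernel) : v c ∈ cl v D := h.mem' e

theorem not_mem (e : KL D = true) (e' : NN D c = true := by decide +kernel) : v c ∉ cl v D := fun m => by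
  haveI := h.fin
  simp only [KL, NN, band_iff, lt_iff] at e e'
  have o := okl_iff.1 e.1.1
  obtain ⟨d, d1, d2, d3⟩ : ∃ d < 19683, v d = v c ∧ mm D d = true := by
    refine clo_ind (S := S) (p := fun x => ∃ d < 19683, v d = x ∧ mm D d = true) ?_ ⟨0, by decide, h.zero, e.1.2⟩ ?_ m
    · rintro _ ⟨c, hc, rfl⟩; exact h.mem (o c hc)
    · rintro _ ⟨c, hc, rfl⟩ _ ⟨d, hd, rfl, k⟩
      exact ⟨_, mu_lt (o c hc) hd, h.mul (o c hc) hd, lall_iff.1 (brec_imp.1 (allN_spec e.2 le_rfl d hd) k) c hc⟩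
  rw [← h.inj d1 e'.1 d2, d3] at e'
  exact absurd e'.2 (by decide)

theorem NM_all (e : lall (NM D) A = true) : cl v A ≤ normalizer (cl v D : Set Ω) :=
  cl_le.2 fun c hc => (h.NM_spec (lall_iff.1 e c hc)).2

theorem nrm (e : lall (NM D) g3 = true := by decide +kernel) : S ≤ normalizer (cl v D : Set Ω) :=
  h.S_eq3.le.trans (h.NM_all e)

theorem CD_spec (e : CD A B D = true) (hx : x ∈ cl v A) (hy : y ∈ cl v B) : cm x y ∈ cl v D := by
  simp only [CD, band_iff] at e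
  refine cm_closure ?_ ?_ ?_ hx hy
  · rintro _ ⟨a, ha, rfl⟩; exact h.NM_all e.1.2.1 (mem_cl ha)
  · rintro _ ⟨a, ha, rfl⟩; exact h.NM_all e.1.2.2 (mem_cl ha)
  · rintro _ ⟨a, ha, rfl⟩ _ ⟨b, hb, rfl⟩
    rw [← h.cc (okl_iff.1 e.1.1.1 a ha) (okl_iff.1 e.1.1.2 b hb)]
    exact h.mem_of (lall_iff.1 (lall_iff.1 e.2 a ha) b hb)

theorem CX_spec (kD : KL D = true) (e : CX A ys D C = true) (hx : x ∈ cl v A) (k : ∀ y ∈ ys, cm x (v y) ∈ cl v D) :
    x ∈ cl v C := by
  obtain ⟨e1, e2⟩ := band_iff.1 e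
  obtain ⟨r, r1, r2, -, r3⟩ := h.CV_spec e2 hx
  rcases brec_or.1 r2 with r0 | r0
  · simpa [beq_iff.1 r0, h.zero] using r3
  obtain ⟨y, y1, y2⟩ := lany_iff.1 r0
  have o := band_iff.1 (band_iff.1 e1).1
  refine absurd ?_ (h.not_mem kD y2)
  rw [h.cc r1 (okl_iff.1 (band_iff.1 o.1).2 y y1)]
  exact Cg.cm_mem (Cg.symm r3) (fun c hc => h.CD_spec e1 hc (mem_cl y1)) (h.NM_all (band_iff.1 o.2).1) (k y y1)

theorem GD_spec {L : List (ℕ × ℕ)} (e : GD A B C L = true) (k : ∀ x ∈ cl v A, ∀ y ∈ cl v B, cm x y ∈ H) : cl v C ≤ H := by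
  simp only [GD, band_iff, lall_iff, lmap_eq] at e
  refine (h.LE_spec e.1).trans (cl_le.2 fun c hc => ?_)
  obtain ⟨q, h1, rfl⟩ := List.mem_map.1 hc
  obtain ⟨h2, h3⟩ := e.2 q h1
  rw [h.cc (lt_iff.1 (band_iff.1 (band_iff.1 h2).1).2) (lt_iff.1 (band_iff.1 (band_iff.1 h3).1).2)]
  exact k _ (h.mem_of h2) _ (h.mem_of h3)

theorem st0 : St E Y v (zl 0) := by
  have e : cl v (zl 0) = ⊥ := h.Z_zero
  exact ⟨e ▸ le_stab_bot, e ▸ bot_le⟩

theorem cen (C : List ℕ) (hA : St E Y v A) (hB : St E Y v B) (hD : St E Y v D) (kD : KL D = true)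
    (e : band (LE C A) (CX A B D C) = true := by decide +kernel) : St E Y v C := by
  obtain ⟨e1, e2⟩ := band_iff.1 e
  have l := h.LE_spec e1
  exact .of_im fun c hc => ⟨hA.2 (l (mem_cl hc)), fun α hα => h.CX_spec kD e2 (stab_maps (hA.1 hα) (l (mem_cl hc)))
    fun y k => (hB.im (mem_cl k)).cen' hD.1 (hA.2 (l (mem_cl hc)))
      (fun _ hu => h.CD_spec (band_iff.1 e2).1 (mem_cl hc) hu) hα⟩

theorem der (C : List ℕ) (L : List (ℕ × ℕ)) (hA : St E Y v A) (hB : St E Y v B)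
    (e : band (CD A B C) (GD A B C L) = true := by decide +kernel) : St E Y v C :=
  .of_im fun _ hc => h.GD_spec (H := imG E Y (cl v C)) (band_iff.1 e).2
    (fun _ hx _ hy => Im.cm' (hA.im hx) (hB.im hy) fun _ hu _ hw => h.CD_spec (band_iff.1 e).1 hu hw) (mem_cl hc)

theorem sup (C : List ℕ) (hA : St E Y v A) (hB : St E Y v B)
    (e : band (band (LE A C) (LE B C)) (lall (fun c => Bool.rec (MM B c) true (MM A c)) C) = true := by decide +kernel) :
    St E Y v C := by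
  simp only [band_iff, lall_iff, brec_or] at e
  exact .of_im fun c hc => (e.2 c hc).elim (fun k => (hA.im (h.mem_of k)).mono (h.LE_spec e.1.1))
    fun k => (hB.im (h.mem_of k)).mono (h.LE_spec e.1.2)

theorem ins (C : List ℕ) (hA : St E Y v A) (i : Im E Y (v a) (cl v C))
    (e : band (LE A C) (lall (fun c => Bool.rec (Nat.beq c a) true (MM A c)) C) = true := by decide +kernel) :
    St E Y v C := by
  simp only [band_iff, lall_iff, brec_or, beq_iff] at e
  exact .of_im fun c hc => (e.2 c hc).elim (fun k => (hA.im (h.mem_of k)).mono (h.LE_spec e.1)) fun k => k ▸ i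

/-- elements of small rank -/
theorem rk (C D' : List ℕ) (b : ℕ) (hE : E = cl v A) (i : Im E Y (v a) (cl v N)) (hB : St E Y v B) (kB : KL B = true)
    (hD : St E Y v D) (kD : KL D = true)
    (e : band (band (band (lt a 19683) (MM A b)) (band (NN B b) (MM D (Cw3.cc b a)))) (band (band (LE C D') (CD A C D))
      (CV N C fun r => Bool.rec (CX A [r] D B) true (MM D' r))) = true := by decide +kernel) :
    Im E Y (v a) (cl v D') := ⟨i.1, fun α hα => by
  simp only [band_iff, lt_iff] at e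
  obtain ⟨⟨⟨e1, e2⟩, e3, e4⟩, ⟨e5, e6⟩, e7⟩ := e
  obtain ⟨r, r1, r2, r3, r4⟩ := h.CV_spec e7 (i.2 α hα)
  rcases brec_or.1 r2 with r0 | r0
  · exact Cg.mem r4 (h.LE_spec e5) (h.mem_of r0)
  have b1 := h.mem_of e2
  have b2 := fn_mem α (hE ▸ b1)
  refine absurd (h.CX_spec kD r0 (hE ▸ b2) fun y hy => ?_) (hB.not_mem hα (h.not_mem kB e3))
  have n := h.NM_all (band_iff.1 (band_iff.1 (band_iff.1 e6).1).2).1
  rw [List.mem_singleton.1 hy]
  refine Cg.cm_mem' (Cg.symm r4) (fun c hc => h.CD_spec e6 (hE ▸ b2) hc) (n (hE ▸ fn_mem α i.1)) ?_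
  rw [← fn_cm α (hE ▸ b1) i.1, ← h.cc (lt_iff.1 (band_iff.1 e3).1) e1]
  exact stab_maps (hD.1 hα) (h.mem_of e4)⟩

theorem lv0 : Lv Y α (cl v (zl 0)) := by
  have e : cl v (zl 0) = ⊥ := h.Z_zero
  exact e ▸ Lv.bot

theorem lvs (ht : t ∈ cl v N) (hn : t ∈ normalizer (E : Set Ω)) (l : Lv Y (cA E t) (cl v A)) (hB : St E Y v B)
    (e : CD B N A = true := by decide +kernel) : Lv Y (cA E t) (cl v B) :=
  l.stepc hn hB.1 fun _ _ hx => h.CD_spec e hx ht

theorem comm (hx : x ∈ cl v A) (hy : y ∈ cl v B) (e : CC A B 0 = true := by decide +kernel) : x * y = y * x :=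
  cm_eq_one.1 (mem_bot.1 (h.Z_zero ▸ h.CC_spec e hx hy))

theorem cen' (hx : x ∈ cl v A) (k : ∀ y ∈ cl v B, x * y = y * x) (e : CE A B 0 D = true := by decide +kernel) :
    x ∈ cl v D := h.CE_spec e hx fun y hy => by rw [cm_eq_one.2 (k _ (mem_cl hy))]; exact one_mem _

theorem pow3 (hk : k < 9) : v (3 ^ k) ^ 3 ∈ Z v k := by
  rw [← h.cu (pow_lt hk)]
  exact h.Z_of_lt hk.le ((by decide +kernel : ∀ k < 9, Cw3.cu (3 ^ k) < 3 ^ k) k hk)

omit h in
theorem Z_succ (hk : k < 9) : Z v (k + 1) ≤ Z v k ⊔ zpowers (v (3 ^ k)) := cl_le.2 fun c hc => by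
  rcases (by decide : ∀ k < 9, ∀ c ∈ zl (k + 1), c ∈ zl k ∨ c = 3 ^ k) k hk c hc with e | rfl
  exacts [mem_sup_left (mem_cl e), mem_sup_right (mem_zpowers _)]

theorem gen3 (hk : k < 9) (hD : Z v k ≤ H) (hx : x ∈ Z v (k + 1)) (hx' : x ∉ Z v k) (hH : x ∈ H) :
    Z v (k + 1) ≤ H :=
  haveI := h.fin
  (Z_succ hk).trans (sup_le hD (zpowers_le.2 (Th3.gen3 (h.mem (pow_lt hk)) (h.Z_norm hk.le (h.mem (pow_lt hk)))
    (h.pow3 hk) (Z_succ hk hx) hx' hD hH)))

theorem z_mem (hT : T ≤ S) (hn : S ≤ normalizer (T : Set Ω)) (h0 : T ≠ ⊥) : Z v 1 ≤ T := by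
  have key : ∀ k ≤ 9, ∀ t ∈ T, t ∈ Z v k → t ≠ 1 → Z v 1 ≤ T := fun k hk => by
    induction k with
    | zero => exact fun t _ h1 h2 => absurd (mem_bot.1 (h.Z_zero ▸ h1)) h2
    | succ k ih =>
      intro t h1 h2 h3
      by_cases c : ∀ s ∈ S, t * s = s * t
      · exact h.gen3 (k := 0) (by decide) (h.Z_zero ▸ bot_le) (h.cen' (A := zl 6) (B := g3) (h.cen' (B := zl 6)
          (h.S_eq ▸ hT h1) fun y hy => c y (h.Z_le (by decide) hy)) fun y hy => c y (h.S_eq3 ▸ hy))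
          (by rwa [h.Z_zero, mem_bot]) h1
      · push Not at c
        obtain ⟨s, s1, s2⟩ := c
        exact ih (by omega) _ (cm_mem h1 (hn s1)) (h.cm_Z hk h2 s1) (mt cm_eq_one.1 s2)
  obtain ⟨⟨t, h1⟩, h2⟩ := ne_bot_iff_exists_ne_one.1 h0
  exact key 9 le_rfl t h1 (h.Z_top.symm ▸ hT h1) (by simpa using h2)

end Md

end CF.Cw3
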