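import Cfsg.Agent.Cw3.K

/-! Most of the explicit subgroups are not essential. -/

set_option autoImplicit false
set_option linter.style.haveILetI false
set_option linter.unusedSimpArgs false

namespace CF.Cw3

open Cfsg Cfsg.FusionSystem Subgroup CF.Fus CF.FusU CF.Comp CF.Th3

variable {Ω : Type*} [Group Ω] {S E U W H T : Subgroup Ω} {F : FusionSystem S} {v : ℕ → Ω}
  {Y M : Subgroup (MulAut E)} {g α β : MulAut E} {s t x y : Ω} {a b c j k r : ℕ} {A B C D N R ys : List ℕ}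

/-- the second parabolic radical -/
def lB : List ℕ := [6561, 0, 729, 243, 81, 27, 9, 3, 1]
/-- the third parabolic radical -/
def lC : List ℕ := [6561, 2187, 729, 0, 81, 27, 9, 3, 1]
/-- the fourth radical subgroup -/
def lD (x : ℕ) : List ℕ := [x, 0, 0, 243, 81, 27, 9, 3, 1]
/-- an elementary abelian subgroup of order 243 -/
def lX : List ℕ := [0, 2187, 729, 0, 0, 0, 9, 3, 1]
/-- the derived subgroup of `lB` -/
def lU : List ℕ := [0, 0, 0, 0, 0, 27, 0, 3, 1]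

theorem kX : KL lX = true := by decide +kernel

theorem kU : KL lU = true := by decide +kernel

theorem Lk.stZ (h : Lk F v E Y M k) (j : ℕ) (hj : j ≤ k := by decide) : St E Y v (zl j) := ⟨h.inv j hj, h.Zle (by omega)⟩

theorem Lk.mv (h : Lk F v E Y M k) : ∃ g ∈ Y, ¬ Cg (Z v k) (v (3 ^ k)) (fn g (v (3 ^ k))) := by
  obtain ⟨t, ht, tn⟩ := h.mx.ext
  obtain ⟨g, g1, g2⟩ := h.mx.exg
  have n := h.md.Z_norm h.lt.le
  exact ⟨g, g1, fun e => tn ((h.all g g1 g2 t ht.1).2 (e.cm_mem (fun c hc => cm_mem hc (n ht.1)) le_normalizer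
    (h.md.cm_Z h.lt (h.md.gen_mem h.lt) ht.1)))⟩

namespace Lr

variable (h : Lr F v E Y M k A R)
include h

theorem st : St E Y v A := .top h.eq

theorem r2 (a b j : ℕ) (e1 : MM A a = true := by decide +kernel) (e2 : MM A b = true := by decide +kernel)
    (e3 : band (band (band (Cw3.lt a 19683) (Cw3.lt b 19683)) (Nat.beq (cc a b) (cc a b))) (CC A A j) = true := by
      decide +kernel)
    (e4 : band (band (Cw3.lt (cc a b) 19683) (Cw3.lt (3 ^ k) 19683)) (Cw3.lt (mu (iv (cc a b)) (3 ^ k)) (Nat.pow 3 k)) = true :=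
      by decide +kernel)
    (e5 : ∀ r ∈ R, 3 ^ j ≤ r := by decide) (hj : k ≤ j := by decide) (hj' : j ≤ 9 := by decide) : False :=
  h.fin1 (h.md.im_cm (h.im e1) (h.im e2) e3 hj') (h.md.cg e4 h.lt.le) e5 hj hj'

theorem tv (r : ℕ) (B : List ℕ) (j w t s : ℕ) (e : TV A r k B j w t s = true := by decide +kernel)
    (hj : j ≤ k := by decide) : False :=
  h.md.TV_spec h.mx.toMn h.eq (fun l hl => h.inv l (hl.trans hj)) (h.Zle (by omega)) e h.lt.le (hj.trans h.lt.le)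

end Lr

theorem Lr.nrm (h : Lr F (fun c => s⁻¹ * v c * s) E Y M k A R) (hs : s ∈ S)
    (e : lall (NM A) g3 = true := by decide +kernel) : E = cl v A := by
  have := cl_cj (inv_mem hs) (h.md.nrm e)
  simp only [inv_inv, ← mul_assoc, mul_inv_cancel, one_mul, mul_inv_cancel_right] at this
  exact h.eq.trans this.symm

theorem Lr.r3 (h : Lr F v E Y M 0 A R) (a b c i j : ℕ)
    (e1 : MM A a = true := by decide +kernel) (e2 : MM A b = true := by decide +kernel)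
    (e3 : MM A c = true := by decide +kernel)
    (e4 : band (band (band (Cw3.lt a 19683) (Cw3.lt b 19683)) (Nat.beq (cc a b) (cc a b))) (CC A A i) = true := by decide +kernel)
    (e5 : band (band (band (Cw3.lt (cc a b) 19683) (Cw3.lt c 19683)) (Nat.beq (cc (cc a b) c) 1)) (CC (zl i) A j) = true := by
      decide +kernel)
    (e6 : ∀ r ∈ R, 3 ^ j ≤ r := by decide) (hi : i ≤ 9 := by decide) (hj : j ≤ 9 := by decide) : False :=
  h.fin1 (h.md.im_cm (h.md.im_cm (h.im e1) (h.im e2) e4 hi) (h.im e3) e5 hj) (Cg.refl _) e6 j.zero_le hj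

theorem Lr.s0 (h : Lr F v E Y M 0 A R) (x y : ℕ) (p q : ℕ × ℕ)
    (e1 : band (CD A A [0, 0, y, 0, 0, 0, 0, 3, 1]) (GD A A [0, 0, y, 0, 0, 0, 0, 3, 1]
      [(0, 0), (0, 0), p, (0, 0), (0, 0), (0, 0), (0, 0), q, (x, 3)]) = true := by decide +kernel)
    (e2 : MM A x = true := by decide +kernel) (e3 : MM [0, 0, y, 0, 0, 0, 0, 3, 1] 3 = true := by decide +kernel)
    (e4 : band (band (band (Cw3.lt x 19683) (Cw3.lt 3 19683)) (Nat.beq (cc x 3) 1))
      (CC A [0, 0, y, 0, 0, 0, 0, 3, 1] 1) = true := by decide +kernel)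
    (e5 : ∀ r ∈ R, 3 ^ 1 ≤ r := by decide) : False :=
  h.fin1 (h.md.im_cm (h.im e2) ((h.md.der _ _ h.st h.st e1).im (h.md.mem_of e3)) e4) (Cg.refl _) e5

theorem Lr.s1 (h : Lr F v E Y M 1 A R) (x y : ℕ)
    (e1 : band (LE [0, 0, y, 0, 0, 0, 0, 3, 1] A) (CX A A (zl 1) [0, 0, y, 0, 0, 0, 0, 3, 1]) = true := by decide +kernel)
    (e2 : band (LE lX A) (CX A [0, 0, y, 0, 0, 0, 0, 3, 1] (zl 0) lX) = true := by decide +kernel)
    (e3 : band (band (band (Cw3.lt 9 19683) (MM A 27)) (band (NN lX 27) (MM (zl 1) (cc 27 9))))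
      (band (band (LE [0, 0, y, 0, 0, 0, 0, 3, 1] [0, 0, 729, 0, 0, 0, 9, 3, 1]) (CD A [0, 0, y, 0, 0, 0, 0, 3, 1] (zl 1)))
      (CV lX [0, 0, y, 0, 0, 0, 0, 3, 1] fun r => Bool.rec (CX A [r] (zl 1) lX) true
        (MM [0, 0, 729, 0, 0, 0, 9, 3, 1] r))) = true := by decide +kernel)
    (e4 : MM A x = true := by decide +kernel)
    (e5 : band (band (band (Cw3.lt 9 19683) (Cw3.lt x 19683)) (Nat.beq (cc 9 x) 4))
      (CC [0, 0, 729, 0, 0, 0, 9, 3, 1] A 2) = true := by decide +kernel)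
    (e6 : ∀ r ∈ R, 3 ^ 2 ≤ r := by decide) : False :=
  have m := h.md
  have sX := m.cen lX h.st (m.cen _ h.st h.st (h.stZ 1) kK1 e1) m.st0 kK0 e2
  h.fin1 (m.im_cm (m.rk _ _ 27 h.eq (sX.im m.mem_of) sX kX (h.stZ 1) kK1 e3) (h.im e4) e5) m.cg e6

theorem Lr.s2 (h : Lr F v E Y M 1 A R) (y z : ℕ)
    (e1 : band (LE [0, 0, 0, 0, 0, y, 0, 3, 1] A) (CX A A (zl 1) [0, 0, 0, 0, 0, y, 0, 3, 1]) = true := by decide +kernel)
    (e2 : band (LE (zl 6) A) (CX A [0, 0, 0, 0, 0, y, 0, 3, 1] (zl 0) (zl 6)) = true := by decide +kernel)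
    (e3 : band (band (band (Cw3.lt 28 19683) (MM A 729)) (band (NN (zl 6) 729) (MM (zl 1) (cc 729 28))))
      (band (band (LE [0, 0, 0, 0, 0, y, 0, 3, 1] (zl 4)) (CD A [0, 0, 0, 0, 0, y, 0, 3, 1] (zl 1)))
      (CV (zl 5) [0, 0, 0, 0, 0, y, 0, 3, 1] fun r => Bool.rec (CX A [r] (zl 1) (zl 6)) true
        (MM (zl 4) r))) = true := by decide +kernel)
    (e4 : MM A z = true := by decide +kernel) (e4' : MM A 729 = true := by decide +kernel)
    (e5 : band (band (band (Cw3.lt 28 19683) (Cw3.lt z 19683)) (Nat.beq (cc 28 z) (cc 28 z))) (CC (zl 4) A 2) = true := by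
      decide +kernel)
    (e6 : band (band (Cw3.lt (cc 28 z) 19683) (Cw3.lt (3 ^ 1) 19683)) (Cw3.lt (mu (iv (cc 28 z)) (3 ^ 1)) (Nat.pow 3 1)) =
      true := by decide +kernel)
    (e7 : band (band (band (Cw3.lt 243 19683) (Cw3.lt 729 19683)) (Nat.beq (cc 243 729) 28)) (CC (zl 6) A 5) = true := by
      decide +kernel)
    (e8 : ∀ r ∈ R, 3 ^ 2 ≤ r := by decide) : False :=
  have m := h.md
  have sJ := m.cen (zl 6) h.st (m.cen _ h.st h.st (h.stZ 1) kK1 e1) m.st0 kK0 e2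
  h.fin1 (m.im_cm (m.rk _ _ 729 h.eq (m.im_cm (sJ.im m.mem_of) (h.im e4') e7) sJ kK6 (h.stZ 1) kK1 e3) (h.im e4) e5)
    (m.cg e6) e8

theorem Lr.s3 (h : Lr F v E Y M 2 (lD 6561) R) : False := by
  have m := h.md
  have sJ := m.cen (zl 6) h.st (h.stZ 2) m.st0 kK0
  have sU := m.der lU [(0, 0), (0, 0), (0, 0), (0, 0), (0, 0), (13122, 81), (0, 0), (13122, 9), (6561, 3)] h.st h.st
  have t : v 729 ∈ NS S E := h.eq ▸ m.NM_spec (by decide +kernel)
  have t' : v 729 ∈ cl v [729] := mem_cl List.mem_cons_self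
  exact m.NI_spec (r := 243) (k := 2) (by decide +kernel) (by decide +kernel) (by decide) (h.eq ▸ lv_mem h.mx.toMn t
    ((m.lvs t' t.2 (m.lvs t' t.2 (m.lvs t' t.2 (m.lvs t' t.2 m.lv0 (h.stZ 1)) sU) sJ) h.st).stepc t.2 le_stab_top
      fun x hx _ => h.eq.le (cm_mem hx t.2)))

theorem Lk.cls (h : Lk F v E Y M k) : E = Z v 8 ∨ E = cl v lB ∨ E = cl v lC ∨
    (∃ s ∈ S, E = cl (fun c => s⁻¹ * v c * s) (lD 8748) ∨ E = cl (fun c => s⁻¹ * v c * s) (lD 10935)) ∨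
    (E = Z v 6 ∧ k ≤ 1) ∨ (k = 0 ∧ ∃ s ∈ S, E = cl (fun c => s⁻¹ * v c * s) lX) := by
  obtain ⟨s, hs, q, h, e⟩ := h.cases
  simp only [L0, L1, L2, L3, L4, L6, List.mem_cons, List.not_mem_nil, or_false] at e
  rcases e with ⟨rfl, rfl | rfl | rfl | rfl | rfl | rfl | rfl | rfl | rfl | rfl | rfl | rfl | rfl | rfl | rfl | rfl | rfl | rfl | rfl | rfl | rfl | rfl | rfl | rfl⟩ | ⟨rfl, rfl | rfl | rfl | rfl | rfl | rfl | rfl | rfl | rfl | rfl | rfl | rfl | rfl | rfl | rfl | rfl | rfl | rfl | rfl | rfl | rfl | rfl | rfl | rfl | rfl⟩ | ⟨rfl, rfl | rfl | rfl | rfl | rfl | rfl⟩ | ⟨rfl, rfl | rfl | rfl | rfl | rfl | rfl⟩ | ⟨rfl, rfl⟩ | ⟨rfl, rfl | rfl | rfl | rfl⟩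
  · exact .inr (.inr (.inr (.inr (.inl ⟨h.nrm hs, by decide⟩))))
  · exact .inr (.inr (.inr (.inr (.inr ⟨rfl, s, hs, h.eq⟩))))
  · exact .inl (h.nrm hs)
  · exact (h.tv 2214 [0, 2187, 729, 0, 81, 27, 9, 3, 1] 0 1 729 27).elim
  · exact (h.tv 2241 [0, 2187, 729, 0, 81, 27, 9, 3, 1] 0 1 729 27).elim
  · exact (h.r3 6561 9 6561 4 2).elim
  · exact (h.r2 54 729 4).elim
  · exact (h.r2 54 810 4).elim
  · exact (h.r2 54 891 4).elim
  · exact (h.s0 6561 729 (13122, 2187) (13122, 9)).elim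
  · exact (h.r2 33 6570 4).elim
  · exact (h.r2 60 6570 4).elim
  · exact (h.r2 60 6579 4).elim
  · exact (h.r2 33 6579 4).elim
  · exact (h.r2 54 738 4).elim
  · exact (h.s0 6642 738 (13338, 2187) (6642, 729)).elim
  · exact (h.r2 54 747 4).elim
  · exact (h.s0 6723 747 (13230, 2187) (13230, 729)).elim
  · exact (h.r2 6 6804 2).elim
  · exact (h.r2 6 7047 2).elim
  · exact .inr (.inr (.inr (.inl ⟨s, hs, .inl h.eq⟩)))
  · exact (h.r2 45 8748 1).elim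
  · exact .inr (.inr (.inr (.inl ⟨s, hs, .inr h.eq⟩)))
  · exact (h.r2 72 10935 1).elim
  · exact .inr (.inr (.inr (.inr (.inl ⟨h.nrm hs, by decide⟩))))
  · exact (h.tv 2187 [6561, 2187, 729, 0, 81, 27, 9, 3, 1] 1 3 27 81).elim
  · exact .inl (h.nrm hs)
  · exact (h.r1 0).elim
  · exact (h.r1 0).elim
  · exact (h.r2 9 6561 4).elim
  · exact (h.tv 6561 [6561, 0, 729, 243, 81, 27, 9, 3, 1] 1 3 9 81).elim
  · exact .inr (.inl (h.nrm hs))
  · exact (h.tv 6804 [6561, 0, 729, 243, 81, 27, 9, 3, 1] 1 3 9 81).elim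
  · exact (h.tv 7047 [6561, 0, 729, 243, 81, 27, 9, 3, 1] 1 3 9 81).elim
  · exact (h.s1 6561 729).elim
  · exact (h.tv 7785 [6561, 0, 729, 243, 81, 27, 9, 3, 1] 1 3 9 81).elim
  · exact (h.tv 8514 [6561, 0, 729, 243, 81, 27, 9, 3, 1] 1 3 9 81).elim
  · exact (h.tv 8280 [6561, 0, 729, 243, 81, 27, 9, 3, 1] 1 3 9 81).elim
  · exact (h.tv 7551 [6561, 0, 729, 243, 81, 27, 9, 3, 1] 1 3 9 81).elim
  · exact (h.tv 6642 [6561, 0, 729, 243, 81, 27, 9, 3, 1] 1 3 9 81).elim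
  · exact (h.s1 6642 738).elim
  · exact (h.tv 6723 [6561, 0, 729, 243, 81, 27, 9, 3, 1] 1 3 9 81).elim
  · exact (h.s1 6723 747).elim
  · exact (h.r2 9 6804 2).elim
  · exact (h.r2 9 7047 2).elim
  · exact (h.tv 8748 [6561, 2187, 729, 0, 81, 27, 9, 3, 1] 1 3 9 81).elim
  · exact (h.s2 45 8748).elim
  · exact (h.tv 10935 [6561, 2187, 729, 0, 81, 27, 9, 3, 1] 1 3 9 81).elim
  · exact (h.s2 36 15309).elim
  · exact (h.r1 0).elim
  · exact (h.r1 0).elim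
  · exact h.s3.elim
  · exact .inr (.inr (.inl (h.nrm hs)))
  · exact (h.tv 810 [6561, 2187, 729, 243, 81, 27, 9, 3, 1] 2 27 243 2187).elim
  · exact (h.tv 891 [6561, 2187, 729, 243, 81, 27, 9, 3, 1] 2 27 243 2187).elim
  · exact (h.r1 2).elim
  · exact .inl (h.nrm hs)
  · exact (h.r2 81 6561 4).elim
  · exact .inr (.inr (.inl (h.nrm hs)))
  · exact (h.r1 2).elim
  · exact (h.r1 2).elim
  · exact .inr (.inl (h.nrm hs))
  · exact .inl (h.nrm hs)
  · exact .inr (.inl (h.nrm hs))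
  · exact (h.r1 4).elim
  · exact (h.r1 4).elim

end CF.Cw3
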