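import Cfsg.Agent.Cw3.L
import Cfsg.Agent.FusD.D

/-! Characteristic subgroups of `S` and of the radical subgroups. -/

set_option autoImplicit false
set_option linter.style.haveILetI false
set_option linter.unusedSimpArgs false

namespace CF.Cw3

open Cfsg Cfsg.FusionSystem Subgroup CF.Fus CF.FusU CF.Comp CF.Th3

variable {Ω : Type*} [Group Ω] {S E U W H T : Subgroup Ω} {F : FusionSystem S} {v : ℕ → Ω}
  {Y M : Subgroup (MulAut E)} {g α β : MulAut E} {s t x y : Ω} {a b c j k r : ℕ} {A A' B B' C C' D N R L : List ℕ}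

/-- the Frattini subgroup -/
def lP : List ℕ := [0, 0, 729, 0, 81, 27, 9, 3, 1]
/-- the intersection of the first and third radicals -/
def lR : List ℕ := [0, 2187, 729, 0, 81, 27, 9, 3, 1]
/-- the derived subgroup of the third radical -/
def lE : List ℕ := [0, 0, 729, 0, 0, 27, 9, 3, 1]
/-- the intersection of the second and third radicals -/
def lF : List ℕ := [6561, 0, 729, 0, 81, 27, 9, 3, 1]
/-- the derived subgroup of the fourth radical -/
def lG : List ℕ := [0, 0, 0, 0, 99, 45, 0, 3, 1]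

theorem kK7 : KL (zl 7) = true := by decide +kernel
theorem kKP : KL lP = true := by decide +kernel
theorem kKE : KL lE = true := by decide +kernel
theorem kKG : KL lG = true := by decide +kernel

/-- some automorphism of `A` moves `L` -/
def Mv (F : FusionSystem S) (v : ℕ → Ω) (A L : List ℕ) : Prop :=
  ∃ α ∈ F.autGroup (cl v A), α ∉ stab (cl v A) (cl v L)

/-- `α` acts trivially on `A / B` -/
def Tr (α : MulAut E) (v : ℕ → Ω) (A B : List ℕ) : Prop := ∀ x ∈ cl v A, Cg (cl v B) x (fn α x)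

theorem Lv.tr (l : Lv Y α (cl v A)) (hB : St E Y v B) (h : Tr α v B A) : Lv Y α (cl v B) :=
  l.step hB.1 fun x _ hx => h x hx

theorem Lv.fin (l : Lv Y α (cl v A)) (hE : E = cl v A) : Lv Y α ⊤ :=
  l.step le_stab_top fun _ hx _ => Cg.of_mem (hE ▸ hx) (hE ▸ fn_mem α hx)

theorem norm_of_lv [Finite S] (hS : IsPGroup 3 S) (l : E ≤ S) {G : Subgroup (MulAut E)}
    (sy : SylIn 3 (autInducedBy S E) G) (hY : Y ≤ G) (hP : autInducedBy S E ≤ Y) (ht : t ∈ normalizer (E : Set Ω))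
    (hN : NS S E ≤ E ⊔ zpowers t) (lv : Lv Y (cA E t) ⊤) (hs : t ∈ S) :
    Y ≤ normalizer (autInducedBy S E : Set (MulAut E)) := by
  haveI : Fact (Nat.Prime 3) := ⟨Nat.prime_three⟩
  haveI := fin_of_le l
  refine sy.le_norm_of_OpIn hY fun α hα => ?_
  obtain ⟨s, s1, s2, rfl⟩ := mem_autInducedBy.1 hα
  obtain ⟨i, hi⟩ := ex_pow hs ht (hN ⟨s1, s2⟩)
  rw [← mul_inv_cancel_left (t ^ i) s, cA_mul (pow_mem ht i) (le_normalizer hi), cA_pow ht]
  exact mul_mem (pow_mem (lv.op (hS.to_le l) (hP (cA_mem_autInducedBy hs))) i)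
    (le_OpIn ((Inn_le_autInducedBy l).trans hP) (Inn_norm _) (isPGroup_Inn (hS.to_le l)) (cA_mem_Inn hi))

namespace Md

variable (h : Md S v)
include h

theorem trc (C C' : List ℕ) (L : List (ℕ × ℕ)) (hA : Tr α v A A') (hB : Tr α v B B') (lA : cl v A ≤ E) (lB : cl v B ≤ E)
    (e : band (band (band (GD A B C L) (LE B' B)) (band (CD A B C) (lall (NM C') C)))
      (band (CD A B' C') (band (band (CD A' B C') (CD C A' C')) (lall (NM C') B))) = true := by decide +kernel) :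
    Tr α v C C' := fun x hx => by
  simp only [band_iff] at e
  obtain ⟨⟨⟨e1, e2⟩, e3, e4⟩, e5, ⟨e6, e7⟩, e8⟩ := e
  refine (h.GD_spec (H := fx α (cl v C')) e1 (fun x hx y hy => ⟨cm_mem' (lA hx) (lB hy),
    h.NM_all e4 (h.CD_spec e3 hx hy), ?_⟩) hx).2.2
  have m : fn α y ∈ cl v B := (hB y hy).mem (h.LE_spec e2) hy
  rw [fn_cm α (lA hx) (lB hy)]
  exact ((hB y hy).cm_right (fun c hc => h.CD_spec e5 hx hc) (h.NM_all e8 hy)).trans ((hA x hx).cm_left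
    (fun c hc => h.CD_spec e6 hc m) fun c hc => h.CD_spec e7 (h.CD_spec e3 hx m) (inv_mem hc))

theorem trz (A' : List ℕ) (hα : α ∈ Y) (hA : St E Y v A) (hB : Tr α v B B') (hC : Tr α v C C') (lB : cl v B ≤ E)
    (kC : KL C' = true)
    (e : band (band (CX A B C' A') (CD A B C)) (band (band (CD A B' C') (CD C A C')) (lall (NM C') B)) = true := by
      decide +kernel) : Tr α v A A' := fun x hx => by
  simp only [band_iff] at e
  obtain ⟨⟨e1, e2⟩, ⟨e3, e4⟩, e5⟩ := e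
  have m := stab_maps (hA.1 hα) hx
  have d := mul_mem (inv_mem hx) m
  refine h.CX_spec kC e1 d fun y hy => ?_
  have hy := mem_cl (v := v) hy
  have c := h.CD_spec e2 hx hy
  have q := hC _ c
  rw [fn_cm α (hA.2 hx) (lB hy)] at q
  replace q := q.trans ((hB _ hy).cm_right (fun c hc => h.CD_spec e3 m hc) (h.NM_all e5 hy)).symm
  rw [← mul_inv_cancel_left x (fn α x), cm_mul_left] at q
  have q2 := Cg.conj (h.CD_spec e4 c (inv_mem d))
  rw [inv_inv] at q2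
  have q3 := q2.symm.trans q
  rwa [Cg, inv_mul_cancel_left] at q3

theorem tr_of (lA : cl v A ≤ E) (hB : α ∈ stab E (cl v B)) (L : List ℕ)
    (k : ∀ c ∈ L, Cg (cl v B) (v c) (fn α (v c)))
    (e : band (lall (NM B) A) (lall (fun c => Bool.rec (MM B c) true (lm L c)) A) = true := by decide +kernel) :
    Tr α v A B := fun _ hx => by
  simp only [band_iff, lall_iff, brec_or] at e
  refine ((cl_le (H := fx α (cl v B))).2 (fun c hc => ⟨lA (mem_cl hc), (h.NM_spec (e.1 c hc)).2, ?_⟩) hx).2.2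
  rcases e.2 c hc with q | q
  exacts [k c (mem_of_lm q), Cg.of_mem (h.mem_of q) (stab_maps hB (h.mem_of q))]

theorem chS (Y : Subgroup (MulAut S)) : (∀ k ≤ 8, St S Y v (zl k)) ∧ St S Y v lB ∧ St S Y v lC ∧ St S Y v lU ∧
    St S Y v lP ∧ St S Y v lR ∧ St S Y v lF := by
  have s : St S Y v g9 := .top h.S_eq
  have sP := h.der lP [(0, 0), (0, 0), (13122, 2187), (0, 0), (4374, 243), (13122, 81), (2187, 81), (13122, 9), (6561, 3)] s s
  have s4 := h.der (zl 4) [(0, 0), (0, 0), (0, 0), (0, 0), (0, 0), (1458, 243), (162, 2187), (1458, 81), (729, 27)] sP s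
  have s1 := h.cen (zl 1) s s h.st0 kK0
  have s2 := h.cen (zl 2) s s s1 kK1
  have s8 := h.cen (zl 8) s s2 h.st0 kK0
  have s6 := h.cen (zl 6) s s4 h.st0 kK0
  have s3 := h.cen (zl 3) s8 s8 h.st0 kK0
  have s5 := h.cen (zl 5) s8 s8 s3 kK3
  have s7 := h.cen (zl 7) s8 s6 s4 kK4
  have sR := h.cen lR s sP s3 kK3
  have sC := h.cen lC s (h.cen lE sR sR s2 kK2) s3 kK3
  refine ⟨fun k hk => ?_, h.cen lB s s6 s4 kK4, sC, h.der lU
    [(0, 0), (0, 0), (0, 0), (0, 0), (0, 0), (1458, 243), (0, 0), (1458, 81), (729, 27)] s7 s6, sP, sR, h.cen lF sC s6 s4 kK4⟩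
  interval_cases k
  exacts [h.st0, s1, s2, s3, s4, s5, s6, s7, s8]

theorem chA (hE : E = cl v (zl 8)) (Y : Subgroup (MulAut E)) :
    St E Y v (zl 3) ∧ St E Y v (zl 5) ∧ St E Y v (zl 6) :=
  have s : St E Y v (zl 8) := .top hE
  have s3 := h.cen (zl 3) s s h.st0 kK0
  have s5 := h.cen (zl 5) s s s3 kK3
  ⟨s3, s5, h.cen (zl 6) s s5 h.st0 kK0⟩

theorem chA7 (hE : E = cl v (zl 8)) (s7 : St E Y v (zl 7)) : ∀ k ≤ 8, St E Y v (zl k) := fun k hk => by
  obtain ⟨s3, s5, s6⟩ := h.chA hE Y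
  have s2 := h.der (zl 2) [(0, 0), (0, 0), (0, 0), (0, 0), (0, 0), (0, 0), (0, 0), (1458, 81), (729, 27)] s7 s5
  have s1 := h.der (zl 1) [(0, 0), (0, 0), (0, 0), (0, 0), (0, 0), (0, 0), (0, 0), (0, 0), (729, 27)] s7
    (h.cen (zl 4) s5 (.top hE) s2 kK2)
  interval_cases k
  exacts [h.st0, s1, s2, s3, h.cen (zl 4) s5 (.top hE) s2 kK2, s5, s6, s7, .top hE]

theorem chA1 (hE : E = cl v (zl 8)) (s1 : St E Y v (zl 1)) : St E Y v (zl 7) :=
  have ⟨s3, s5, s6⟩ := h.chA hE Y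
  h.cen (zl 7) (.top hE) (h.ins (zl 4) s3 (h.rk (a := 27) (zl 3) (zl 4) 729 hE (s5.im h.mem_of) s6 kK6 s1 kK1)) s1 kK1

theorem chB (hE : E = cl v lB) (Y : Subgroup (MulAut E)) : St E Y v (zl 1) ∧ St E Y v lU ∧ St E Y v (zl 6) :=
  have s : St E Y v lB := .top hE
  have sU := h.der lU [(0, 0), (0, 0), (0, 0), (0, 0), (0, 0), (13122, 81), (0, 0), (13122, 9), (6561, 3)] s s
  ⟨h.cen (zl 1) s s h.st0 kK0, sU, h.cen (zl 6) s sU h.st0 kK0⟩

theorem chB7 (hE : E = cl v lB) (s7 : St E Y v (zl 7)) : ∀ k ≤ 7, St E Y v (zl k) := fun k hk => by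
  obtain ⟨s1, sU, s6⟩ := h.chB hE Y
  have s2 := h.cen (zl 2) sU s7 h.st0 kK0
  interval_cases k
  exacts [h.st0, s1, s2, h.cen (zl 3) s6 s7 h.st0 kK0, h.cen (zl 4) s6 s7 s1 kK1, h.cen (zl 5) s6 s7 s2 kK2, s6, s7]

theorem chB2 (hE : E = cl v lB) (s2 : St E Y v (zl 2)) : St E Y v (zl 7) := h.cen (zl 7) (.top hE) s2 h.st0 kK0

theorem chC (hE : E = cl v lC) (Y : Subgroup (MulAut E)) :
    St E Y v (zl 1) ∧ St E Y v (zl 2) ∧ St E Y v (zl 3) ∧ St E Y v lE ∧ St E Y v lR :=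
  have s : St E Y v lC := .top hE
  have s1 := h.cen (zl 1) s s h.st0 kK0
  have s2 := h.cen (zl 2) s s s1 kK1
  have sR := h.cen lR s s2 h.st0 kK0
  ⟨s1, s2, h.cen (zl 3) sR sR h.st0 kK0, h.cen lE sR sR s2 kK2, sR⟩

theorem chD (hE : E = cl v (lD 8748)) (Y : Subgroup (MulAut E)) :
    St E Y v [0, 0, 0, 0, 0, 48, 0, 0, 1] ∧ St E Y v lG ∧ St E Y v (zl 6) :=
  have s : St E Y v (lD 8748) := .top hE
  have sG := h.der lG [(0, 0), (0, 0), (0, 0), (0, 0), (18954, 243), (18954, 81), (0, 0), (18954, 27), (8748, 3)] s s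
  ⟨h.cen _ s s h.st0 kK0, sG, h.cen (zl 6) s sG h.st0 kK0⟩

theorem lvA (hE : E = cl v (zl 8)) (s7 : St E Y v (zl 7)) (ht : t ∈ S) : Lv Y (cA E t) ⊤ :=
  Lv.fin (h.lv (k := 8) (by decide) (fun j hj => (h.chA7 hE s7 j hj).1) ⟨ht, hE ▸ h.nrm (by decide +kernel) ht⟩) hE

theorem lvB (hE : E = cl v lB) (s7 : St E Y v (zl 7)) (ht : t ∈ S) : Lv Y (cA E t) ⊤ :=
  have n : t ∈ normalizer (E : Set Ω) := hE ▸ h.nrm (by decide +kernel) ht
  Lv.fin (h.lvs (N := g3) (A := zl 7) (h.S_eq3 ▸ ht) n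
    (h.lv (k := 7) (by decide) (fun j hj => (h.chB7 hE s7 j hj).1) ⟨ht, n⟩) (.top hE)) hE

theorem lvC (hE : E = cl v lC) (sP : St E Y v lP) : Lv Y (cA E (v 243)) ⊤ :=
  have n : v 243 ∈ normalizer (E : Set Ω) := hE ▸ (h.NM_spec (by decide +kernel)).2
  have t : v 243 ∈ cl v [243] := mem_cl List.mem_cons_self
  have s5 := h.cen (zl 5) sP (h.der (zl 4) [(0, 0), (0, 0), (0, 0), (0, 0), (0, 0), (81, 6561), (162, 2187), (1458, 81),
    (729, 27)] sP (.top hE)) h.st0 kK0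
  Lv.fin (h.lvs t n (h.lvs t n (h.lvs t n (h.lvs t n h.lv0 s5) sP) (h.chC hE Y).2.2.2.2) (.top hE)) hE

theorem lvD (hE : E = cl v (lD 8748)) (s5 : St E Y v (zl 5)) : Lv Y (cA E (v 729)) ⊤ :=
  have n : v 729 ∈ normalizer (E : Set Ω) := hE ▸ (h.NM_spec (by decide +kernel)).2
  have t : v 729 ∈ cl v [729] := mem_cl List.mem_cons_self
  have s3 := h.der [0, 0, 0, 0, 0, 45, 0, 3, 1] [(0, 0), (0, 0), (0, 0), (0, 0), (0, 0), (81, 8748), (0, 0), (27, 8748),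
    (6, 8748)] s5 (.top hE)
  have s1 := h.der (zl 1) [(0, 0), (0, 0), (0, 0), (0, 0), (0, 0), (0, 0), (0, 0), (0, 0), (45, 8748)] s3 (.top hE)
  Lv.fin (h.lvs t n (h.lvs t n (h.lvs t n (h.lvs t n (h.lvs t n h.lv0 s1) s3) s5) (h.chD hE Y).2.2) (.top hE)) hE

/-- an automorphism of a normal subgroup that respects a chain extends to `S` -/
theorem ext (hF : Sat F 3) (n : S ≤ normalizer (E : Set Ω)) (l : E ≤ S) (lU : U ≤ E)
    (nU : S ≤ normalizer (U : Set Ω)) (ht : t ∈ S) (hN : S ≤ E ⊔ zpowers t)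
    (lv : ∀ Y : Subgroup (MulAut E), Y ≤ stab E U → Lv Y (cA E t) ⊤) (hα : α ∈ F.autGroup E) (hU : α ∈ stab E U) :
    ∃ g, Mor F S g ∧ ∀ x ∈ E, g x = fn α x := by
  haveI : Fact (Nat.Prime 3) := ⟨Nat.prime_three⟩
  haveI := h.fin
  refine FusD.ext_top hF l n hα (norm_of_lv h.pg l (Y := F.autGroup E ⊓ stab E U)
    (hF.syl_of_fn (fn_of_norm F l n)) inf_le_left (le_inf (autInducedBy_le F l) (le_stab lU fun β hβ x hx => ?_)) (n ht)
    (NS_le.trans hN) (lv _ inf_le_right) ht ⟨hα, hU⟩)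
  obtain ⟨s, s1, e⟩ := mem_autInducedBy'.1 hβ
  rw [e x (lU hx)]
  exact conj_mem_of_norm (nU s1) hx

theorem sup_of (a : ℕ) (e : lall (fun c => Bool.rec (Nat.beq c a) true (MM A c)) B = true := by decide +kernel) :
    cl v B ≤ cl v A ⊔ zpowers (v a) := cl_le.2 fun c hc => (brec_or.1 (lall_iff.1 e c hc)).elim
  (fun q => mem_sup_left (h.mem_of q)) fun q => mem_sup_right (beq_iff.1 q ▸ mem_zpowers _)

theorem extA (hF : Sat F 3) {α : MulAut (cl v (zl 8))} (hα : α ∈ F.autGroup _) (h7 : α ∈ stab _ (cl v (zl 7))) :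
    ∃ g, Mor F S g ∧ ∀ x ∈ cl v (zl 8), g x = fn α x :=
  h.ext hF h.nrm (h.Z_le (by decide)) h.LE_spec h.nrm (h.mem (a := 6561) (by decide)) (h.S_eq.le.trans (h.sup_of _))
    (fun _ e => h.lvA rfl ⟨e, h.LE_spec⟩ (h.mem (by decide))) hα h7

theorem extB (hF : Sat F 3) {α : MulAut (cl v lB)} (hα : α ∈ F.autGroup _) (h7 : α ∈ stab _ (cl v (zl 7))) :
    ∃ g, Mor F S g ∧ ∀ x ∈ cl v lB, g x = fn α x :=
  h.ext hF h.nrm (h.cl_le_S (by decide +kernel)) h.LE_spec h.nrm (h.mem (a := 2187) (by decide))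
    (h.S_eq.le.trans (h.sup_of _)) (fun _ e => h.lvB rfl ⟨e, h.LE_spec⟩ (h.mem (by decide))) hα h7

theorem extC (hF : Sat F 3) {α : MulAut (cl v lC)} (hα : α ∈ F.autGroup _) (h7 : α ∈ stab _ (cl v lP)) :
    ∃ g, Mor F S g ∧ ∀ x ∈ cl v lC, g x = fn α x :=
  h.ext hF h.nrm (h.cl_le_S (by decide +kernel)) h.LE_spec h.nrm (h.mem (a := 243) (by decide))
    (h.S_eq.le.trans (h.sup_of _)) (fun _ e => h.lvC rfl ⟨e, h.LE_spec⟩) hα h7

end Md

end CF.Cw3
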