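import Cfsg.Agent.Cw3.M
import Cfsg.Agent.Cw3.PL

/-! The strongly embedded subgroup of the automizer of an abelian essential subgroup. -/

set_option autoImplicit false
set_option linter.style.haveILetI false
set_option linter.unusedSimpArgs false

namespace CF.Cw3

open Cfsg Cfsg.FusionSystem Subgroup CF.Fus CF.FusU CF.Comp CF.Th3

universe u

variable {Ω : Type u} [Group Ω] {S E D A B T T' : Subgroup Ω} {F : FusionSystem S} {v : ℕ → Ω}
  {Y M H K : Subgroup (MulAut E)} {g α β : MulAut E} {s t x y z : Ω} {a b c j k n p : ℕ} {L L' : List ℕ}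

/-- the canonical strongly embedded subgroup -/
abbrev GM (F : FusionSystem S) (E : Subgroup Ω) : Subgroup (MulAut E) :=
  Gam (F.autGroup E) (autInducedBy S E) (Inn E)

theorem exists_mx' [Fact p.Prime] (hF : Sat F p) (hE : F.IsEssential p E) (lo : autInducedBy S E ≤ H)
    (hi : H ≤ F.autGroup E) (ne : ¬ H ≤ GM F E) : ∃ Y ≤ H, Mx F p E Y (GM F E) := by
  haveI := hF.fin
  have l := (hF.ess_lt hE).le
  haveI := fin_of_le l
  obtain ⟨h1, h2⟩ := hF.ess_Gam hE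
  have sy := hF.ess_syl hE
  have m := le_Gam sy.le h1
  obtain ⟨Y, ⟨y1, y0, y3⟩, y4⟩ := WellFounded.has_min (wellFounded_lt (α := Subgroup (MulAut E)))
    {Y | autInducedBy S E ≤ Y ∧ Y ≤ H ∧ ¬ Y ≤ GM F E} ⟨_, lo, le_rfl, ne⟩
  have y2 := y0.trans hi
  have k : ∀ g ∈ Y, ∀ t ∈ NS S E, t ∉ E → g * cA E t * g⁻¹ ∈ autInducedBy S E → g ∈ GM F E := fun g hg t ht tn e =>
    mem_Gam_of_elt sy (Inn_norm _) h1.le (cA_mem_autInducedBy ht.1)
      (mt (mem_of_cA_mem_Inn l (hF.ess_centric hE) ht) tn) (y2 hg) e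
  have op : ∀ s ∈ NS S E, cA E s ∈ OpIn p Y → s ∈ E := fun s hs h3 => by_contra fun c =>
    y3 fun g hg => k g hg s hs c ((sy.mono y1 y2).OpIn_le (conj_mem_of_norm (le_norm_OpIn hg) h3))
  refine ⟨Y, y0, ⟨l, hF.fin, hF.pg, hF.ess_centric hE, (SetLike.lt_iff_le_and_exists.1 (hF.ess_NS hE)).2,
    SetLike.not_le_iff_exists.1 y3, y1, m, fun g hg gn t ht tn H h3 h4 => by_contra fun c => ?_, op⟩, y2,
    fun α hα => ?_, fun H hH => (closure_le _).2 ?_⟩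
  · have a : H ⊓ Y ≤ GM F E := by_contra fun a =>
      y4 _ ⟨le_inf h3 y1, inf_le_right.trans y0, a⟩ (inf_lt_right.2 c)
    have t0 := cA_mem_autInducedBy (P := E) ht.1
    obtain ⟨j, hj⟩ := isPGroup_iff_mem.1 sy.pg _ t0
    obtain ⟨b, b1, b2⟩ := (sy.mono m Gam_le).exists_conj_elt (a ⟨h4, mul_mem (mul_mem hg (y1 t0)) (Y.inv_mem hg)⟩)
      (k := j) (by rw [conj_pow, hj]; simp)
    have := mem_Gam_of_elt sy (Inn_norm _) h1.le t0 (mt (mem_of_cA_mem_Inn l (hF.ess_centric hE) ht) tn)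
      (mul_mem (Gam_le b1) (y2 hg)) (by simpa [mul_assoc] using b2)
    exact gn (by simpa using mul_mem (inv_mem b1) this)
  · obtain ⟨s, s1, s2, rfl⟩ := mem_autInducedBy.1 ((sy.mono y1 y2).OpIn_le hα)
    exact cA_mem_Inn (op s ⟨s1, s2⟩ hα)
  · rintro α ⟨-, Q, q1, q2, q3⟩
    obtain ⟨β, b1, b2⟩ := SetLike.exists_of_lt q1
    obtain ⟨t, t1, t2, rfl⟩ := mem_autInducedBy.1 (q2 b1)
    obtain ⟨s, s1, s2, e⟩ := mem_autInducedBy.1 (q2 (conj_mem_of_norm q3 b1))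
    exact hH α t ⟨t1, t2⟩ (fun c => b2 (cA_mem_Inn c)) s ⟨s1, s2⟩ e.symm

theorem dvd_of_lt {G : Type*} [Group G] {P Q : Subgroup G} [Finite Q] (hQ : IsPGroup 3 Q) (l : P < Q)
    (d : n ∣ Nat.card P) : n * 3 ∣ Nat.card Q := by
  haveI : Fact (Nat.Prime 3) := ⟨Nat.prime_three⟩
  obtain ⟨i, hi⟩ := hQ.index (P.subgroupOf Q)
  rw [← (P.subgroupOf Q).card_mul_index, Nat.card_congr (subgroupOfEquivOfLe l.le).toEquiv, hi]
  refine mul_dvd_mul d (dvd_pow_self 3 ?_)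
  rintro rfl
  exact l.not_ge (subgroupOf_eq_top.1 (index_eq_one.1 hi))

theorem aut_lt (hC : CS S E ≤ E) (hT : E ≤ T) (l : T ≤ T') (hT' : T ≤ NS S E) (ht : t ∈ T') (ht0 : t ∈ NS S E)
    (tn : t ∉ T) : autInducedBy T E < autInducedBy T' E := by
  refine SetLike.lt_iff_le_and_exists.2 ⟨autInducedBy_mono l, cA E t, cA_mem_autInducedBy ht, fun e => tn ?_⟩
  obtain ⟨s, s1, s2, e⟩ := mem_autInducedBy.1 e
  simpa using mul_mem s1 (hT (hC ⟨mul_mem (S.inv_mem (hT' s1).1) ht0.1, (cA_eq_cA_iff s2 ht0.2).1 e⟩))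

/-- a projection of `E` with kernel `D` -/
structure Pj (D : Subgroup Ω) (H : Subgroup (MulAut E)) {V : Type u} [Group V] [MulDistribMulAction H V]
    (π : Ω → V) : Prop where
  mul : MulOn π E
  sur : ∀ y, ∃ x ∈ E, π x = y
  ker : ∀ x ∈ E, π x = 1 ↔ x ∈ D
  act : ∀ α : H, ∀ x ∈ E, α • π x = π (fn α.1 x)

theorem exists_pj (ab : ∀ x ∈ E, ∀ y ∈ E, x * y = y * x) (st : H ≤ stab E D) :
    ∃ (V : Type u) (_ : Group V) (_ : MulDistribMulAction H V) (π : Ω → V), Pj D H π := by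
  haveI : (D.subgroupOf E).Normal := ⟨fun x hx g => by
    rwa [show g * x = x * g from Subtype.ext (ab _ g.2 _ x.2), mul_inv_cancel_right]⟩
  have q : ∀ α : H, D.subgroupOf E ≤ (D.subgroupOf E).comap (α.1 : MulAut E).toMonoidHom := fun α x hx => by
    have := stab_maps (st α.2) (show (x : Ω) ∈ D from hx)
    rwa [fn_of_mem _ x.2] at this
  refine ⟨E ⧸ D.subgroupOf E, inferInstance,
    { smul := fun α => QuotientGroup.map _ _ _ (q α)
      one_smul := fun y => QuotientGroup.induction_on y fun _ => rfl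
      mul_smul := fun _ _ y => QuotientGroup.induction_on y fun _ => rfl
      smul_mul := fun α => map_mul (QuotientGroup.map _ _ _ (q α))
      smul_one := fun α => map_one (QuotientGroup.map _ _ _ (q α)) }, ext (QuotientGroup.mk' _), ?_⟩
  refine @Pj.mk _ _ _ _ _ _ _ (_) _ (mulOn_ext _) (fun y => QuotientGroup.induction_on y fun x =>
    ⟨x, x.2, ext_of_mem _ x.2⟩) (fun x hx => ?_) fun α x hx => ?_
  · rw [ext_of_mem _ hx, QuotientGroup.mk'_apply, QuotientGroup.eq_one_iff]; rfl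
  · rw [ext_of_mem _ hx, ext_of_mem _ (fn_mem _ hx)]
    exact congrArg (QuotientGroup.mk' _) (Subtype.ext (fn_of_mem _ hx).symm)

namespace Pj

variable {V : Type u} [Group V] [MulDistribMulAction H V] {π : Ω → V} (h : Pj D H π)
include h

theorem eq (hx : x ∈ E) (hy : y ∈ E) : π x = π y ↔ Cg D x y := by
  rw [Cg, ← h.ker _ (mul_mem (inv_mem hx) hy), h.mul.map_inv_mul hx hy, inv_mul_eq_one]

theorem mem (l : D ≤ B) (l' : B ≤ E) (hx : x ∈ E) : π x ∈ img π B ↔ x ∈ B := by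
  refine ⟨fun e => ?_, mem_img_of_mem⟩
  obtain ⟨y, y1, y2⟩ := (h.mul.mono l').mem_img.1 e
  exact ((h.eq (l' y1) hx).1 y2).mem l y1

theorem card (l : D ≤ B) (l' : B ≤ E) : Nat.card (img π B) = D.relIndex B := by
  rw [← relIndex_bot_left, ← (h.mul.mono l').relIndex_pre]
  congr 1
  ext x
  rw [(h.mul.mono l').mem_pre, mem_bot]
  exact ⟨fun e => (h.ker x (l' e.1)).1 e.2, fun e => ⟨l e, (h.ker x (l' (l e))).2 e⟩⟩

theorem fix (hx : x ∈ E) (α : H) : α • π x = π x ↔ Cg D x (fn α.1 x) := by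
  rw [h.act α x hx, eq_comm, h.eq hx (fn_mem _ hx)]

end Pj

/-- the data that give a strongly embedded subgroup acting on `E / D` -/
structure Sd (F : FusionSystem S) (E D : Subgroup Ω) (H : Subgroup (MulAut E)) (n : ℕ) (z : Ω) : Prop where
  sat : Sat F 3
  ess : F.IsEssential 3 E
  ab : ∀ x ∈ E, ∀ y ∈ E, x * y = y * x
  le : D ≤ E
  lo : autInducedBy S E ≤ H
  hi : H ≤ F.autGroup E
  ff : ∀ d ∈ D, d ^ 3 = 1 ∧ ∀ σ ∈ H, fn σ d = d
  ne : ¬ H ≤ GM F E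
  dvd : ∃ T T', E < T ∧ T < T' ∧ T' < NS S E
  num : n = 5 ∨ n = 6
  card : D.relIndex E = 3 ^ n
  nr : ∃ B c, D ≤ B ∧ B ≤ E ∧ c ∈ E ∧ c ∉ B ∧ D.relIndex B = 3 ^ (n - 2) ∧
    ∀ y, y ∈ B ∨ y = c → ∃ s ∈ NS S E, s ∉ E ∧ cm y s ∈ D
  zE : z ∈ E
  z1 : z ∉ D
  z3 : z ^ 3 ∈ D
  zP : ∀ s ∈ NS S E, cm z s ∈ D
  zM : ∀ g ∈ H, Cg D z (fn g z) → g ∈ GM F E

namespace Sd

variable (h : Sd F E D H n z)
include h

theorem st : H ≤ stab E D := le_stab h.le fun α hα d hd => ((h.ff d hd).2 α hα).symm ▸ hd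

theorem lt9 (hT : E ≤ T) (hT' : T ≤ NS S E) (l : T ≤ T') (l' : T' ≤ S) (hs : s ∈ T) (sn : s ∉ E) (ht : t ∈ T')
    (ht0 : t ∈ NS S E) (tn : t ∉ T) : 9 ∣ Nat.card (autInducedBy T' E) := by
  haveI : Fact (Nat.Prime 3) := ⟨Nat.prime_three⟩
  haveI := h.sat.finite (h.sat.ess_lt h.ess).le
  have c := h.sat.ess_centric h.ess
  have q := fun {T} (l : T ≤ S) => (h.sat.ess_syl h.ess).pg.to_le (autInducedBy_mono l)
  exact dvd_of_lt (n := 1 * 3) (q l') (aut_lt c hT l hT' ht ht0 tn)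
    (dvd_of_lt (q (l.trans l')) (aut_lt c le_rfl hT (hT.trans hT') hs (hT' hs) sn) (one_dvd _))

theorem se {V : Type u} [Group V] [MulDistribMulAction H V] {π : Ω → V} (q : Pj D H π) :
    Se ((GM F E).subgroupOf H) ((autInducedBy S E).subgroupOf H) n (π z) := by
  haveI : Fact (Nat.Prime 3) := ⟨Nat.prime_three⟩
  have l := (h.sat.ess_lt h.ess).le
  haveI := h.sat.finite l
  have c := h.sat.ess_centric h.ess
  have sy := h.sat.ess_syl h.ess
  have h1 := (h.sat.ess_Gam h.ess).1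
  have m := le_Gam sy.le h1
  have i0 : ∀ α ∈ Inn E, α = 1 := fun α hα => by
    obtain ⟨s, s1, e⟩ := mem_autInducedBy'.1 (Inn_eq (P := E) ▸ hα)
    exact aut_ext fun x hx => by rw [e x hx, fn_one, h.ab s s1 x hx, mul_inv_cancel_right]
  refine ⟨inferInstance, fun e => h.ne (subgroupOf_eq_top.1 e), fun s hs o g hg => ?_, subgroupOf_mono _ m,
    isPGroup_subgroupOf sy.pg _, ?_, h.num, ?_, fun σ pr o => by_contra fun a => ?_, ?_,
    mt (q.ker z h.zE).1 h.z1, ?_, fun s hs => ?_, fun g e => h.zM g g.2 ((q.fix h.zE g).1 e)⟩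
  · have s3 : (s : MulAut E) ^ 3 ^ 1 = 1 := by rw [pow_one, ← o, ← orderOf_coe]; exact pow_orderOf_eq_one _
    obtain ⟨b, b1, b2⟩ := (sy.mono m Gam_le).exists_conj_elt (mem_subgroupOf.1 hs) s3
    obtain ⟨c, c1, c2⟩ := (sy.mono m Gam_le).exists_conj_elt (mem_subgroupOf.1 hg) (k := 1) (by
      have := conj_pow (a := (g : MulAut E)⁻¹) (b := s) (i := 3 ^ 1)
      rw [s3] at this
      simpa using this)
    have := mem_Gam_of_elt sy (Inn_norm _) h1.le b2 (fun e => by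
      have := conj_eq_one_iff.1 (i0 _ e)
      rw [show s = 1 from Subtype.ext this, orderOf_one] at o
      exact absurd o (by decide)) (a := c * (g : MulAut E)⁻¹ * b⁻¹)
      (mul_mem (mul_mem (Gam_le c1) (inv_mem (h.hi g.2))) (inv_mem (Gam_le b1))) (by simpa [mul_assoc] using c2)
    have := mul_mem (mul_mem (inv_mem c1) this) b1
    exact mem_subgroupOf.2 (by simpa [mul_assoc] using this)
  · obtain ⟨T, T', t1, t2, t3⟩ := h.dvd
    obtain ⟨s, s1, s2⟩ := SetLike.exists_of_lt t1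
    obtain ⟨t, t4, t5⟩ := SetLike.exists_of_lt t2
    obtain ⟨u, u1, u2⟩ := SetLike.exists_of_lt t3
    rw [Nat.card_congr (subgroupOfEquivOfLe h.lo).toEquiv]
    exact dvd_of_lt (n := 9) sy.pg (aut_lt c (t1.trans t2).le (t3.le.trans NS_le) t3.le u1.1 u1 u2)
      (h.lt9 t1.le (t2.trans t3).le t2.le (t3.le.trans NS_le) s1 s2 t4 (t3.le t4) t5)
  · rw [← h.card, ← q.card h.le le_rfl, show img π E = ⊤ from eq_top_iff.2 fun y _ => q.mul.mem_img.2 (q.sur y), card_top]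
  · push Not at a
    have : (σ : MulAut E) ^ 3 = 1 := aut_ext fun x hx => by
      have d := (q.fix hx σ).1 (a _)
      obtain ⟨d3, df⟩ := h.ff _ d
      have e : fn σ.1 x = x * (x⁻¹ * fn σ.1 x) := by simp
      have dE : x⁻¹ * fn σ.1 x ∈ E := h.le d
      generalize x⁻¹ * fn σ.1 x = d' at dE d3 df e
      have f := df _ σ.2
      rw [fn_one, pow_three', fn_mul, fn_mul, e, mulOn_fn _ hx dE, e, f, mulOn_fn _ (mul_mem hx dE) dE, mulOn_fn _ hx dE,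
        e, f, mul_assoc, mul_assoc, ← pow_three, d3, mul_one]
    exact o ((Nat.prime_dvd_prime_iff_eq pr Nat.prime_three).1 (orderOf_dvd_of_pow_eq_one (Subtype.ext this)))
  · obtain ⟨B, w, b1, b2, b3, b4, b5, b6⟩ := h.nr
    refine ⟨img π B, π w, mt (q.mem b1 b2 b3).1 b4, (q.card b1 b2).trans b5, fun y hy => ?_⟩
    obtain ⟨x, x1, x2, rfl⟩ : ∃ x ∈ E, (x ∈ B ∨ x = w) ∧ π x = y := by
      rcases hy with hy | rfl
      · obtain ⟨x, x1, e⟩ := (q.mul.mono b2).mem_img.1 hy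
        exact ⟨x, b2 x1, .inl x1, e⟩
      · exact ⟨w, b3, .inr rfl, rfl⟩
    obtain ⟨s, s1, s2, s3⟩ := b6 x x2
    have s0 := cA_mem_autInducedBy (P := E) s1.1
    obtain ⟨t, t1, t2⟩ := PL.ex3 (isPGroup_subgroupOf sy.pg H) (g := ⟨cA E s, h.lo s0⟩) s0 fun e =>
      s2 (c ⟨s1.1, (cA_eq_one_iff s1.2).1 (congrArg Subtype.val e)⟩)
    exact ⟨t, zpowers_le.2 (show _ ∈ (GM F E).subgroupOf H from m s0) t1, t2,
      zpowers_le.2 (show _ ∈ MulAction.stabilizer H (π x) from (q.fix x1 _).2 (by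
        rw [fn_cA s1.2 x1]; exact s3)) t1⟩
  · rw [← q.mul.map_pow h.zE, q.ker _ (pow_mem h.zE 3)]; exact h.z3
  · obtain ⟨t, t1, t2, e⟩ := mem_autInducedBy.1 (mem_subgroupOf.1 hs)
    rw [q.fix h.zE, ← e, fn_cA t2 h.zE]
    exact h.zP t ⟨t1, t2⟩

theorem big (O : List Ω) (hP : O.Pairwise fun x y => ¬ Cg D x y)
    (hO : ∀ y ∈ O, ∃ m ∈ H, m ∈ GM F E ∧ (y = fn m z ∨ y = (fn m z)⁻¹))
    (h5 : n = 5 → 4 ≤ O.length) (h6 : n = 6 → 24 ≤ O.length) : False := by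
  classical
  obtain ⟨V, _, _, π, q⟩ := exists_pj h.ab h.st
  have oE : ∀ y ∈ O, y ∈ E := fun y hy => by
    obtain ⟨m, -, -, rfl | rfl⟩ := hO y hy
    exacts [fn_mem _ h.zE, inv_mem (fn_mem _ h.zE)]
  have c : (↑(O.map π).toFinset : Set V).ncard = O.length := by
    rw [Set.ncard_coe_finset, List.toFinset_card_of_nodup, List.length_map]
    exact List.pairwise_map.2 (hP.imp_of_mem fun a b e => mt (q.eq (oE _ a) (oE _ b)).1 e)
  refine (h.se q).big _ (fun y hy => ?_) (fun e => c ▸ h5 e) fun e => c ▸ h6 e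
  obtain ⟨x, hx, rfl⟩ := List.mem_map.1 (List.mem_toFinset.1 hy)
  obtain ⟨m, m1, m2, e⟩ := hO x hx
  refine ⟨⟨m, m1⟩, m2, e.imp ?_ ?_⟩ <;> rintro rfl
  · exact (q.act ⟨m, m1⟩ z h.zE).symm
  · rw [q.act ⟨m, m1⟩ z h.zE, q.mul.map_inv (fn_mem _ h.zE)]

theorem plane (l : D ≤ A) (l' : A ≤ E) (hA : D.relIndex A = 27) (hz : z ∈ A) (inv : H ⊓ GM F E ≤ stab E A)
    (hT : E ≤ T) (hT' : T ≤ NS S E) (hs : s ∈ T) (sn : s ∉ E)
    (nine : ∀ y ∈ A, ∃ m ∈ H, m ∈ GM F E ∧ (∀ s ∈ T, cm (fn m y) s ∈ D) ∧ ∃ t ∈ NS S E, t ∉ T ∧ cm (fn m y) t ∈ D)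
    (nD : NS S E ≤ normalizer (D : Set Ω))
    (fix : ∀ y ∈ A, (∀ s ∈ NS S E, cm y s ∈ D) → y ∈ D ⊔ zpowers z) : False := by
  haveI : Fact (Nat.Prime 3) := ⟨Nat.prime_three⟩
  obtain ⟨V, _, _, π, q⟩ := exists_pj h.ab h.st
  have lS := (h.sat.ess_lt h.ess).le
  haveI := h.sat.fin
  have sy := h.sat.ess_syl h.ess
  have mG := le_Gam sy.le (h.sat.ess_Gam h.ess).1
  have ex := fun {y} => ((q.mul.mono l').mem_img (y := y)).1
  refine (h.se q).plane (img π A) ((q.card l l').trans hA) (mem_img_of_mem hz) (fun m hm y hy => ?_)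
    (fun y hy => ?_) fun y hy e => ?_
  · obtain ⟨x, x1, rfl⟩ := ex hy
    rw [q.act m x (l' x1)]
    exact mem_img_of_mem (stab_maps (inv ⟨m.2, hm⟩) x1)
  · obtain ⟨x, x1, rfl⟩ := ex hy
    obtain ⟨m, m1, m2, k1, t, t1, t2, k2⟩ := nine x x1
    let Q := (autInducedBy (NS S E ⊓ c2 D (fn m x)) E).subgroupOf H
    have l1 : autInducedBy (NS S E ⊓ c2 D (fn m x)) E ≤ autInducedBy S E :=
      autInducedBy_mono (inf_le_left.trans NS_le)
    refine ⟨Q.map (MulAut.conj (⟨m, m1⟩ : H)⁻¹).toMonoidHom, ?_, (isPGroup_subgroupOf (sy.pg.to_le l1) H).map _, ?_, ?_⟩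
    · rintro _ ⟨b, hb, rfl⟩
      exact mul_mem (mul_mem (inv_mem m2) (mG (l1 hb))) (inv_mem (inv_mem m2))
    · rw [card_map_of_injective (MulAut.conj _).injective,
        Nat.card_congr (subgroupOfEquivOfLe (l1.trans h.lo)).toEquiv]
      exact h.lt9 hT hT' (fun s hs => ⟨hT' hs, nD (hT' hs), k1 s hs⟩) (inf_le_left.trans NS_le) hs sn
        ⟨t1, nD t1, k2⟩ t1 t2
    · rintro _ ⟨b, hb, rfl⟩
      obtain ⟨u, u1, u2, e⟩ := mem_autInducedBy.1 (mem_subgroupOf.1 hb)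
      have f : b • (⟨m, m1⟩ : H) • π x = (⟨m, m1⟩ : H) • π x := by
        rw [q.act _ x (l' x1), q.fix (fn_mem _ (l' x1)), ← e, fn_cA u2 (fn_mem _ (l' x1))]
        exact u1.2.2
      show ((⟨m, m1⟩ : H)⁻¹ * b * (⟨m, m1⟩ : H)⁻¹⁻¹) • π x = π x
      rw [inv_inv, mul_smul, mul_smul, f, inv_smul_smul]
  · obtain ⟨x, x1, rfl⟩ := ex hy
    have := fix x x1 fun s hs => by
      have := (q.fix (l' x1) ⟨cA E s, h.lo (cA_mem_autInducedBy hs.1)⟩).1 (e _ (cA_mem_autInducedBy hs.1))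
      rwa [fn_cA hs.2 (l' x1)] at this
    obtain ⟨i, hi⟩ := ex_pow (lS h.zE) (nD (le_NS lS h.zE)) this
    rw [← (q.eq (pow_mem h.zE i) (l' x1)).2 hi, q.mul.map_pow h.zE]
    exact pow_mem (mem_zpowers _) i

end Sd

/-- the codes are pairwise incongruent -/
noncomputable def PW (k : ℕ) (L : List ℕ) : Bool :=
  List.rec (motive := fun _ => Bool) true (fun a r ih => force a fun a => band (lt a 19683) (force (iv a) fun i =>
    band (lall (fun b => band (lt b 19683) (Nat.ble (Nat.pow 3 k) (mu i b))) r) ih)) L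

/-- `L'` is generated by `L` and `a` -/
noncomputable def RI (L L' : List ℕ) (a : ℕ) : Bool := band (band (LE L L') (MM L' a)) (band (band (NM L a) (MM L (cu a)))
  (lall (fun c => Bool.rec (Nat.beq c a) true (MM L c)) L'))

namespace Md

variable (h : Md S v)
include h

theorem pw (hk : k ≤ 9) (e : PW k L = true) : (L.map v).Pairwise fun x y => ¬ Cg (Z v k) x y := by
  induction L with
  | nil => exact List.Pairwise.nil
  | cons a r ih =>
    have e' : (force a fun a => band (lt a 19683) (force (iv a) fun i =>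
      band (lall (fun b => band (lt b 19683) (Nat.ble (Nat.pow 3 k) (mu i b))) r) (PW k r))) = true := e
    simp only [force_eq, band_iff, lt_iff, lall_iff] at e'
    refine List.Pairwise.cons (fun y hy c => ?_) (ih e'.2.2)
    obtain ⟨b, hb, rfl⟩ := List.mem_map.1 hy
    obtain ⟨b1, b2⟩ := e'.2.1 b hb
    rw [Cg, ← h.inv e'.1, ← h.mul (iv_lt e'.1).1 b1, h.mem_Z hk (mu_lt (iv_lt e'.1).1 b1)] at c
    exact c.not_ge (Nat.le_of_ble_eq_true b2)

theorem ri (a : ℕ) (na : v a ∉ cl v L) (e : RI L L' a = true := by decide +kernel) :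
    (cl v L).relIndex (cl v L') = 3 := by
  haveI : Fact (Nat.Prime 3) := ⟨Nat.prime_three⟩
  simp only [RI, band_iff] at e
  obtain ⟨⟨e1, e2⟩, ⟨e3, e4⟩, e5⟩ := e
  rw [le_antisymm (h.sup_of a e5) (sup_le (h.LE_spec e1) (zpowers_le.2 (h.mem_of e2)))]
  exact relIndex_sup_zpowers (h.NM_spec e3).2 (h.cu (lt_iff.1 (band_iff.1 (band_iff.1 e2).1).2) ▸ h.mem_of e4) na

theorem nZ (hk : k ≤ 9 := by decide) (hc : 3 ^ k ≤ c := by decide) (hc' : c < 19683 := by decide) : v c ∉ Z v k :=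
  fun e => ((h.mem_Z hk hc').1 e).not_ge hc

theorem riZ (j i : ℕ) (hk : j + i ≤ 9 := by decide) : (Z v j).relIndex (Z v (j + i)) = 3 ^ i := by
  haveI : Fact (Nat.Prime 3) := ⟨Nat.prime_three⟩
  induction i with
  | zero => exact relIndex_self _
  | succ i ih =>
    have l : j + i < 9 := hk
    have m : Z v (j + i) ≤ Z v (j + i + 1) := h.Z_mono (j + i).le_succ l
    rw [← add_assoc, ← relIndex_mul_relIndex _ (Z v (j + i)) _ (h.Z_mono (j.le_add_right i) l.le) m, ih l.le, pow_succ,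
      le_antisymm (Z_succ l) (sup_le m (zpowers_le.2 (h.gen_mem l))), relIndex_sup_zpowers
      (h.Z_norm l.le (h.mem (pow_lt l))) (h.pow3 l) (h.nZ l.le le_rfl (pow_lt l))]

theorem cZ (hk : k ≤ 9) (ha : a < 19683) (hb : b < 19683) (e : Cw3.cc a b < 3 ^ k) : cm (v a) (v b) ∈ Z v k :=
  h.cc ha hb ▸ h.Z_of_lt hk e

theorem c0 (e : x * y = y * x) : cm x y ∈ Z v k := by rw [cm_eq_one.2 e]; exact one_mem _

theorem of0 (e : cm x y ∈ Z v 0) : x * y = y * x := cm_eq_one.1 (mem_bot.1 (h.Z_zero ▸ e))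

theorem eq0 (e : Cg (Z v 0) x y) : x = y := inv_mul_eq_one.1 (mem_bot.1 (h.Z_zero ▸ e))

theorem exists_lk' (hF : Sat F 3) (hE : F.IsEssential 3 E) (lo : autInducedBy S E ≤ H) (hi : H ≤ F.autGroup E)
    (hD : D ≤ E) (hx : x ∈ E) (h1 : ∀ s ∈ NS S E, cm x s ∈ D) (nD : NS S E ≤ normalizer (D : Set Ω)) (hg : g ∈ H)
    (gD : g ∈ stab E D) (gx : Cg D x (fn g x)) (gn : g ∉ GM F E) :
    ∃ Y ≤ H, (∀ α ∈ Y, Cg D x (fn α x)) ∧ ∃ k, Lk F v E Y (GM F E) k := by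
  haveI : Fact (Nat.Prime 3) := ⟨Nat.prime_three⟩
  obtain ⟨Y, y1, m⟩ := exists_mx' hF hE (H := H ⊓ fxm D hx) (le_inf lo fun α hα => by
    obtain ⟨s, s1, s2, rfl⟩ := mem_autInducedBy.1 hα
    exact ⟨cA_mem_stab hD s2 (nD ⟨s1, s2⟩), by rw [fn_cA s2 hx]; exact h1 s ⟨s1, s2⟩⟩) (inf_le_left.trans hi)
    fun e => gn (e ⟨hg, gD, gx⟩)
  exact ⟨Y, y1.trans inf_le_left, fun α hα => (y1 hα).2.2, exists_lk h m⟩

end Md

end CF.Cw3
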