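import Cfsg.Agent.Cw3.N

/-! The Thompson subgroup is not essential. -/

set_option autoImplicit false
set_option linter.style.haveILetI false
set_option linter.unusedSimpArgs false

namespace CF.Cw3

open Cfsg Cfsg.FusionSystem Subgroup CF.Fus CF.FusU CF.Comp CF.Th3

variable {Ω : Type*} [Group Ω] {S E P U W : Subgroup Ω} {F : FusionSystem S} {v : ℕ → Ω}
  {K : Subgroup (MulAut E)} {s t x y : Ω} {A L : List ℕ} {a c k : ℕ}

theorem HF_le' (hF : Sat F 3) (base : ∀ P, P = S ∨ F.IsEssential 3 P → E < P → ∀ β ∈ F.autGroup P,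
    ∃ κ ∈ K, ∀ x ∈ E, fn β x = fn κ x) : HF F E ≤ K := by
  haveI : Fact (Nat.Prime 3) := ⟨Nat.prime_three⟩
  have := hF.alperin (M := fun P f => E < P → ∃ κ ∈ K, ∀ x ∈ E, f x = fn κ x)
    (fun _ m l e c => (m (c.trans_le l)).imp fun κ k => ⟨k.1, fun x hx => (e x (c.le hx)).trans (k.2 x hx)⟩)
    (fun {P Q f g} hf _ m m' l c => by
      obtain ⟨κ, k1, k2⟩ := m c
      obtain ⟨x, x1, x2⟩ := SetLike.exists_of_lt c
      obtain ⟨κ', k3, k4⟩ := m' (SetLike.lt_iff_le_and_exists.2 ⟨fun y hy => by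
        rw [← fn_fn_inv κ y, ← k2 _ (fn_mem _ hy)]; exact l _ (c.le (fn_mem _ hy)), f x, l x x1, fun e => x2 (by
          rw [hf.inj x1 (c.le (fn_mem κ⁻¹ e)) (by rw [k2 _ (fn_mem _ e), fn_fn_inv])]; exact fn_mem _ e)⟩)
      exact ⟨κ' * κ, mul_mem k3 k1, fun x hx => by
        rw [Function.comp_apply, k2 x hx, k4 _ (fn_mem _ hx), fn_mul]⟩) fun P hP α hα c => base P hP c α hα
  refine (closure_le _).2 ?_
  rintro α ⟨Q, g, l, m, e⟩
  obtain ⟨κ, k1, k2⟩ := this Q g m l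
  rwa [SetLike.mem_coe, aut_ext fun x hx => (e x hx).symm.trans (k2 x hx)]

/-- the restrictions of the automorphisms of a larger subgroup -/
def rs (F : FusionSystem S) (l : E ≤ P) : Subgroup (MulAut E) where
  carrier := {κ | ∃ β ∈ F.autGroup P, ∀ x ∈ E, fn β x = fn κ x}
  one_mem' := ⟨1, one_mem _, fun x _ => by rw [fn_one, fn_one]⟩
  mul_mem' := fun ⟨β, b1, b2⟩ ⟨γ, c1, c2⟩ => ⟨β * γ, mul_mem b1 c1, fun x hx => by
    rw [fn_mul, fn_mul, c2 x hx, b2 _ (fn_mem _ hx)]⟩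
  inv_mem' := fun {κ} ⟨β, b1, b2⟩ => ⟨β⁻¹, Subgroup.inv_mem _ b1, fun x hx => fn_inj β (by
    rw [fn_fn_inv, b2 _ (fn_mem _ hx), fn_fn_inv])⟩

theorem res_stab (l : E ≤ P) (l' : U ≤ E) {β : MulAut P} (h1 : β ∈ stab P E) (h2 : β ∈ stab P U) :
    ∃ κ ∈ stab E U, ∀ x ∈ E, fn β x = fn κ x :=
  ⟨res E β, fun x => by
    by_cases c : x ∈ E
    · rw [fn_res l h1 c]; exact h2 x
    · rw [fn_of_not_mem _ c], fun x hx => (fn_res l h1 hx).symm⟩

theorem st_of {β : MulAut P} (h : β ∈ stab P (cl v A)) (l : cl v A ≤ P) : St P (zpowers β) v A := ⟨zpowers_le.2 h, l⟩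

/-- the centralizer in `lU` of the generator `6561` -/
def lV : List ℕ := [0, 0, 0, 0, 0, 27, 0, 0, 1]

/-- the centralizer in the Thompson subgroup of the generator `6561` -/
def lW : List ℕ := [0, 0, 0, 243, 0, 27, 0, 0, 1]

/-- conjugates of a code and their inverses -/
noncomputable def orL (r : ℕ) (L : List ℕ) : List ℕ := lapp (lmap (cjc r) L) (lmap (fun s => iv (cjc r s)) L)

theorem kBig : allN 27 (fun r => Bool.rec (CV lW (zl 0) fun q => Bool.rec (PW 0 (1 :: iv 1 :: lapp (orL r [0, 6561, 13122])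
    (orL q [0, 729, 1458, 2187, 2916, 3645, 4374, 5103, 5832]))) true (lt q 3)) true (lt r 3)) = true := by
  decide +kernel

namespace Md

variable (h : Md S v)
include h

theorem J8 : Z v 6 < Z v 8 :=
  SetLike.lt_iff_le_and_exists.2 ⟨h.Z_mono (by decide) (by decide), v 729, h.Z_of_lt (by decide) (by decide), h.nZ⟩

theorem JB : Z v 6 < cl v lB := SetLike.lt_iff_le_and_exists.2 ⟨h.LE_spec, v 729, h.mem_of, h.nZ⟩

theorem ovr (hF : Sat F 3) (hX : ∀ w, Md S w → ¬ F.IsEssential 3 (cl w lX))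
    (hd : ∀ s ∈ S, ∀ x ∈ [8748, 10935], ¬ F.IsEssential 3 (cl (fun c => s⁻¹ * v c * s) (lD x)))
    {K : Subgroup (MulAut (Z v 6))} (base : ∀ P, P = S ∨ P = Z v 8 ∨ P = cl v lB → ∀ β ∈ F.autGroup P,
      ∃ κ ∈ K, ∀ x ∈ Z v 6, fn β x = fn κ x) (hE : F.IsEssential 3 (Z v 6)) : GM F (Z v 6) ≤ K := by
  haveI : Fact (Nat.Prime 3) := ⟨Nat.prime_three⟩
  refine (hF.Gam_le_HF (hF.fc_of_fn (hF.ess_fn hE))).trans (HF_le' hF fun P hP l => base P (hP.imp_right fun hP => ?_))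
  obtain ⟨Y, M, m⟩ := exists_mx hF hP
  obtain ⟨k, lk⟩ := exists_lk h m
  rcases lk.cls with q | q | q | ⟨s, hs, q | q⟩ | ⟨q, -⟩ | ⟨-, s, hs, q⟩
  · exact .inl q
  · exact .inr q
  · exact absurd (q ▸ l.le (h.Z_of_lt (c := 243) (by decide) (by decide)))
      (h.NI_spec (r := 729) (k := 3) (by decide +kernel) (by decide +kernel))
  · exact absurd (q ▸ hP) (hd s hs _ (by simp))
  · exact absurd (q ▸ hP) (hd s hs _ (by simp))
  · exact absurd q l.ne'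
  · exact absurd (q ▸ hP) (hX _ (h.cj hs))

theorem resM (hF : Sat F 3) (hE : F.IsEssential 3 (Z v 6)) (l : Z v 6 < P) (lS : P ≤ S) {β : MulAut P}
    (hβ : β ∈ F.autGroup P) (st : β ∈ stab P (Z v 6)) : ∃ m ∈ GM F (Z v 6), ∀ x ∈ Z v 6, fn m x = fn β x :=
  haveI : Fact (Nat.Prime 3) := ⟨Nat.prime_three⟩
  ⟨res _ β, hF.HF_le_Gam (hF.ess_fn hE) hE.1 (mem_HF l (mor_fn lS hβ) fun _ hx => (fn_res l.le st hx).symm),
    fun _ hx => fn_res l.le st hx⟩

theorem nsJ : NS S (Z v 6) = S := NS_eq_of_norm (h.Z_norm (by decide))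

theorem cjM (hF : Sat F 3) (hE : F.IsEssential 3 (Z v 6)) (hs : s ∈ S) : cA (Z v 6) s ∈ GM F (Z v 6) :=
  haveI : Fact (Nat.Prime 3) := ⟨Nat.prime_three⟩
  le_Gam (hF.ess_syl hE).le (hF.ess_Gam hE).1 (cA_mem_autInducedBy hs)

theorem chJ : ∃ T T', Z v 6 < T ∧ T < T' ∧ T' < NS S (Z v 6) :=
  ⟨Z v 7, Z v 8, SetLike.lt_iff_le_and_exists.2 ⟨h.Z_mono (by decide) (by decide), _, h.gen_mem (by decide), h.nZ⟩,
    SetLike.lt_iff_le_and_exists.2 ⟨h.Z_mono (by decide) (by decide), _, h.gen_mem (by decide), h.nZ⟩,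
    h.nsJ.symm ▸ SetLike.lt_iff_le_and_exists.2 ⟨h.Z_le (by decide), v 6561, h.mem (by decide), h.nZ⟩⟩

theorem ex0 {f : ℕ → Bool} (e : CV A (zl 0) f = true) (hx : x ∈ cl v A) : ∃ r < 19683, f r = true ∧ v r = x :=
  let ⟨r, r1, r2, _, r3⟩ := h.CV_spec e hx
  ⟨r, r1, r2, h.eq0 r3⟩

theorem orM (hF : Sat F 3) (hE : F.IsEssential 3 (Z v 6)) {m : MulAut (Z v 6)} (hm : m ∈ GM F (Z v 6)) {r : ℕ}
    (hr : r < 19683) (e : v r = fn m (v 1)) (hL : okl L = true) (hc : c ∈ orL r L) :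
    ∃ m ∈ F.autGroup (Z v 6), m ∈ GM F (Z v 6) ∧ (v c = fn m (v 1) ∨ v c = (fn m (v 1))⁻¹) := by
  rw [orL, lapp_eq, lmap_eq, lmap_eq, List.mem_append, List.mem_map, List.mem_map] at hc
  have k : ∀ s ∈ L, v (Cw3.cjc r s) = fn (cA _ (v s) * m) (v 1) := fun s hs => by
    have l := okl_iff.1 hL s hs
    rw [h.cjc hr l, fn_mul, fn_cA (h.Z_norm (by decide) (h.mem l)) (fn_mem _ (h.Z_of_lt (by decide) (by decide))), e]
  have q : ∀ s ∈ L, cA _ (v s) * m ∈ GM F (Z v 6) := fun s hs => mul_mem (h.cjM hF hE (h.mem (okl_iff.1 hL s hs))) hm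
  rcases hc with ⟨s, hs, rfl⟩ | ⟨s, hs, rfl⟩
  · exact ⟨_, Gam_le (q s hs), q s hs, .inl (k s hs)⟩
  · exact ⟨_, Gam_le (q s hs), q s hs, .inr (by rw [h.inv (cjc_lt hr (okl_iff.1 hL s hs)), k s hs])⟩

theorem nA {n : MulAut (cl v lB)} (e : Cg (Z v 6) (v 13122) (fn n (v 1458))) (hy : y ∈ Z v 6) :
    y * v 1458 = v 1458 * y ↔ fn n y * v 13122 = v 13122 * fn n y := by
  have m := h.JB.le hy
  have m' : v 1458 ∈ cl v lB := h.mem_of
  have j := h.comm (stab_maps ((h.chB rfl ⊤).2.2.1 (mem_top n)) hy) e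
  rw [← (fn_inj n).eq_iff, mulOn_fn n m m', mulOn_fn n m' m, ← mul_inv_cancel_left (v 13122) (fn n (v 1458)),
    mul_assoc (v 13122), ← j, ← mul_assoc, ← mul_assoc, ← mul_assoc, ← mul_assoc, mul_left_inj, mul_left_inj]

end Md

theorem no_J (h : Md S v) (hF : Sat F 3) (hX : ∀ w, Md S w → ¬ F.IsEssential 3 (cl w lX))
    (hd : ∀ s ∈ S, ∀ x ∈ [8748, 10935], F.IsEssential 3 (cl (fun c => s⁻¹ * v c * s) (lD x)) →
      Mv F v (zl 8) (zl 7) ∧ Mv F v lB (zl 7))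
    (hb : Mv F v lB (zl 7) → ∃ n ∈ F.autGroup (cl v lB), fn n (v 1) = v 1 ∧ Cg (Z v 6) (v 1458) (fn n (v 6561)) ∧
      Cg (Z v 6) (v 13122) (fn n (v 1458))) : ¬ F.IsEssential 3 (Z v 6) := fun hE => by
  haveI : Fact (Nat.Prime 3) := ⟨Nat.prime_three⟩
  haveI := h.fin
  have lS := (hF.ess_lt hE).le
  have lo := autInducedBy_le F lS
  have mo : ∀ j k, (hj : j ≤ k := by decide) → (hk : k ≤ 9 := by decide) → Z v j ≤ Z v k := fun j k => h.Z_mono
  have zo : ∀ c k, (hk : k ≤ 9 := by decide) → (hj : c < 3 ^ k := by decide) → v c ∈ Z v k := fun c k => h.Z_of_lt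
  have nS : ∀ c, (hc : c < 19683 := by decide) → v c ∈ NS S (Z v 6) := fun c hc => h.nsJ.symm ▸ h.mem hc
  have nD : ∀ k, (hk : k ≤ 9 := by decide) → NS S (Z v 6) ≤ normalizer (Z v k : Set Ω) := fun k hk =>
    NS_le.trans (h.Z_norm hk)
  have ab : ∀ x ∈ Z v 6, ∀ y ∈ Z v 6, x * y = y * x := fun x hx y hy => h.comm hx hy
  have z1 : ∀ s ∈ NS S (Z v 6), cm (v 1) s ∈ Z v 0 := fun s hs => h.cm_Z (by decide) (h.gen_mem (by decide)) hs.1
  have z2 : ∀ s ∈ NS S (Z v 6), cm (v 3) s ∈ Z v 1 := fun s hs => h.cm_Z (by decide) (h.gen_mem (by decide)) hs.1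
  have l7 : Z v 7 ≤ NS S (Z v 6) := h.nsJ.symm ▸ h.Z_le (by decide)
  have l8 : Z v 8 ≤ S := h.Z_le (by decide)
  have lBS : cl v lB ≤ S := h.cl_le_S (by decide +kernel)
  have lU6 : cl v lU ≤ Z v 6 := h.LE_spec
  have s1 : ∀ {P : Subgroup Ω} (β : MulAut P), Z v 1 ≤ P → fn β (v 1) ∈ Z v 1 → β ∈ stab P (Z v 1) := fun β l e =>
    haveI := fin_of_le (h.Z_le (k := 1) (by decide))
    mem_stab_of_maps l fun x hx => by
      obtain ⟨i, hi⟩ := h.ex_pow (k := 0) (by decide) hx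
      rw [← h.eq0 hi, (mulOn_fn β).map_pow (l (h.gen_mem (k := 0) (by decide)))]
      exact pow_mem e i
  by_cases c0 : ∀ g ∈ F.autGroup (Z v 6), Cg (Z v 0) (v 1) (fn g (v 1)) → g ∈ GM F (Z v 6)
  · have d : Sd F (Z v 6) (Z v 0) (F.autGroup _) 6 (v 1) := by
      refine ⟨hF, hE, ab, mo 0 6, lo, le_rfl, fun d hd => ?_, fun e => (hF.ess_Gam hE).2 (le_antisymm Gam_le e), h.chJ,
        .inr rfl, h.riZ 0 6, ⟨Z v 4, v 243, mo 0 4, mo 4 6, zo 243 6, h.nZ, h.riZ 0 4, ?_⟩, zo 1 6, h.nZ,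
        h.pow3 (k := 0) (by decide), z1, c0⟩
      · rw [show d = 1 from mem_bot.1 (h.Z_zero ▸ hd)]
        exact ⟨one_pow _, fun σ _ => (mulOn_fn σ).map_one⟩
      · rintro y (hy | rfl)
        · obtain ⟨c, c1, rfl⟩ := h.ex_Z (by decide) hy
          obtain ⟨i, i1, i2⟩ := (by decide +kernel : ∀ c < 3 ^ 4, ∃ i < 26, cc c (729 * (i + 1)) < 3 ^ 0) c c1
          exact ⟨_, nS (729 * (i + 1)) (by omega), h.nZ (by decide) (by omega) (by omega),
            h.cZ (by decide) (by omega) (by omega) i2⟩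
        · exact ⟨_, nS 6561, h.nZ, h.cZ (by decide) (by decide) (by decide) (by decide +kernel)⟩
    have fx : ∀ {A}, CE A g3 0 (zl 1) = true → ∀ y ∈ cl v A, (∀ s ∈ NS S (Z v 6), cm y s ∈ Z v 0) →
        y ∈ Z v 0 ⊔ zpowers (v 1) := fun e y hy k => Md.Z_succ (k := 0) (by decide)
      (h.CE_spec e hy fun s hs => k _ (nS s (okl_iff.1 (by decide +kernel) s hs)))
    by_cases mb : Mv F v lB (zl 7)
    swap
    · refine d.plane (mo 0 3) (mo 3 6) (h.riZ 0 3) (zo 1 3) (inf_le_right.trans (h.ovr hF hX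
        (fun s hs x hx e => mb (hd s hs x hx e).2) ?_ hE)) (mo 6 7) l7 (zo 729 7) h.nZ (fun y hy => ⟨1, one_mem _,
          one_mem _, fun s hs => ?_, _, nS 2187, h.nZ, ?_⟩) (nD 0) (fx (by decide +kernel))
      · rintro P (rfl | rfl | rfl) β hβ
        · exact res_stab lS (mo 3 6) (((h.chS ⊤).1 6 (by decide)).1 (mem_top β)) (((h.chS ⊤).1 3 (by decide)).1 (mem_top β))
        · exact res_stab (mo 6 8) (mo 3 6) ((h.chA rfl ⊤).2.2.1 (mem_top β)) ((h.chA rfl ⊤).1.1 (mem_top β))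
        · have := h.chB7 rfl (st_of (by_contra fun c => mb ⟨β, hβ, c⟩) h.LE_spec)
          exact res_stab h.JB.le (mo 3 6) ((this 6 (by decide)).1 (mem_zpowers β)) ((this 3 (by decide)).1 (mem_zpowers β))
      · rw [fn_one]; exact h.c0 (h.comm hy hs)
      · rw [fn_one]; exact h.c0 (h.comm hy (zo 2187 8))
    obtain ⟨n, n1, n2, -, n3⟩ := hb mb
    obtain ⟨b1, bU, b6⟩ := h.chB rfl ⊤
    obtain ⟨m, m1, m2⟩ := h.resM hF hE h.JB lBS n1 (b6.1 (mem_top n))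
    by_cases ma : Mv F v (zl 8) (zl 7)
    swap
    · have l0 : Z v 0 ≤ cl v lU := h.LE_spec
      have l2 : Z v 2 ≤ cl v lU := h.LE_spec
      refine d.plane l0 lU6 ?_ h.mem_of (inf_le_right.trans (h.ovr hF hX
        (fun s hs x hx e => ma (hd s hs x hx e).1) ?_ hE)) (mo 6 7) l7 (zo 729 7) h.nZ (fun y hy => ?_) (nD 0)
        (fx (by decide +kernel))
      · rw [← relIndex_mul_relIndex _ _ _ (mo 0 2) l2, h.riZ 0 2, show (Z v 2).relIndex (cl v lU) = 3 from h.ri 27 h.nZ]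
        rfl
      · rintro P (rfl | rfl | rfl) β hβ
        · exact res_stab lS lU6 (((h.chS ⊤).1 6 (by decide)).1 (mem_top β)) ((h.chS ⊤).2.2.2.1.1 (mem_top β))
        · have s6 := (h.chA rfl (zpowers β)).2.2
          exact res_stab (mo 6 8) lU6 (s6.1 (mem_zpowers β)) ((h.der lU [(0, 0), (0, 0), (0, 0), (0, 0), (0, 0),
            (1458, 243), (0, 0), (1458, 81), (729, 27)] (st_of (A := zl 7) (by_contra fun c => ma ⟨β, hβ, c⟩) (mo 7 8))
            s6).1 (mem_zpowers β))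
        · exact res_stab h.JB.le lU6 (b6.1 (mem_top β)) (bU.1 (mem_top β))
      · suffices ∃ m ∈ GM F (Z v 6), fn m y ∈ Z v 2 from
          let ⟨m, a, b⟩ := this
          ⟨m, Gam_le a, a, fun s hs => h.c0 (h.comm b hs), _, nS 2187, h.nZ, h.c0 (h.comm b (zo 2187 8))⟩
        obtain ⟨r, r1, r2, rfl⟩ := h.ex0 (f := fun r => Bool.rec (lany (fun s => MM lV (cjc r s)) [0, 2187, 4374]) true
          (lt r 9)) (by decide +kernel) hy
        rcases brec_or.1 r2 with r2 | r2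
        · exact ⟨1, one_mem _, by rw [fn_one]; exact zo r 2 (by decide) (lt_iff.1 r2)⟩
        obtain ⟨s, t1, t2⟩ := lany_iff.1 r2
        have t0 : s < 19683 := okl_iff.1 (by decide +kernel) s t1
        have w := h.mem_of t2
        have wU : v (cjc r s) ∈ cl v lU := h.LE_spec (by decide +kernel) w
        have w' := stab_maps (bU.1 (mem_top n⁻¹)) wU
        refine ⟨m⁻¹ * cA _ (v s), mul_mem (inv_mem m1) (h.cjM hF hE (h.mem t0)), ?_⟩
        rw [fn_mul, fn_cA (nS s t0).2 (lU6 hy), ← h.cjc r1 t0, ← fn_fn_inv n (v (cjc r s)), ← m2 _ (lU6 w'), fn_inv_fn]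
        refine h.CE_spec (ys := [1458]) (j := 0) (by decide +kernel) w' fun y hy => h.c0 ?_
        rw [List.mem_singleton.1 hy, h.nA n3 (lU6 w'), fn_fn_inv]
        exact h.comm w (mem_cl (A := [13122]) List.mem_cons_self)
    obtain ⟨α, a1, a2⟩ := ma
    obtain ⟨a3, -, a6⟩ := h.chA rfl ⊤
    obtain ⟨m0, m3, m4⟩ := h.resM hF hE h.J8 l8 a1 (a6.1 (mem_top α))
    have y1 : fn α (v 1) ∈ Z v 3 := stab_maps (a3.1 (mem_top α)) (zo 1 3)
    have y2 : fn α (v 1) ∉ Z v 1 := fun e => a2 ((h.chA1 rfl (st_of (s1 α (mo 1 8) e) (mo 1 8))).1 (mem_zpowers α))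
    obtain ⟨r, r1, r2⟩ := h.ex_Z (by decide) y1
    have y3 : fn n (v r) ∈ cl v lW := h.CE_spec (A := zl 6) (ys := [13122]) (j := 0) (by decide +kernel)
      (stab_maps (b6.1 (mem_top n)) (zo r 6 (by decide) (by omega))) fun y hy => h.c0 (by
        rw [List.mem_singleton.1 hy, ← h.nA n3 (zo r 6 (by decide) (by omega))]
        exact h.comm (zo r 3 (by decide) r1) (zo 1458 8))
    obtain ⟨q, q1, q2, q3⟩ := h.ex0 ((brec_or.1 (allN_spec kBig (by decide) r r1)).resolve_left fun e =>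
      y2 (r2 ▸ zo r 1 (by decide) (lt_iff.1 e))) y3
    replace q2 := (brec_or.1 q2).resolve_left fun e =>
      b1.not_mem (mem_top n) (r2 ▸ y2 :) (q3 ▸ zo q 1 (by decide) (lt_iff.1 e))
    have e0 : v r = fn m0 (v 1) := r2.trans (m4 _ (zo 1 6)).symm
    refine d.big _ (h.pw (by decide) q2) (fun y hy => ?_) (by simp) fun _ => by simp [orL, lapp_eq, lmap_eq]
    obtain ⟨c, hc, rfl⟩ := List.mem_map.1 hy
    rw [lapp_eq, List.mem_cons, List.mem_cons, List.mem_append] at hc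
    rcases hc with rfl | rfl | hc | hc
    · exact ⟨1, one_mem _, one_mem _, .inl (by rw [fn_one])⟩
    · exact ⟨1, one_mem _, one_mem _, .inr (by rw [fn_one, h.inv (by decide)])⟩
    · exact h.orM hF hE m3 (by omega) e0 (by decide +kernel) hc
    · exact h.orM hF hE (mul_mem m1 m3) q1 (by rw [fn_mul, ← e0, m2 _ (zo r 6 (by decide) (by omega)), q3])
        (by decide +kernel) hc
  push Not at c0
  obtain ⟨g0, g1, g2, g3'⟩ := c0
  have b0 : ∀ g : MulAut (Z v 6), g ∈ stab _ (Z v 0) := fun g => h.Z_zero ▸ le_stab_bot (mem_top g)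
  have d : Sd F (Z v 6) (Z v 1) (F.autGroup _ ⊓ fxm (Z v 0) (zo 1 6)) 5 (v 3) := by
    have lo' : autInducedBy S (Z v 6) ≤ F.autGroup _ ⊓ fxm (Z v 0) (zo 1 6) := le_inf lo fun α hα => by
      obtain ⟨s, s1, s2, rfl⟩ := mem_autInducedBy.1 hα
      exact ⟨b0 _, by rw [fn_cA s2 (zo 1 6)]; exact z1 s ⟨s1, s2⟩⟩
    refine ⟨hF, hE, ab, mo 1 6, lo', inf_le_left, fun d hd => ?_, fun e => g3' (e ⟨g1, b0 _, g2⟩), h.chJ, .inl rfl,
      h.riZ 1 5, ⟨Z v 4, v 243, mo 1 4, mo 4 6, zo 243 6, h.nZ, h.riZ 1 3, ?_⟩, zo 3 6, h.nZ,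
      h.pow3 (k := 1) (by decide), z2, fun g hg e => by_contra fun c => ?_⟩
    · obtain ⟨i, hi⟩ := h.ex_pow (k := 0) (by decide) hd
      rw [← h.eq0 hi]
      refine ⟨by rw [← pow_mul, mul_comm, pow_mul, mem_bot.1 (h.Z_zero ▸ h.pow3 (k := 0) (by decide) :), one_pow],
        fun σ hσ => ?_⟩
      rw [(mulOn_fn σ).map_pow (zo (3 ^ 0) 6)]
      exact congrArg (· ^ i) (h.eq0 hσ.2.2).symm
    · rintro y (hy | rfl)
      · exact ⟨_, nS 729, h.nZ, h.CC_spec (B := zl 7) (by decide +kernel) hy (zo 729 7)⟩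
      · exact ⟨_, nS 6561, h.nZ, h.cZ (by decide) (by decide) (by decide) (by decide +kernel)⟩
    · obtain ⟨Y, y0, y1, k, lk⟩ := h.exists_lk' hF hE lo' inf_le_left (mo 1 6) (zo 3 6) z2 (nD 1) hg
        (s1 g (mo 1 6) (h.eq0 hg.2.2 ▸ zo 1 1)) e c
      obtain ⟨g, g1, g2⟩ := lk.mv
      have n7 : v 729 ∉ Z v 6 := h.nZ
      rcases lk.cls with q | q | q | ⟨s, hs, q | q⟩ | ⟨-, q⟩ | ⟨rfl, -⟩
      · exact n7 (q ▸ zo 729 8)
      · exact n7 (q ▸ h.mem_of)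
      · exact n7 (q ▸ h.mem_of)
      · exact (h.cj hs).nZ (k := 6) (c := 8748) (by decide) (by decide) (by decide)
          ((h.Z_cj hs (k := 6) (by decide)).symm ▸ q ▸ mem_cl List.mem_cons_self)
      · exact (h.cj hs).nZ (k := 6) (c := 10935) (by decide) (by decide) (by decide)
          ((h.Z_cj hs (k := 6) (by decide)).symm ▸ q ▸ mem_cl List.mem_cons_self)
      · interval_cases k
        exacts [g2 (y0 g1).2.2, g2 (y1 g g1)]
      · exact g2 (y0 g1).2.2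
  by_cases mb : Mv F v lB (zl 7)
  · obtain ⟨n, n1, n2, -, n3⟩ := hb mb
    obtain ⟨b1, bU, b6⟩ := h.chB rfl ⊤
    obtain ⟨m, m1, m2⟩ := h.resM hF hE h.JB lBS n1 (b6.1 (mem_top n))
    have y3 : fn n (v 3) ∈ cl v lV := h.CE_spec (A := lU) (ys := [13122]) (j := 0) (by decide +kernel)
      (stab_maps (bU.1 (mem_top n)) h.mem_of) fun y hy => h.c0 (by
        rw [List.mem_singleton.1 hy, ← h.nA n3 (zo 3 6)]
        exact h.comm (zo 3 3) (zo 1458 8))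
    obtain ⟨q, q1, q2, q3⟩ := h.ex0 (f := fun q => Bool.rec (PW 1 [3, iv 3, q, iv q]) true (lt q 3)) (by decide +kernel) y3
    replace q2 := (brec_or.1 q2).resolve_left fun e =>
      b1.not_mem (mem_top n) (x := v 3) h.nZ (q3 ▸ zo q 1 (by decide) (lt_iff.1 e))
    have mH : m ∈ F.autGroup _ ⊓ fxm (Z v 0) (zo 1 6) := ⟨Gam_le m1, b0 _, by rw [m2 _ (zo 1 6), n2]; simp⟩
    refine d.big _ (h.pw (by decide) q2) (fun y hy => ?_) (by simp) (by simp)
    obtain ⟨c, hc, rfl⟩ := List.mem_map.1 hy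
    simp only [List.mem_cons, List.not_mem_nil, or_false] at hc
    rcases hc with rfl | rfl | rfl | rfl
    · exact ⟨1, one_mem _, one_mem _, .inl (by rw [fn_one])⟩
    · exact ⟨1, one_mem _, one_mem _, .inr (by rw [fn_one, h.inv (by decide)])⟩
    · exact ⟨m, mH, m1, .inl (by rw [m2 _ (zo 3 6), q3])⟩
    · exact ⟨m, mH, m1, .inr (by rw [m2 _ (zo 3 6), h.inv q1, q3])⟩
  have rS : ∀ β ∈ F.autGroup S, ∃ κ ∈ rs F (mo 6 8), ∀ x ∈ Z v 6, fn β x = fn κ x := fun β hβ => by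
    have s6 := ((h.chS ⊤).1 6 (by decide)).1 (mem_top β)
    have s8 := ((h.chS ⊤).1 8 (by decide)).1 (mem_top β)
    exact ⟨res _ β, ⟨res _ β, res_mem_autGroup l8 le_rfl hβ s8, fun x hx => (fn_res l8 s8 (mo 6 8 (by decide) (by decide)
      hx)).trans (fn_res lS s6 hx).symm⟩, fun x hx => (fn_res lS s6 hx).symm⟩
  have k := h.ovr hF hX (fun s hs x hx e => mb (hd s hs x hx e).2) (K := rs F (mo 6 8)) (by
    rintro P (rfl | rfl | rfl) β hβ
    · exact rS β hβ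
    · have s6 := (h.chA rfl ⊤).2.2.1 (mem_top β)
      exact ⟨res _ β, ⟨β, hβ, fun x hx => (fn_res (mo 6 8) s6 hx).symm⟩, fun x hx => (fn_res (mo 6 8) s6 hx).symm⟩
    · obtain ⟨g, e1, e2⟩ := h.extB hF hβ (by_contra fun c => mb ⟨β, hβ, c⟩)
      obtain ⟨γ, e3, e4⟩ := e1.iso_top.exists_aut
      exact (rS γ e3).imp fun κ k => ⟨k.1, fun x hx => by rw [← k.2 x hx, e4 x (lS hx), e2 x (h.JB.le hx)]⟩) hE
  haveI := fin_of_le (h.Z_le (k := 4) (by decide))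
  refine d.plane (mo 1 4) (mo 4 6) (h.riZ 1 3) (zo 3 4) (fun κ hκ => ?_) (mo 6 7) l7 (zo 729 7) h.nZ
    (fun y hy => ⟨1, one_mem _, one_mem _, fun s hs => ?_, ?_⟩) (nD 1) fun y hy k => Md.Z_succ (k := 1) (by decide)
      (h.CE_spec (ys := g3) (j := 1) (by decide +kernel) hy fun s hs => k _ (nS s (okl_iff.1 (by decide +kernel) s hs)))
  · obtain ⟨β, -, e⟩ := k hκ.2
    have := h.chA7 rfl (h.chA1 rfl (st_of (s1 β (mo 1 8) (by rw [e _ (zo 1 6), ← h.eq0 hκ.1.2.2]; exact zo 1 1))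
      (mo 1 8))) 4 (by decide)
    exact mem_stab_of_maps (mo 4 6) fun x hx => e x (mo 4 6 (by decide) (by decide) hx) ▸
      stab_maps (this.1 (mem_zpowers β)) hx
  · rw [fn_one]; exact h.CC_spec (by decide +kernel) hy hs
  · obtain ⟨c, c1, rfl⟩ := h.ex_Z (by decide) hy
    obtain ⟨i, i1, i2⟩ := (by decide +kernel : ∀ c < 3 ^ 4, ∃ i < 5, cc c (2187 * (i + 1)) < 3 ^ 1) c c1
    exact ⟨_, nS (2187 * (i + 1)) (by omega), h.nZ (by decide) (by omega) (by omega), by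
      rw [fn_one]; exact h.cZ (by decide) (by omega) (by omega) i2⟩

end CF.Cw3
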