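import Cfsg.Agent.Cw3.N

/-! The elementary abelian subgroup of order 243 is not essential. -/

set_option autoImplicit false
set_option linter.style.haveILetI false
set_option linter.unusedSimpArgs false

namespace CF.Cw3

open Cfsg Cfsg.FusionSystem Subgroup CF.Fus CF.FusU CF.Comp CF.Th3

variable {Ω : Type*} [Group Ω] {S E U W : Subgroup Ω} {F : FusionSystem S} {v : ℕ → Ω}
  {Y Q : Subgroup (MulAut E)} {α β : MulAut E} {s t x y : Ω}

/-- the commutator subgroup of `U` with a group of automorphisms -/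
def cq (U : Subgroup Ω) (Q : Subgroup (MulAut E)) : Subgroup Ω := closure {y | ∃ x ∈ U, ∃ β ∈ Q, x⁻¹ * fn β x = y}

theorem mem_cq (hx : x ∈ U) (hE : x ∈ E) (ht : t ∈ normalizer (E : Set Ω)) (h : cA E t ∈ Q) : cm x t ∈ cq U Q :=
  subset_closure ⟨x, hx, _, h, by rw [fn_cA ht hE]; rfl⟩

theorem cq_le (l : U ≤ E) (hQ : Q ≤ autInducedBy S E) (h : ∀ x ∈ U, ∀ s ∈ NS S E, cm x s ∈ W) : cq U Q ≤ W := by
  refine (closure_le _).2 ?_
  rintro _ ⟨x, hx, β, hβ, rfl⟩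
  obtain ⟨s, s1, s2, rfl⟩ := mem_autInducedBy.1 (hQ hβ)
  rw [fn_cA s2 (l hx)]
  exact h x hx s ⟨s1, s2⟩

theorem cq_stab (l : U ≤ E) (hU : Y ≤ stab E U) (hn : Y ≤ normalizer (Q : Set (MulAut E))) : Y ≤ stab E (cq U Q) := by
  have m : cq U Q ≤ E := (closure_le _).2 (by
    rintro _ ⟨x, hx, β, -, rfl⟩; exact mul_mem (E.inv_mem (l hx)) (fn_mem _ (l hx)))
  refine le_stab m fun α hα y hy => ((closure_le (imG E (zpowers α) (cq U Q))).2 ?_ hy).2 α (mem_zpowers α)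
  rintro _ ⟨x, hx, β, hβ, rfl⟩
  refine ⟨mul_mem (E.inv_mem (l hx)) (fn_mem _ (l hx)), fun γ hγ => subset_closure ⟨fn γ x, stab_maps
    (hU (zpowers_le.2 hα hγ)) hx, γ * β * γ⁻¹, conj_mem_of_norm (hn (zpowers_le.2 hα hγ)) hβ, ?_⟩⟩
  rw [(mulOn_fn γ).map_inv_mul (l hx) (fn_mem _ (l hx)), fn_mul, fn_mul, fn_inv_fn]

theorem fn_cm' (ht : t ∈ normalizer (E : Set Ω)) (hs : s ∈ normalizer (E : Set Ω)) (e : α * cA E t * α⁻¹ = cA E s)
    (hx : x ∈ E) : fn α (cm x t) = cm (fn α x) s := by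
  rw [cm, (mulOn_fn α).map_inv_mul hx (conj_mem_of_norm ht hx), (conj_cA ht hs).1 e x hx, cm]

/-- the commutator subgroup of `lX` with its normalizer -/
def lY : List ℕ := [0, 0, 729, 0, 0, 0, 9, 3, 1]

/-- the preimage of the centre of the automizer of `lX` -/
def lT : List ℕ := [0, 2187, 729, 0, 0, 27, 9, 3, 1]

namespace Md

variable (h : Md S v)
include h

theorem nsX : NS S (cl v lX) = cl v lC := h.NE_spec (r := 2187) (k := 0) (by decide +kernel)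

theorem x9 (hs : s ∈ cl v lC) (sn : s ∉ cl v lR) : cm (v 9) s ∈ Z v 2 ∧ cm (v 9) s ∉ Z v 1 ∧
    cm (v 3) s ∈ Z v 1 ∧ cm (v 3) s ∉ Z v 0 := by
  have sS := h.cl_le_S (by decide +kernel) hs
  have n := fun k (hk : k ≤ 9) => h.Z_norm hk
  refine ⟨h.cm_Z (by decide) (h.Z_of_lt (by decide) (by decide)) sS, fun e => sn (h.CE_spec (ys := [9]) (j := 1)
    (by decide +kernel) hs fun y hy => ?_), h.cm_Z (by decide) (h.Z_of_lt (by decide) (by decide)) sS,
    fun e => sn (h.CE_spec (ys := [3]) (j := 0) (by decide +kernel) hs fun y hy => ?_)⟩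
  all_goals
    rw [List.mem_singleton.1 hy]
    exact cm_swap_mem (n _ (by decide) (h.mem (by decide))) (n _ (by decide) sS) e

theorem xc (ht : t ∈ cl v lR) (tn : t ∉ cl v lX) (hx : x ∈ cl v lX) (e : x * t = t * x) : x ∈ Z v 3 := by
  obtain ⟨r, r1, r2, -, r3⟩ := h.CV_spec (D := lX) (P := fun r => Bool.rec (CE lX [r] 0 (zl 3)) true (Nat.beq r 0))
    (by decide +kernel) ht
  rcases brec_or.1 r2 with r0 | r0
  · exact absurd (by simpa [beq_iff.1 r0, h.zero] using r3) tn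
  refine h.CE_spec r0 hx fun y hy => h.c0 ?_
  rw [List.mem_singleton.1 hy, show v r = t * ((v r)⁻¹ * t)⁻¹ by group, ← mul_assoc, e, mul_assoc, mul_assoc,
    h.comm hx (inv_mem r3)]

theorem xq {α : MulAut (cl v lX)} (ht : t ∈ cl v lR) (tn : t ∉ cl v lX) (hC : CS S (cl v lX) ≤ cl v lX)
    (e : α * cA _ t * α⁻¹ ∈ autInducedBy S (cl v lX)) : α ∈ stab _ (Z v 3) := by
  haveI := h.fin
  obtain ⟨s, s1, s2, e⟩ := mem_autInducedBy.1 e
  have t0 : t ∈ NS S (cl v lX) := h.nsX ▸ h.LE_spec (by decide +kernel) ht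
  have l : Z v 3 ≤ cl v lX := h.LE_spec
  haveI := fin_of_le (h.Z_le (k := 3) (by decide))
  have k := fun {x} => fn_cm' (x := x) t0.2 s2 e.symm
  have w : ∀ x ∈ Z v 3, cm (fn α x) s = 1 := fun x hx => by
    rw [← k (l hx), cm_eq_one.2 (h.comm hx ht), (mulOn_fn α).map_one]
  have sR : s ∈ cl v lR := by_contra fun c => by
    obtain ⟨a1, a2, -, a4⟩ := h.x9 (h.nsX ▸ ⟨s1, s2⟩) c
    have m := fn_mem α⁻¹ (h.mem_of (D := lX) (c := 9))
    have := w _ (h.CC_spec (A := lX) (B := lR) (by decide +kernel) m ht)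
    rw [k m, fn_fn_inv] at this
    exact a4 (h.c0 (h.gen3 (k := 1) (H := centralizer {s}) (by decide) (fun z hz => mem_centralizer_singleton_iff.2
      (h.comm hz (h.S_eq3 ▸ s1))) a1 a2 (mem_centralizer_singleton_iff.2 (cm_eq_one.1 this))
      (h.Z_of_lt (by decide) (by decide)) s rfl).symm)
  refine mem_stab_of_maps l fun x hx => h.xc sR (fun c => tn (hC ⟨t0.1, (cA_eq_one_iff t0.2).1 ?_⟩)) (fn_mem _ (l hx))
    (cm_eq_one.1 (w x hx))
  rw [(cA_eq_one_iff s2).2 fun y hy => h.comm hy c] at e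
  exact conj_eq_one_iff.1 e.symm

theorem xinv (hF : Sat F 3) (hE : F.IsEssential 3 (cl v lX)) : GM F (cl v lX) ≤ stab _ (Z v 3) := by
  haveI : Fact (Nat.Prime 3) := ⟨Nat.prime_three⟩
  haveI := h.fin
  have lS := (hF.ess_lt hE).le
  haveI := fin_of_le lS
  have hC := hF.ess_centric hE
  refine (closure_le _).2 ?_
  rintro α ⟨hα, Q, q1, q2, q3⟩
  obtain ⟨β, b1, b2⟩ := SetLike.exists_of_lt q1
  obtain ⟨t, t1, t2, rfl⟩ := mem_autInducedBy.1 (q2 b1)
  by_cases c : t ∈ cl v lR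
  · exact h.xq c (mt cA_mem_Inn b2) hC (q2 (conj_mem_of_norm q3 b1))
  obtain ⟨a1, a2, a3, a4⟩ := h.x9 (h.nsX ▸ ⟨t1, t2⟩) c
  have u : v 27 ∈ cl v lR := h.mem_of
  have u0 : v 27 ∈ NS S (cl v lX) := h.NM_spec (by decide +kernel)
  have l1 : cq (cl v lX) Q ≤ cl v lY := cq_le le_rfl q2 fun x hx s hs => h.CD_spec (by decide +kernel) hx (h.nsX ▸ hs)
  have l2 : cl v lY ≤ cl v lX := h.LE_spec
  have l3 : cq (cq (cl v lX) Q) Q ≤ Z v 3 := cq_le (l1.trans l2) q2 fun x hx s hs =>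
    h.CC_spec (B := lC) (by decide +kernel) (l1 hx) (h.nsX ▸ hs)
  have l4 : Z v 3 ≤ cl v lX := h.LE_spec
  have m1 : Z v 2 ≤ cq (cl v lX) Q := h.gen3 (k := 1) (by decide) (h.gen3 (k := 0) (by decide) (h.Z_zero ▸ bot_le) a3 a4
    (mem_cq h.mem_of h.mem_of t2 b1)) a1 a2 (mem_cq h.mem_of h.mem_of t2 b1)
  have m2 : Z v 1 ≤ cq (cq (cl v lX) Q) Q := h.gen3 (k := 0) (by decide) (h.Z_zero ▸ bot_le) a3 a4
    (mem_cq (m1 (h.Z_of_lt (by decide) (by decide))) h.mem_of t2 b1)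
  have u' : v 27 ∈ cl v [27] := mem_cl List.mem_cons_self
  have k1 : ∀ x ∈ cl v lX, cm x (v 27) ∈ cq (cl v lX) Q := fun x hx => m1 (h.CC_spec (by decide +kernel) hx u')
  have k2 : ∀ x ∈ cq (cl v lX) Q, cm x (v 27) ∈ cq (cq (cl v lX) Q) Q := fun x hx =>
    m2 (h.CC_spec (by decide +kernel) (l1 hx) u')
  have k3 : ∀ x ∈ cq (cq (cl v lX) Q) Q, cm x (v 27) = 1 := fun x hx => cm_eq_one.2 (h.comm (l3 hx) u')
  let Y := F.autGroup (cl v lX) ⊓ (stab _ (cq (cl v lX) Q) ⊓ stab _ (cq (cq (cl v lX) Q) Q))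
  have s1 := cq_stab le_rfl (stab_self.ge.trans' le_top) (zpowers_le.2 q3)
  have y1 : α ∈ Y := ⟨hα, s1 (mem_zpowers α), cq_stab (l1.trans l2) s1 (zpowers_le.2 q3) (mem_zpowers α)⟩
  haveI := fin_of_le (l1.trans (l2.trans lS))
  haveI := fin_of_le (l3.trans (l4.trans lS))
  have y2 : cA _ (v 27) ∈ Y := ⟨cA_mem_autGroup F lS u0.1, mem_stab_of_maps (l1.trans l2) fun x hx => by
      rw [fn_cA u0.2 (l2 (l1 hx)), ← mul_cm]; exact mul_mem hx (k1 x (l2 (l1 hx))),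
    mem_stab_of_maps (l3.trans l4) fun x hx => by rw [fn_cA u0.2 (l4 (l3 hx)), ← mul_cm, k3 x hx, mul_one]; exact hx⟩
  have o := (((Lv.bot.stepc u0.2 (inf_le_right.trans inf_le_right) fun x _ hx => mem_bot.2 (k3 x hx)).stepc u0.2
    (inf_le_right.trans inf_le_left) fun x _ hx => k2 x hx).stepc u0.2 le_stab_top fun x hx _ => k1 x hx).op
    (hF.pgroup lS) y2
  obtain ⟨γ, -, g⟩ := (hF.ess_syl hE).exists_conj (OpIn_le.trans inf_le_left) (OpIn_isPGroup (B := Y))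
  have n := h.not_mem (c := 27) kX
  have := mul_mem (inv_mem (h.xq u n hC (g _ o))) (h.xq (α := γ * α) u n hC (by
    simpa [mul_assoc] using g _ (conj_mem_of_norm (le_norm_OpIn y1) o)))
  simpa using this

end Md

theorem no_X (h : Md S v) (hF : Sat F 3) : ¬ F.IsEssential 3 (cl v lX) := fun hE => by
  haveI : Fact (Nat.Prime 3) := ⟨Nat.prime_three⟩
  have lS := (hF.ess_lt hE).le
  have n27 := h.not_mem (c := 27) kX
  have l3 : Z v 3 ≤ cl v lX := h.LE_spec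
  have l0 := h.Z_mono (j := 0) (k := 3) (by decide) (by decide)
  have lT' : cl v lX ≤ cl v lT := h.LE_spec
  have n81 : v 81 ∉ cl v lT := h.NI_spec (r := 2187) (k := 2) (by decide +kernel) (by decide +kernel)
  have n0 : NS S (cl v lX) ≤ normalizer (Z v 0 : Set Ω) := NS_le.trans (h.Z_norm (by decide))
  have z1 : ∀ s ∈ NS S (cl v lX), cm (v 1) s ∈ Z v 0 := fun s hs => h.cm_Z (by decide) (h.gen_mem (by decide)) hs.1
  have nY : v 729 ∉ Z v 3 := h.nZ
  have d : Sd F (cl v lX) (Z v 0) (F.autGroup _) 5 (v 1) := by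
    refine ⟨hF, hE, fun x hx y hy => h.comm hx hy, l0.trans l3, autInducedBy_le F lS, le_rfl, fun d hd => ?_,
      fun e => (hF.ess_Gam hE).2 (le_antisymm Gam_le e), ⟨cl v lT, cl v lR, ?_, ?_, ?_⟩, .inl rfl, ?_,
      ⟨Z v 3, v 729, l0, l3, h.mem_of, nY, h.riZ 0 3, ?_⟩, h.mem_of, h.nZ, h.pow3 (k := 0) (by decide), z1,
      fun g hg e => by_contra fun c => ?_⟩
    · rw [show d = 1 from mem_bot.1 (h.Z_zero ▸ hd)]
      exact ⟨one_pow _, fun σ _ => (mulOn_fn σ).map_one⟩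
    · exact SetLike.lt_iff_le_and_exists.2 ⟨lT', _, h.mem_of, n27⟩
    · exact SetLike.lt_iff_le_and_exists.2 ⟨h.LE_spec, _, h.mem_of, n81⟩
    · exact h.nsX ▸ SetLike.lt_iff_le_and_exists.2 ⟨h.LE_spec, v 6561, h.mem_of,
        h.NI_spec (r := 3) (k := 0) (by decide +kernel) (by decide +kernel)⟩
    · have lY1 : Z v 3 ≤ cl v lY := h.LE_spec
      have lY2 : cl v lY ≤ cl v lX := h.LE_spec
      rw [← relIndex_mul_relIndex _ _ _ l0 l3, ← relIndex_mul_relIndex _ _ _ lY1 lY2, h.riZ 0 3,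
        show (Z v 3).relIndex (cl v lY) = 3 from h.ri 729 nY,
        h.ri 2187 (h.NI_spec (r := 81) (k := 2) (by decide +kernel) (by decide +kernel))]
      rfl
    · rintro y (hy | rfl)
      · exact ⟨v 27, h.NM_spec (by decide +kernel), n27, h.c0 (h.comm hy (mem_cl (A := [27]) List.mem_cons_self))⟩
      · exact ⟨v 6561, h.NM_spec (by decide +kernel), h.not_mem kX, h.cZ (by decide) (by decide) (by decide)
          (by decide +kernel)⟩
    · obtain ⟨Y, -, y1, k, lk⟩ := h.exists_lk' hF hE (autInducedBy_le F lS) le_rfl (l0.trans l3) h.mem_of z1 n0 hg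
        (h.Z_zero ▸ le_stab_bot (mem_top g)) e c
      have i6 : v 27 ∈ Z v 6 := h.Z_of_lt (by decide) (by decide)
      rcases lk.cls with q | q | q | ⟨s, hs, q | q⟩ | ⟨q, -⟩ | ⟨rfl, -⟩
      · exact n27 (q ▸ h.Z_of_lt (by decide) (by decide))
      · exact n27 (q ▸ h.mem_of)
      · exact n27 (q ▸ h.mem_of)
      · exact n27 (q ▸ (h.cj hs).LE_spec (A := zl 6) (by decide +kernel) (h.Z_cj hs (k := 6) (by decide) ▸ i6 :))
      · exact n27 (q ▸ (h.cj hs).LE_spec (A := zl 6) (by decide +kernel) (h.Z_cj hs (k := 6) (by decide) ▸ i6 :))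
      · exact n27 (q ▸ i6)
      · obtain ⟨g, g1, g2⟩ := lk.mv
        exact g2 (y1 g g1)
  refine d.plane l0 l3 (h.riZ 0 3) (h.Z_of_lt (by decide) (by decide)) (inf_le_right.trans (h.xinv hF hE)) lT'
    (h.nsX ▸ h.LE_spec) h.mem_of n27 (fun y hy => ⟨1, one_mem _, one_mem _, fun s hs => ?_, v 81,
      h.NM_spec (by decide +kernel), n81, ?_⟩) n0 fun y hy k => Md.Z_succ (k := 0) (by decide)
      (h.CE_spec (A := zl 3) (ys := [6561]) (j := 0) (by decide +kernel) hy fun s hs => k _ ?_)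
  · rw [fn_one]; exact h.c0 (h.comm hy hs)
  · rw [fn_one]; exact h.c0 (h.comm hy (mem_cl (A := [81]) List.mem_cons_self))
  · rw [List.mem_singleton.1 hs]; exact h.NM_spec (by decide +kernel)

end CF.Cw3
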