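import Cfsg.Agent.Cw3.M

/-! Two-dimensional sections of a subgroup of index three in its normalizer. -/

set_option autoImplicit false
set_option linter.style.haveILetI false
set_option linter.unusedSimpArgs false

namespace CF.Cw3

open Cfsg Cfsg.FusionSystem Subgroup CF.Fus CF.FusU CF.Comp CF.Th3

variable {Ω : Type*} [Group Ω] {S E A D L : Subgroup Ω} {F : FusionSystem S} {K H : Subgroup (MulAut E)}
  {g α β n σ ρ ρ' : MulAut E} {s t x y : Ω}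

/-- the plane -/
abbrev P2 := Fin 3 × Fin 3

/-- the linear map with the given images of the basis -/
def act (m : P2 × P2) (p : P2) : P2 := (p.1 * m.1.1 + p.2 * m.2.1, p.1 * m.1.2 + p.2 * m.2.2)

/-- transvections -/
def tau (i : Fin 3) : P2 × P2 := ((1, i), (0, 1))

/-- the Weyl element -/
def n0 : P2 × P2 := ((0, 1), (2, 0))

theorem add_act {φ : P2 → P2} (h : ∀ p q, φ (p + q) = φ p + φ q) (p : P2) : φ p = act (φ (1, 0), φ (0, 1)) p := by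
  have h0 : φ 0 = 0 := by simpa using h 0 0
  have k : ∀ q (i : Fin 3), φ (i * q.1, i * q.2) = (i * (φ q).1, i * (φ q).2) := fun q i => by
    fin_cases i
    · simpa [Prod.mk_zero_zero] using h0
    · simp
    · exact (congrArg φ ((by decide : ∀ q : P2, (2 * q.1, 2 * q.2) = q + q) q)).trans ((h q q).trans
        ((by decide : ∀ q : P2, q + q = (2 * q.1, 2 * q.2)) _))
  have := h (p.1 * 1, p.1 * 0) (p.2 * 0, p.2 * 1)
  rw [k (1, 0), k (0, 1)] at this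
  simpa [act] using this

theorem dih {G : Type*} [Group G] {I : Subgroup G} (hI : IsPGroup 3 I) {a b : G} (ha : a * a = 1) (hb : b * b = 1)
    (h : a⁻¹ * b ∈ I) : ∃ i ∈ I, i * b * i⁻¹ = a ∧ ∀ c, c * a = a * c → c * b = b * c → c * i = i * c := by
  obtain ⟨k, hk⟩ := isPGroup_iff_mem.1 hI _ h
  obtain ⟨m, hm⟩ : Odd (3 ^ k) := Odd.pow (by decide)
  rw [inv_eq_of_mul_eq_one_right ha] at h hk
  have e : ∀ j : ℕ, (a * b) ^ j * b = b * ((a * b) ^ j)⁻¹ := fun j => by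
    have : SemiconjBy b (a * b)⁻¹ (a * b) := by
      rw [SemiconjBy, mul_inv_rev, inv_eq_of_mul_eq_one_right ha, inv_eq_of_mul_eq_one_right hb, ← mul_assoc, hb,
        mul_assoc, hb, one_mul, mul_one]
    rw [← inv_pow]; exact (this.pow_right j).symm
  refine ⟨_, pow_mem h (m + 1), ?_, fun c h1 h2 => ((Commute.mul_right h1 h2).pow_right _)⟩
  rw [mul_assoc, ← e, ← mul_assoc, ← pow_add, show m + 1 + (m + 1) = 2 * m + 1 + 1 by ring, ← hm, pow_succ, hk, one_mul,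
    mul_assoc, hb, mul_one]

/-- the matrix of `α` -/
def Mt (D : Subgroup Ω) (e : P2 → Ω) (α : MulAut E) (φ : P2 → P2) : Prop := ∀ p, Cg D (e (φ p)) (fn α (e p))

/-- a section `A / D` of `E` -/
structure Sec (F : FusionSystem S) (E A D L : Subgroup Ω) (K : Subgroup (MulAut E)) (t : Ω) (e : P2 → Ω) : Prop where
  sat : Sat F 3
  le : E ≤ S
  fn : F.IsFullyNormalized E
  tN : t ∈ NS S E
  t3 : t ^ 3 ∈ E
  gen : NS S E ≤ E ⊔ zpowers t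
  sA : F.autGroup E ≤ stab E A
  sD : F.autGroup E ≤ stab E D
  AE : A ≤ E
  DL : D ≤ L
  LA : L ≤ A
  nD : A ≤ normalizer (D : Set Ω)
  eA : ∀ x ∈ A, ∀ y ∈ E, cm x y ∈ D
  mem : ∀ p, e p ∈ A
  add : ∀ p q, Cg D (e (p + q)) (e p * e q)
  sur : ∀ x ∈ A, ∃ p, Cg D (e p) x
  inj : ∀ p q, Cg D (e p) (e q) → p = q
  memL : ∀ p, e p ∈ L ↔ p.1 = 0
  tr : ∀ p, Cg D (e (act (tau 1) p)) (t * e p * t⁻¹)
  lv : ∀ Y : Subgroup (MulAut E), Y ≤ stab E L → Lv Y (cA E t) ⊤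
  nK : F.autGroup E ≤ normalizer (K : Set (MulAut E))
  tK : cA E t ∈ K
  iK : Inn E ≤ K
  inn : ∀ α ∈ F.autGroup E, α ∈ K → (∀ x ∈ A, Cg D x (Fus.fn α x)) → Lv (F.autGroup E) α ⊤

variable {e : P2 → Ω} {φ ψ : P2 → P2} {m : P2 × P2}

theorem Mt.congr (h : Mt D e α φ) (k : ∀ p, φ p = ψ p := by decide) : Mt D e α ψ := fun p => k p ▸ h p

theorem mt_one : Mt D e (1 : MulAut E) id := fun p => by rw [fn_one]; exact Cg.refl _

namespace Sec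

variable (h : Sec F E A D L K t e)
include h

theorem eE (p : P2) : e p ∈ E := h.AE (h.mem p)

theorem mul (hα : α ∈ F.autGroup E) (h1 : Mt D e α φ) (h2 : Mt D e β ψ) : Mt D e (α * β) (φ ∘ ψ) := fun p => by
  rw [fn_mul]; exact (h1 _).trans ((h2 p).fn (h.sD hα) (h.eE _) (fn_mem β (h.eE p)))

theorem uniq (h1 : Mt D e α φ) (h2 : Mt D e α ψ) (p : P2) : φ p = ψ p := h.inj _ _ ((h1 p).trans (h2 p).symm)

theorem ex (hα : α ∈ F.autGroup E) : ∃ m, Mt D e α (act m) := by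
  choose φ hφ using fun p => h.sur _ (stab_maps (h.sA hα) (h.mem p))
  refine ⟨_, Mt.congr hφ (add_act fun p q => h.inj _ _ ?_)⟩
  have := (h.add p q).fn (h.sD hα) (h.eE _) (mul_mem (h.eE p) (h.eE q))
  rw [mulOn_fn α (h.eE p) (h.eE q)] at this
  exact ((hφ _).trans this).trans (((hφ p).mul (hφ q) (h.nD (h.mem _))).symm.trans (h.add _ _).symm)

theorem ex2 (hα : α ∈ F.autGroup E) : ∃ m m', Mt D e α (act m) ∧ Mt D e α⁻¹ (act m') ∧ ∀ p, act m (act m' p) = p := by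
  obtain ⟨m, h1⟩ := h.ex hα
  obtain ⟨m', h2⟩ := h.ex (inv_mem hα)
  exact ⟨m, m', h1, h2, h.uniq (h.mul hα h1 h2) (mul_inv_cancel α ▸ mt_one)⟩

theorem cg (hα : α ∈ F.autGroup E) (h1 : Mt D e α φ) {p : P2} (k : Cg D (e p) x) (hx : x ∈ E) : Cg D (e (φ p)) (Fus.fn α x) :=
  (h1 p).trans (k.fn (h.sD hα) (h.eE p) hx)

theorem stab_iff (hα : α ∈ F.autGroup E) (h1 : Mt D e α (act m)) : α ∈ stab E L ↔ m.2.1 = 0 := by
  haveI := h.sat.finite ((h.LA.trans h.AE).trans h.le)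
  refine ⟨fun k => ?_, fun k => mem_stab_of_maps (h.LA.trans h.AE) fun x hx => ?_⟩
  · simpa [act] using (h.memL _).1 ((h1 (0, 1)).mem' h.DL (stab_maps k ((h.memL _).2 rfl)))
  · obtain ⟨p, hp⟩ := h.sur x (h.LA hx)
    refine (h.cg hα h1 hp (h.AE (h.LA hx))).mem h.DL ((h.memL _).2 ?_)
    simp [act, k, (h.memL p).1 (hp.mem' h.DL hx)]

theorem cA_mem (hs : s ∈ S) : cA E s ∈ F.autGroup E := cA_mem_autGroup F h.le hs

theorem mt_inn (hα : α ∈ Inn E) : Mt D e α id := fun p => by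
  obtain ⟨s, hs, rfl⟩ := mem_Inn.1 hα
  rw [fn_cA (le_normalizer hs) (h.eE p)]
  exact h.eA _ (h.mem p) s hs

theorem mt_t : Mt D e (cA E t) (act (tau 1)) := fun p => fn_cA h.tN.2 (h.eE p) ▸ h.tr p

theorem mt_pow (i : ℕ) : Mt D e (cA E t ^ i) (act (tau (Fin.ofNat 3 i))) := by
  induction i with
  | zero => rw [pow_zero]; exact mt_one.congr
  | succ i ih =>
    rw [pow_succ', show Fin.ofNat 3 (i + 1) = Fin.ofNat 3 i + 1 from Fin.ext (by simp [Fin.add_def])]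
    exact (h.mul (h.cA_mem h.tN.1) h.mt_t ih).congr
      ((by decide : ∀ j p, (act (tau 1) ∘ act (tau j)) p = act (tau (j + 1)) p) _)

theorem mt_fin (i : Fin 3) : Mt D e (cA E t ^ (i : ℕ)) (act (tau i)) := by
  simpa only [Fin.ofNat_val_eq_self] using h.mt_pow i

theorem mt_N (hs : s ∈ NS S E) : ∃ i, Mt D e (cA E s) (act (tau i)) ∧ (i = 0 → s ∈ E) := by
  haveI := h.sat.fin
  obtain ⟨i, hi⟩ := ex_pow h.tN.1 h.tN.2 (h.gen hs)
  refine ⟨Fin.ofNat 3 i, ?_, fun k => hi.mem le_rfl ?_⟩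
  · rw [← mul_inv_cancel_left (t ^ i) s, cA_mul (pow_mem h.tN.2 i) (le_normalizer hi), cA_pow h.tN.2]
    exact h.mul (pow_mem (h.cA_mem h.tN.1) i) (h.mt_pow i) (h.mt_inn (cA_mem_Inn hi))
  · obtain ⟨j, rfl⟩ := Nat.dvd_of_mod_eq_zero (congrArg Fin.val k)
    rw [pow_mul]; exact pow_mem h.t3 j

theorem P_le : autInducedBy S E ≤ stab E L := fun α hα => by
  obtain ⟨s, s1, s2, rfl⟩ := mem_autInducedBy.1 hα
  obtain ⟨i, hi, -⟩ := h.mt_N ⟨s1, s2⟩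
  exact (h.stab_iff (h.cA_mem s1) hi).2 rfl

theorem norm (hα : α ∈ F.autGroup E) (hL : α ∈ stab E L) : α ∈ normalizer (autInducedBy S E : Set (MulAut E)) :=
  haveI : Fact (Nat.Prime 3) := ⟨Nat.prime_three⟩
  haveI := h.sat.fin
  norm_of_lv h.sat.pg h.le (Y := F.autGroup E ⊓ stab E L) (h.sat.syl_of_fn h.fn) inf_le_left
    (le_inf (autInducedBy_le F h.le) h.P_le) h.tN.2 h.gen (h.lv _ inf_le_right) h.tN.1 ⟨hα, hL⟩

theorem dec (hn : n ∈ F.autGroup E) (h1 : Mt D e n (act n0)) (nH : n ∈ H)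
    (k : ∀ α ∈ F.autGroup E, α ∈ stab E L → α ∈ H) : F.autGroup E ≤ H := fun α hα => by
  obtain ⟨m, hm⟩ := h.ex hα
  by_cases c : m.2.1 = 0
  · exact k α hα ((h.stab_iff hα hm).2 c)
  obtain ⟨i, m', h2, h3⟩ := (by decide +kernel : ∀ m : P2 × P2, m.2.1 ≠ 0 → ∃ i : Fin 3, ∃ m' : P2 × P2, m'.2.1 = 0 ∧
    ∀ p, (act n0 ∘ act (tau i) ∘ act m) p = act m' p) m c
  have t1 := pow_mem (h.cA_mem h.tN.1) i
  have t2 := h.mt_fin i
  have a := mul_mem hn (mul_mem t1 hα)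
  have := k _ a ((h.stab_iff a ((h.mul hn h1 (h.mul t1 t2 hm)).congr h3)).2 h2)
  rwa [mul_mem_cancel_left nH, mul_mem_cancel_left (k _ t1 ((h.stab_iff t1 t2).2 rfl))] at this

theorem inn' (hα : α ∈ F.autGroup E) (hK : α ∈ K) (h1 : Mt D e α id) : α ∈ Inn E := by
  haveI : Fact (Nat.Prime 3) := ⟨Nat.prime_three⟩
  haveI := h.sat.finite h.le
  haveI := h.sat.fin
  have o := (h.inn α hα hK fun x hx => let ⟨_, hp⟩ := h.sur x hx; hp.symm.trans (h.cg hα h1 hp (h.AE hx))).op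
    (h.sat.pgroup h.le) hα
  have sy := h.sat.syl_of_fn h.fn
  obtain ⟨s, s1, s2, rfl⟩ := mem_autInducedBy.1 (sy.OpIn_le o)
  obtain ⟨i, i1, i2⟩ := h.mt_N ⟨s1, s2⟩
  exact cA_mem_Inn (i2 (by simpa [act, tau] using congrArg Prod.snd (h.uniq i1 h1 (1, 0))))

theorem weyl (g1 : g ∈ F.autGroup E) (g2 : g ∉ stab E L) : ∃ n ∈ F.autGroup E, n ∈ K ∧ Mt D e n (act n0) := by
  obtain ⟨m, m', h1, h2, h3⟩ := h.ex2 g1
  obtain ⟨i, j, l, k⟩ := (by decide +kernel : ∀ m m' : P2 × P2, (∀ p, act m (act m' p) = p) → m.2.1 ≠ 0 → ∃ i j l : Fin 3,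
    ∀ p, (act (tau i) ∘ ((act m ∘ act (tau j)) ∘ act m') ∘ act (tau l)) p = act n0 p) m m' h3
    (mt (h.stab_iff g1 h1).2 g2)
  have t1 := fun i => pow_mem (h.cA_mem h.tN.1) i
  have t2 := h.mt_fin
  have a := mul_mem (mul_mem g1 (t1 j)) (inv_mem g1)
  exact ⟨_, mul_mem (t1 i) (mul_mem a (t1 l)), mul_mem (pow_mem h.tK i) (mul_mem (conj_mem_of_norm (h.nK g1)
    (pow_mem h.tK j)) (pow_mem h.tK l)), (h.mul (t1 i) (t2 i) (h.mul a (h.mul (mul_mem g1 (t1 j)) (h.mul g1 h1 (t2 j)) h2)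
      (t2 l))).congr k⟩

theorem sl (hn : n ∈ F.autGroup E) (hK : n ∈ K) (h1 : Mt D e n (act n0)) : (n * cA E t) ^ 3 ∈ Inn E ∧ n ^ 4 ∈ Inn E := by
  have a := mul_mem hn (h.cA_mem h.tN.1)
  have b := h.mul hn h1 h.mt_t
  refine ⟨h.inn' (pow_mem a 3) (pow_mem (mul_mem hK h.tK) 3) ?_, h.inn' (pow_mem hn 4) (pow_mem hK 4) ?_⟩
  · rw [pow_three]; exact (h.mul a b (h.mul a b b)).congr
  · rw [pow_succ', pow_three]; exact (h.mul hn h1 (h.mul hn h1 (h.mul hn h1 h1))).congr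

theorem full (g1 : g ∈ F.autGroup E) (g2 : g ∉ stab E L) (s1 : σ ∈ F.autGroup E) (r1 : ρ ∈ F.autGroup E) (r1' : ρ' ∈ F.autGroup E) (s2 : σ * σ = 1) (r2 : ρ * ρ = 1)
    (r2' : ρ' * ρ' = 1) (c : σ * ρ = ρ * σ) (c' : σ * ρ' = ρ' * σ) (k : ρ'⁻¹ * ρ ∈ K) (s3 : Mt D e σ (act ((2, 0), (0, 2))))
    (r3 : Mt D e ρ φ) (r3' : Mt D e ρ' ψ) (q : ∀ p, ψ (act n0 (φ (act ((0, 2), (1, 0)) p))) = p) :
    ∃ n ∈ F.autGroup E, n ∈ K ∧ Mt D e n (act n0) ∧ n * σ = σ * n ∧ n * ρ = ρ' * n := by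
  have key : ∀ {n ρ ρ' φ ψ}, n ∈ F.autGroup E → n ∈ K → Mt D e n (act n0) → ρ ∈ F.autGroup E → ρ' ∈ F.autGroup E →
      ρ * ρ = 1 → ρ' * ρ' = 1 → ρ'⁻¹ * ρ ∈ K → Mt D e ρ φ → Mt D e ρ' ψ →
      (∀ p, ψ (act n0 (φ (act ((0, 2), (1, 0)) p))) = p) → ∃ i, (i * n ∈ F.autGroup E ∧ i * n ∈ K ∧
        Mt D e (i * n) (act n0)) ∧ i * n * ρ = ρ' * (i * n) ∧
        ∀ c, c * ρ' = ρ' * c → c * (n * ρ * n⁻¹) = n * ρ * n⁻¹ * c → c * i = i * c := by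
    intro n ρ ρ' φ ψ n1 n2 n3 r1 r1' r2 r2' k r3 r3' q
    obtain ⟨m, hm⟩ := h.ex (inv_mem n1)
    replace hm := hm.congr ((by decide +kernel : ∀ m, (∀ p, (act n0 ∘ act m) p = id p) → ∀ p,
      act m p = act ((0, 2), (1, 0)) p) m (h.uniq (h.mul n1 n3 hm) (mul_inv_cancel n ▸ mt_one)))
    have a := mul_mem n1 r1
    obtain ⟨i, i1, i2, i3⟩ := dih (isPGroup_Inn (h.sat.pgroup h.le)) (b := n * ρ * n⁻¹) r2'
      (by rw [conj_mul, r2, mul_one, mul_inv_cancel]) (h.inn' (mul_mem (inv_mem r1') (mul_mem a (inv_mem n1)))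
      (by
        rw [show ρ'⁻¹ * (n * ρ * n⁻¹) = ρ'⁻¹ * ρ * (ρ⁻¹ * n * ρ) * n⁻¹ by group]
        exact mul_mem (mul_mem k (conj_mem_of_norm' (h.nK r1) n2)) (inv_mem n2))
      (by rw [inv_eq_of_mul_eq_one_right r2']; exact (h.mul r1' r3' (h.mul a (h.mul n1 n3 r3) hm)).congr q))
    have i4 := Inn_le_autGroup F h.le i1
    exact ⟨i, ⟨mul_mem i4 n1, mul_mem (h.iK i1) n2, h.mul i4 (h.mt_inn i1) n3⟩, by rw [← i2]; group, i3⟩
  obtain ⟨n, n1, n2, n3⟩ := h.weyl g1 g2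
  obtain ⟨i, ⟨a1, a2, a3⟩, a4, -⟩ := key n1 n2 n3 s1 s1 s2 s2 (by simp) s3 s3 (by decide)
  obtain ⟨j, ⟨b1, b2, b3⟩, b4, b5⟩ := key a1 a2 a3 r1 r1' r2 r2' k r3 r3' q
  refine ⟨_, b1, b2, b3, ?_, b4⟩
  generalize i * n = n at *
  have e1 : σ * n⁻¹ = n⁻¹ * σ := by rw [eq_inv_mul_iff_mul_eq, ← mul_assoc, a4, mul_inv_cancel_right]
  rw [mul_assoc, a4, ← mul_assoc, ← b5 σ c' (by
    rw [← mul_assoc, ← mul_assoc, ← a4, mul_assoc n, c, mul_assoc, mul_assoc, e1, mul_assoc, mul_assoc]), mul_assoc]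

end Sec

end CF.Cw3
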