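import Cfsg.Agent.Cw3.Co
import Cfsg.Agent.Comp.MatG
import Cfsg.Agent.Geom.Orders
import Cfsg.Agent.Fisch.St.Same

/-! The Sylow 3-subgroup of `Sp₆(3)` in terms of the codes. -/

set_option autoImplicit false
set_option maxRecDepth 1000000

namespace CF.Cw3

open CF.Comp Subgroup CF.Fus CF.Schur.Pc Cfsg Matrix

theorem kN : allN 19683 (fun c => Bool.rec (lany (fun g => force (cc c g) fun e => band (lt 0 e) (lt e c)) g3) true
    (lt c 3)) = true := by decide +kernel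

theorem md_of_ne {Γ : Type*} [Group Γ] [Finite Γ] {y : ℕ → Γ} (h : Rel Pd y) (n1 : vl y 1 ≠ 1) (n2 : vl y 2 ≠ 1) :
    Md (gen 9 y 0) (vl y) ∧ Nat.card (gen 9 y 0) = 3 ^ 9 := by
  obtain ⟨-, S, v, m, -⟩ := re_co1
  have i : ∀ {a}, a < 19683 → vl y (iv a) = (vl y a)⁻¹ := fun {a} ha =>
    eq_inv_of_mul_eq_one_right (by rw [← vl_mu h ha (iv_lt ha).1, (iv_lt ha).2]; exact mul_one _)
  have k : ∀ c < 19683, vl y c = 1 → c = 0 := fun c => by
    induction c using Nat.strong_induction_on with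
    | _ c ih =>
      intro hc e
      have := allN_spec kN le_rfl c hc
      by_cases l : c < 3
      · interval_cases c
        exacts [rfl, (n1 e).elim, (n2 e).elim]
      rw [show lt c 3 = false from Bool.eq_false_iff.2 (mt lt_iff.1 l)] at this
      obtain ⟨g, hg, q⟩ := lany_iff.1 this
      rw [force_eq, band_iff, lt_iff, lt_iff] at q
      have l := (by decide : ∀ g ∈ g3, g < 19683) g hg
      refine absurd (ih _ q.2 (q.2.trans hc) ?_) q.1.ne'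
      rw [cc, force_eq, cjc, force_eq, vl_mu h (iv_lt hc).1 (mu_lt (mu_lt l hc) (iv_lt l).1),
        vl_mu h (mu_lt l hc) (iv_lt l).1, vl_mu h l hc, i hc, i l, e]
      simp
  refine md_of_rel h (le_trans (by simp) (Nat.card_le_card_of_injective (fun a : Fin 19683 =>
    (⟨vl y a, mul_mem (pv_mem fun i hi => mem_gen y (Nat.zero_le _)
      ((by decide +kernel : ∀ q < 81, ∀ i ∈ wq q, i < 9) _ (by omega) i hi))
      (pv_mem fun i hi => mem_gen y (Nat.zero_le _)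
      ((by decide +kernel : ∀ q < 243, ∀ i ∈ wv q, i < 9) _ (by omega) i hi))⟩ : gen 9 y 0)) fun a b e => ?_))
  have := congrArg v (k _ (mu_lt a.2 (iv_lt b.2).1) (by
    rw [vl_mu h a.2 (iv_lt b.2).1, i b.2, show vl y a = vl y b from congrArg Subtype.val e, mul_inv_cancel]))
  rw [m.mul a.2 (iv_lt b.2).1, m.inv b.2, m.zero, mul_inv_eq_one] at this
  exact Fin.ext (m.inj a.2 b.2 this)

namespace Sp

noncomputable def As : List (List (List Nat)) := [[[1, 1, 0, 0, 0, 0], [0, 1, 0, 0, 0, 0], [0, 0, 1, 0, 0, 0], [0, 0, 0, 1, 0, 0], [0, 0, 0, 2, 1, 0], [0, 0, 0, 0, 0, 1]],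
  [[1, 0, 0, 0, 0, 0], [0, 1, 1, 0, 0, 0], [0, 0, 1, 0, 0, 0], [0, 0, 0, 1, 0, 0], [0, 0, 0, 0, 1, 0], [0, 0, 0, 0, 2, 1]],
  [[1, 0, 1, 0, 0, 0], [0, 1, 0, 0, 0, 0], [0, 0, 1, 0, 0, 0], [0, 0, 0, 1, 0, 0], [0, 0, 0, 0, 1, 0], [0, 0, 0, 2, 0, 1]],
  [[1, 0, 0, 0, 0, 0], [0, 1, 0, 0, 0, 0], [0, 0, 1, 0, 0, 1], [0, 0, 0, 1, 0, 0], [0, 0, 0, 0, 1, 0], [0, 0, 0, 0, 0, 1]],
  [[1, 0, 0, 0, 0, 0], [0, 1, 0, 0, 0, 1], [0, 0, 1, 0, 1, 0], [0, 0, 0, 1, 0, 0], [0, 0, 0, 0, 1, 0], [0, 0, 0, 0, 0, 1]],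
  [[1, 0, 0, 0, 0, 1], [0, 1, 0, 0, 0, 0], [0, 0, 1, 1, 0, 0], [0, 0, 0, 1, 0, 0], [0, 0, 0, 0, 1, 0], [0, 0, 0, 0, 0, 1]],
  [[1, 0, 0, 0, 0, 0], [0, 1, 0, 0, 1, 0], [0, 0, 1, 0, 0, 0], [0, 0, 0, 1, 0, 0], [0, 0, 0, 0, 1, 0], [0, 0, 0, 0, 0, 1]],
  [[1, 0, 0, 0, 1, 0], [0, 1, 0, 1, 0, 0], [0, 0, 1, 0, 0, 0], [0, 0, 0, 1, 0, 0], [0, 0, 0, 0, 1, 0], [0, 0, 0, 0, 0, 1]],
  [[1, 0, 0, 1, 0, 0], [0, 1, 0, 0, 0, 0], [0, 0, 1, 0, 0, 0], [0, 0, 0, 1, 0, 0], [0, 0, 0, 0, 1, 0], [0, 0, 0, 0, 0, 1]],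
  [[0, 1, 0, 0, 0, 0], [0, 0, 1, 0, 0, 0], [1, 0, 0, 0, 0, 0], [0, 0, 0, 0, 1, 0], [0, 0, 0, 0, 0, 1], [0, 0, 0, 1, 0, 0]],
  [[1, 0, 0, 0, 0, 0], [0, 0, 0, 0, 1, 0], [0, 0, 1, 0, 0, 0], [0, 0, 0, 1, 0, 0], [0, 2, 0, 0, 0, 0], [0, 0, 0, 0, 0, 1]],
  [[1, 0, 0, 0, 0, 0], [0, 1, 0, 0, 0, 0], [0, 0, 1, 0, 0, 0], [0, 0, 0, 2, 0, 0], [0, 0, 0, 0, 2, 0], [0, 0, 0, 0, 0, 2]]]

/-- the products of the listed matrices agree -/
noncomputable def eqW (u w : List ℕ) : Bool :=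
  band (band (ltAll 12 u) (ltAll 12 w)) (prodK (tabP 3) 6 (lmap (nth [] As) u) (prodIs (tabP 3) 6 (lmap (nth [] As) w)))

/-- the word of a code -/
noncomputable def wc (c : ℕ) : List ℕ := wq (c / 243) ++ wv (c % 243)

theorem k1 : allFrom (spAt (tabP 3) 3 2 As) 0 11 = true := by decide +kernel
theorem k2 : allFrom (fun j => band (eqW [j, j, j] (Pd.tab.get (idx j j)))
    (allFrom (fun i => eqW [j, i] (i :: Pd.tab.get (idx i j))) 0 j)) 0 9 = true := by decide +kernel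
theorem k3 : lall (fun t => t) [eqW (9 :: wc 1) (wc 243 ++ [9]), eqW (10 :: wc 3) (wc 6561 ++ [10]),
    eqW (11 :: wc 1) (wc 2 ++ [11]), eqW [11, 11] [], eqW (wc 2) [8, 8]] = true := by decide +kernel

abbrev I : Type := Fin 3 ⊕ Fin 3
abbrev G : Type := GL I (ZMod 3)
noncomputable abbrev mt : List (List ℕ) → Matrix I I (ZMod 3) := mat Nat.cast finSumFinEquiv
noncomputable def φ : symplecticGroup (Fin 3) (ZMod 3) →* G := (symplecticGroup (Fin 3) (ZMod 3)).subtype.toHomUnits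

theorem mem_H {g : G} : g ∈ φ.range ↔ g.1 ∈ symplecticGroup (Fin 3) (ZMod 3) :=
  ⟨fun ⟨x, e⟩ => e ▸ x.2, fun h => ⟨⟨_, h⟩, Units.ext rfl⟩⟩

theorem card_H : Nat.card φ.range = 9170703360 := by
  rw [← Nat.card_congr (MonoidHom.ofInjective (f := φ) fun a b e => Subtype.ext (congrArg Units.val e)).toEquiv,
    CF.Geom.card_symplecticGroup, Nat.card_zmod]
  decide

theorem m8 : mt (nth [] As 8) = 1 + single (.inl 0) (.inr 0) 1 := by decide +kernel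
theorem m11 : mt (nth [] As 11) * J _ _ * (mt (nth [] As 11))ᵀ = -J _ _ := by decide +kernel

theorem not_conj {M : Matrix I I (ZMod 3)} (h : M ∈ symplecticGroup (Fin 3) (ZMod 3))
    (e : M * (1 + single (.inl 0) (.inr 0) 1) = (1 + single (.inl 0) (.inr 0) 1) * (1 + single (.inl 0) (.inr 0) 1) * M) :
    False := by
  have a := fun i => congrFun (congrFun e i) (.inr 0)
  have b := congrFun (congrFun (SymplecticGroup.mem_iff'.1 h) (.inl 0)) (.inr 0)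
  have a0 := a (.inl 0)
  have a1 := a (.inl 1)
  have a2 := a (.inl 2)
  have a3 := a (.inr 0)
  have a4 := a (.inr 1)
  have a5 := a (.inr 2)
  simp [mul_add, add_mul, mul_apply, J, Fintype.sum_sum_type, Fin.sum_univ_three, single_apply, one_apply] at a0 a1 a2 a3 a4 a5 b
  rw [a1, a2, a3, a4, a5] at b
  revert a0 b
  generalize M (.inl 0) (.inl 0) = s, M (.inr 0) (.inr 0) = t, M (.inl 0) (.inr 0) = u
  simp
  revert s t u
  decide

variable {y : ℕ → G} (h : ∀ i < 12, (y i).1 = mt (nth [] As i))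
include h

theorem val_pv {w : List ℕ} (l : ltAll 12 w = true) : (pv y w).1 = ((lmap (nth [] As) w).map mt).prod := by
  rw [lmap_eq]
  induction w with
  | nil => rfl
  | cons a w ih =>
    rw [ltAll_iff, List.forall_mem_cons, ← ltAll_iff] at l
    rw [pv_cons, Units.val_mul, ih l.2, h a l.1]; rfl

theorem eq_of {u w : List ℕ} (e : eqW u w = true) : pv y u = pv y w := by
  rw [eqW, band_iff, band_iff] at e
  obtain ⟨C, a, b⟩ := (tabP_ok (ZMod 3) 3 (by decide)).prodK (finSumFinEquiv (m := 3) (n := 3)) e.2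
  exact Units.ext (by rw [val_pv h e.1.1, val_pv h e.1.2, ← a, (tabP_ok (ZMod 3) 3 (by decide)).prodIs _ b])

theorem cj_of {g a b : ℕ} (e : eqW (g :: wc a) (wc b ++ [g]) = true) : y g * vl y a * (y g)⁻¹ = vl y b := by
  have := eq_of h e
  rw [pv_cons, pv_append, wc, wc, pv_append, pv_append, pv_cons, pv_nil, mul_one] at this
  exact mul_inv_eq_of_eq_mul this

end Sp

open Sp in
theorem re_sp : ∃ (G : Type) (_ : Group G) (_ : Finite G) (H K S : Subgroup G) (w : ℕ → G), Md S w ∧ H ≤ K ∧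
    SylIn 3 S H ∧ SylIn 3 S K ∧ (∃ g ∈ H, g * w 1 * g⁻¹ = w 243) ∧ (∃ g ∈ H, g * w 3 * g⁻¹ = w 6561) ∧
    (∀ g ∈ H, g * w 1 * g⁻¹ ≠ w 2) ∧ (∃ g ∈ K, g * w 1 * g⁻¹ = w 2) ∧ ∀ g ∈ K, ¬ 11 ∣ orderOf g := by
  have hT := tabP_ok (ZMod 3) 3 (by decide)
  have s := fun i hi => hT.exists_sp (c := 2) (by decide) (all0 k1 i hi)
  obtain ⟨y, h, -⟩ := exists_els (Units.coeHom _) (m := 12) (M := fun i => mt (nth [] As i)) fun i hi =>
    (lt_or_ge i 11).elim (fun l => let ⟨x, e⟩ := s i l; ⟨φ x, e⟩) fun l => by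
      obtain rfl : i = 11 := by omega
      exact ⟨hT.gl _ _ (nth [] As 11) (by decide +kernel), rfl⟩
  have m : ∀ i < 11, y i ∈ φ.range := fun i l => let ⟨x, e⟩ := s i l; ⟨x, Units.ext (e.trans (h i (by omega)).symm)⟩
  have k := k3
  simp only [lall_iff (f := fun t => t), List.mem_cons, List.not_mem_nil, or_false, forall_eq_or_imp, forall_eq] at k
  obtain ⟨a, b, c, d, e⟩ := k
  have v1 : vl y 1 = y 8 := by simp [vl, show wq 0 = [] from rfl, show wv 1 = [8] from rfl]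
  have v2 : vl y 2 = y 8 * y 8 := by simpa [wc, vl] using eq_of h e
  have n : ∀ g ∈ φ.range, g * vl y 1 * g⁻¹ ≠ vl y 2 := fun g q e => not_conj (mem_H.1 q) (by
    have := congrArg Units.val (mul_inv_eq_iff_eq_mul.1 e)
    have z : (y 8).1 = _ := (h 8 (by decide)).trans m8
    rwa [v1, v2, Units.val_mul, Units.val_mul, Units.val_mul, z] at this)
  have n1 : vl y 1 ≠ 1 := fun q => n 1 (one_mem _) (by rw [v2, ← v1, q]; simp)
  obtain ⟨md, cd⟩ := md_of_ne (y := y) ⟨fun i j l hj => by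
      simpa using eq_of h (all0 (band_iff.1 (all0 k2 j hj)).2 i l), fun i hi => by
      simpa [pow_succ, show Pd.p = 3 from rfl, mul_assoc] using eq_of h (band_iff.1 (all0 k2 i hi)).1⟩ n1 fun q => n1 (by
    have := cj_of h c
    rwa [q, conj_eq_one_iff] at this)
  have l : gen 9 y 0 ≤ φ.range := (closure_le _).2 (by rintro _ ⟨i, ⟨-, hi⟩, rfl⟩; exact m i (by omega))
  have dd : y 11 * y 11 = 1 := by simpa using eq_of h d
  have cK := (Fisch.card_sup_le (K := φ.range) (g := y 11) two_pos (fun x q => mem_H.2 (by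
    have z : (y 11).1 * J _ _ * (y 11).1ᵀ = _ := h 11 (by decide) ▸ m11
    rw [inv_eq_of_mul_eq_one_right dd, SymplecticGroup.mem_iff, Units.val_mul, Units.val_mul, transpose_mul, transpose_mul]
    calc _ = (y 11).1 * (x.1 * ((y 11).1 * J _ _ * (y 11).1ᵀ) * x.1ᵀ) * (y 11).1ᵀ := by simp only [mul_assoc]
      _ = _ := by rw [z, mul_neg, neg_mul, SymplecticGroup.mem_iff.1 (mem_H.1 q), mul_neg, neg_mul, z, neg_neg]))
    (by rw [pow_two, dd]; exact one_mem _)).2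
  have cK' : Nat.card ↥(zpowers (y 11) ⊔ φ.range) ∣ 2 * 9170703360 := by
    obtain ⟨r, q⟩ := card_dvd_of_le (le_sup_right (a := zpowers (y 11)) (b := φ.range))
    have := Nat.card_pos (α := ↥(zpowers (y 11) ⊔ φ.range))
    rw [q, card_H] at cK this ⊢
    obtain rfl | rfl : r = 1 ∨ r = 2 := by omega
    all_goals decide
  exact ⟨G, _, inferInstance, φ.range, zpowers (y 11) ⊔ φ.range, _, _, md, le_sup_right,
    syl_of l cd (by rw [card_H]; decide), syl_of (l.trans le_sup_right) cd fun q => absurd (q.trans cK') (by decide),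
    ⟨_, m 9 (by decide), cj_of h a⟩, ⟨_, m 10 (by decide), cj_of h b⟩, n,
    ⟨_, mem_sup_left (mem_zpowers _), cj_of h c⟩, fun g q r =>
      absurd ((r.trans (orderOf_dvd_natCard _ q)).trans cK') (by decide)⟩

end CF.Cw3
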