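import Cfsg.Agent.Cw3.O
import Cfsg.Agent.Cw3.Sp

/-! Automorphisms given by the codes of the images of generators. -/

set_option autoImplicit false
set_option linter.style.haveILetI false
set_option linter.unusedSimpArgs false

namespace CF.Cw3

open Cfsg Cfsg.FusionSystem Subgroup CF.Fus CF.FusU CF.Comp CF.Th3 CF.Schur.Pc

variable {Ω Ω' : Type*} [Group Ω] [Group Ω'] {S E U : Subgroup Ω} {S' : Subgroup Ω'} {F : FusionSystem S} {v : ℕ → Ω}
  {α β γ τ : MulAut E} {s t x y : Ω} {a b c i : ℕ} {A B p q w : List ℕ}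

/-- the product of a word -/
noncomputable def pc (q w : List ℕ) : ℕ := List.rec (motive := fun _ => ℕ) 0 (fun i _ r => mu (nth 0 q i) r) w

/-- the image of a code when the generators are mapped to `q` -/
noncomputable def ap (q : List ℕ) (c : ℕ) : ℕ := force c fun c => pc q (lapp (wq (c / 243)) (wv (c % 243)))

/-- the code is a word in `A` -/
noncomputable def IN (A : List ℕ) (c : ℕ) : Bool := band (lt c 19683) (Nat.beq (ap A c) c)

/-- the relations hold for `q` -/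
noncomputable def RL (q : List ℕ) : Bool := band (band (okl q) (band (lt 0 (ap q 1)) (lt 0 (ap q 2))))
  (allFrom (fun j => band (Nat.beq (cu (nth 0 q j)) (pc q (Pd.tab.get (idx j j)))) (allFrom (fun i =>
    Nat.beq (mu (nth 0 q j) (nth 0 q i)) (mu (nth 0 q i) (pc q (Pd.tab.get (idx i j))))) 0 j)) 0 9)

theorem kIN : allN 19683 (IN g9) = true := by decide +kernel

theorem kIJ : allN 729 (IN (zl 6)) = true := by decide +kernel

theorem nth_lt (h : okl q = true) (i : ℕ) : nth 0 q i < 19683 := by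
  induction q generalizing i with
  | nil => exact (by decide : 0 < 19683)
  | cons a q ih =>
    have := okl_iff.1 h
    cases i with
    | zero => exact this a List.mem_cons_self
    | succ i => exact ih (okl_iff.2 fun b hb => this b (List.mem_cons_of_mem _ hb)) i

theorem pc_lt (h : okl q = true) (w : List ℕ) : pc q w < 19683 := by
  induction w with
  | nil => exact (by decide : 0 < 19683)
  | cons i w ih => exact mu_lt (nth_lt h i) ih

theorem ap_lt (h : okl q = true) (c : ℕ) : ap q c < 19683 := by rw [ap, force_eq]; exact pc_lt h _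

/-- `α` maps the entries of `A` to those of `q` -/
def Rq (α : MulAut E) (v : ℕ → Ω) (A q : List ℕ) : Prop :=
  List.Forall₂ (fun a b => a < 19683 ∧ b < 19683 ∧ v a ∈ E ∧ fn α (v a) = v b) A q

/-- such an automorphism lies in the fusion system -/
def Has (F : FusionSystem S) (E : Subgroup Ω) (v : ℕ → Ω) (A q : List ℕ) : Prop := ∃ α ∈ F.autGroup E, Rq α v A q

namespace Rq

theorem ok (h : Rq α v A q) : okl A = true ∧ okl q = true ∧ cl v A ≤ E := by
  simp only [okl_iff, cl_le]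
  induction h with
  | nil => simp
  | cons h _ ih => simp only [List.forall_mem_cons]; exact ⟨⟨h.1, ih.1⟩, ⟨h.2.1, ih.2.1⟩, h.2.2.1, ih.2.2⟩

theorem congr (h : Rq α v A q) (e : leq q p = true := by decide +kernel) : Rq α v A p := leq_iff.1 e ▸ h

theorem congr' (h : Rq α v A q) (e : leq A B = true := by decide +kernel) : Rq α v B q := leq_iff.1 e ▸ h

theorem of_map {f : ℕ → ℕ} (h : ∀ a ∈ A, a < 19683 ∧ f a < 19683 ∧ v a ∈ E ∧ fn α (v a) = v (f a)) :
    Rq α v A (lmap f A) := by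
  rw [lmap_eq, Rq, List.forall₂_map_right_iff, List.forall₂_same]; exact h

theorem of_eq {β : MulAut U} (h : Rq α v A q) (l : cl v A ≤ U) (e : ∀ x ∈ cl v A, fn β x = fn α x) : Rq β v A q := by
  induction h with
  | nil => exact .nil
  | @cons a _ l₁ _ h _ ih =>
    have m : cl v l₁ ≤ cl v (a :: l₁) := cl_le.2 fun c hc => mem_cl (List.mem_cons_of_mem _ hc)
    exact .cons ⟨h.1, h.2.1, l (mem_cl List.mem_cons_self), (e _ (mem_cl List.mem_cons_self)).trans h.2.2.2⟩
      (ih (m.trans l) fun x hx => e x (m hx))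

theorem eq_on {β : MulAut U} (h : Rq α v A q) (h' : Rq β v A q) (hx : x ∈ cl v A) : fn α x = fn β x := by
  refine ((mulOn_fn α).mono h.ok.2.2).eqOn_closure ((mulOn_fn β).mono h'.ok.2.2) ?_ x hx
  rintro _ ⟨c, hc, rfl⟩
  clear hx
  induction h with
  | nil => exact absurd hc List.not_mem_nil
  | cons h _ ih =>
    obtain - | ⟨k, k'⟩ := h'
    rcases List.mem_cons.1 hc with rfl | hc
    exacts [h.2.2.2.trans k.2.2.2.symm, ih k' hc]

theorem ext (h : Rq α v A q) (h' : Rq β v A q) (hE : E = cl v A) : α = β := aut_ext fun _ hx => h.eq_on h' (hE ▸ hx)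

end Rq

namespace Md

variable (h : Md S v)
include h

theorem pv_eq (e : okl q = true) (w : List ℕ) : pv (fun i => v (nth 0 q i)) w = v (pc q w) := by
  induction w with
  | nil => exact h.zero.symm
  | cons i w ih => rw [pv_cons, ih]; exact (h.mul (nth_lt e i) (pc_lt e w)).symm

theorem rq_nth (k : Rq α v A q) (i : ℕ) : v (nth 0 A i) ∈ cl v A ∧ fn α (v (nth 0 A i)) = v (nth 0 q i) := by
  induction k generalizing i with
  | nil => exact ⟨h.zero ▸ one_mem _, by rw [show nth 0 [] i = 0 from rfl, h.zero, (mulOn_fn α).map_one]⟩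
  | cons k _ ih =>
    cases i with
    | zero => exact ⟨mem_cl List.mem_cons_self, k.2.2.2⟩
    | succ i => exact ⟨cl_le.2 (fun c hc => mem_cl (List.mem_cons_of_mem _ hc)) (ih i).1, (ih i).2⟩

theorem rq_pc (k : Rq α v A q) (w : List ℕ) : v (pc A w) ∈ cl v A ∧ fn α (v (pc A w)) = v (pc q w) := by
  induction w with
  | nil => exact ⟨h.zero ▸ one_mem _, by rw [show pc A [] = 0 from rfl, show pc q [] = 0 from rfl, h.zero,
      (mulOn_fn α).map_one]⟩
  | cons i w ih =>
    have o := k.ok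
    have n := h.rq_nth k i
    rw [show pc A (i :: w) = mu _ (pc A w) from rfl, show pc q (i :: w) = mu _ (pc q w) from rfl, h.mul (nth_lt o.1 i) (pc_lt o.1 w),
      h.mul (nth_lt o.2.1 i) (pc_lt o.2.1 w), mulOn_fn α (o.2.2 n.1) (o.2.2 ih.1), n.2, ih.2]
    exact ⟨mul_mem n.1 ih.1, rfl⟩

theorem rq_ap (k : Rq α v A q) (e : IN A c = true := by decide +kernel) : v c ∈ cl v A ∧ fn α (v c) = v (ap q c) := by
  have := h.rq_pc k (lapp (wq (c / 243)) (wv (c % 243)))
  simp only [IN, band_iff, beq_iff, ap, force_eq] at e ⊢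
  rwa [e.2] at this

theorem rq_mul (h1 : Rq α v A p) (h2 : Rq β v B q) (e : lall (IN A) q = true := by decide +kernel) :
    Rq (α * β) v B (lmap (ap p) q) := by
  rw [lall_iff] at e
  induction h2 with
  | nil => exact .nil
  | cons k _ ih =>
    exact .cons ⟨k.1, ap_lt h1.ok.2.1 _, k.2.2.1, by rw [fn_mul, k.2.2.2, (h.rq_ap h1 (e _ List.mem_cons_self)).2]⟩
      (ih fun c hc => e c (List.mem_cons_of_mem _ hc))

theorem rq_sub (B : List ℕ) (k : Rq α v A q) (e : lall (IN A) B = true := by decide +kernel) : Rq α v B (lmap (ap q) B) :=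
  .of_map fun a ha => have m := h.rq_ap k (lall_iff.1 e a ha)
    ⟨lt_iff.1 (band_iff.1 (lall_iff.1 e a ha)).1, ap_lt k.ok.2.1 a, k.ok.2.2 m.1, m.2⟩

theorem rq_words (W : List (List ℕ)) (k : Rq α v A q) : Rq α v (lmap (pc A) W) (lmap (pc q) W) := by
  induction W with
  | nil => exact .nil
  | cons w W ih => exact .cons ⟨pc_lt k.ok.1 w, pc_lt k.ok.2.1 w, k.ok.2.2 (h.rq_pc k w).1, (h.rq_pc k w).2⟩ ih

theorem rq_cA (hA : okl A = true) (l : cl v A ≤ E) (hc : c < 19683) (n : v c ∈ normalizer (E : Set Ω)) :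
    Rq (cA E (v c)) v A (lmap (fun a => Cw3.cjc a c) A) := .of_map fun a ha =>
  have o := okl_iff.1 hA a ha
  ⟨o, cjc_lt o hc, l (mem_cl ha), by rw [fn_cA n (l (mem_cl ha)), h.cjc o hc]⟩

omit h in
theorem rq_one (hA : okl A = true) (l : cl v A ≤ E) : Rq (1 : MulAut E) v A A :=
  List.forall₂_same.2 fun a ha => ⟨okl_iff.1 hA a ha, okl_iff.1 hA a ha, l (mem_cl ha), fn_one _⟩

theorem rq_stab (k : Rq α v A q) (e : LE q A = true := by decide +kernel) : α ∈ stab E (cl v A) := by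
  haveI := h.fin
  haveI := fin_of_le (h.cl_le_S k.ok.1)
  refine mem_stab_of_maps k.ok.2.2 fun x hx => ?_
  refine ((mulOn_fn α).mem_pre.1 ((cl_le (H := pre (fn α) E (cl v A))).2 (fun c hc => ?_) hx)).2
  obtain ⟨i, hi, rfl⟩ := List.getElem_of_mem hc
  have := List.Forall₂.get k hi (k.length_eq ▸ hi)
  exact mem_pre_of this.2.2.1 (this.2.2.2 ▸ h.LE_spec e (mem_cl (List.getElem_mem _)))

theorem has_res (l : E ≤ S) (B : List ℕ) (k : Has F E v A q)
    (e : band (lall (IN A) B) (LE (lmap (ap q) B) B) = true := by decide +kernel) :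
    Has F (cl v B) v B (lmap (ap q) B) := by
  haveI := h.fin
  obtain ⟨α, a1, a2⟩ := k
  have r := h.rq_sub B a2 (band_iff.1 e).1
  obtain ⟨β, b1, b2⟩ := res_aut l r.ok.2.2 a1 (h.rq_stab r (band_iff.1 e).2)
  exact ⟨β, b1, r.of_eq le_rfl b2⟩

theorem comp {f : Ω → Ω'} (k : PIso f S S') : Md S' fun c => f (v c) :=
  haveI := h.fin
  ⟨fun ha hb => by rw [h.mul ha hb, k.mul (h.mem ha) (h.mem hb)], fun ha hb e => h.inj ha hb (k.inj (h.mem ha) (h.mem hb) e),
    fun ha => k.maps (h.mem ha), fun hs => by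
      obtain ⟨x, hx, rfl⟩ := k.surj hs
      obtain ⟨a, ha, rfl⟩ := h.sur hx
      exact ⟨a, ha, rfl⟩, Finite.of_equiv _ k.equiv.toEquiv, h.pg.of_equiv k.equiv⟩

theorem hom (w : ℕ → Ω') : ∃ f : Ω → Ω', ∀ c < 19683, f (v c) = w c := by
  classical
  refine ⟨fun x => if e : ∃ c < 19683, v c = x then w e.choose else 1, fun c hc => ?_⟩
  have e : ∃ d < 19683, v d = v c := ⟨c, hc, rfl⟩
  simp only [dif_pos e, h.inj e.choose_spec.1 hc e.choose_spec.2]

theorem piso {w : ℕ → Ω'} (h' : Md S' w) : ∃ f : Ω → Ω', PIso f S S' ∧ ∀ c < 19683, f (v c) = w c := by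
  obtain ⟨f, hf⟩ := h.hom w
  obtain ⟨g, hg⟩ := h'.hom v
  refine ⟨f, .of_inverse (g := g) (fun x hx y hy => ?_) (fun x hx => ?_) (fun x hx => ?_) (fun x hx => ?_)
    (fun x hx => ?_), hf⟩
  · obtain ⟨a, ha, rfl⟩ := h.sur hx
    obtain ⟨b, hb, rfl⟩ := h.sur hy
    rw [← h.mul ha hb, hf _ (mu_lt ha hb), hf a ha, hf b hb, h'.mul ha hb]
  · obtain ⟨a, ha, rfl⟩ := h.sur hx
    exact hf a ha ▸ h'.mem ha
  · obtain ⟨a, ha, rfl⟩ := h'.sur hx
    exact hg a ha ▸ h.mem ha
  · obtain ⟨a, ha, rfl⟩ := h.sur hx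
    rw [hf a ha, hg a ha]
  · obtain ⟨a, ha, rfl⟩ := h'.sur hx
    rw [hg a ha, hf a ha]

theorem par (e : RL q = true) : Md S fun c => v (ap q c) := by
  haveI := h.fin
  simp only [RL, band_iff, lt_iff] at e
  obtain ⟨⟨o, e1, e2⟩, e3⟩ := e
  let y : ℕ → S := fun i => ⟨v (nth 0 q i), h.mem (nth_lt o i)⟩
  have k : ∀ w, ((pv y w : S) : Ω) = v (pc q w) := fun w => (map_pv S.subtype y w).trans (h.pv_eq o w)
  have k2 : ∀ c, ((vl y c : S) : Ω) = v (ap q c) := fun c => by rw [vl, ← pv_append, k, ap, force_eq, lapp_eq]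
  have n : ∀ c, 0 < ap q c → vl y c ≠ 1 := fun c h1 h2 =>
    h1.ne' ((h.one_iff (ap_lt o c)).1 (by rw [← k2, h2]; rfl))
  obtain ⟨m, -⟩ := md_of_ne (y := y) ⟨fun i j l hj => Subtype.ext (by
    rw [coe_mul, coe_mul, k, ← h.mul (nth_lt o j) (nth_lt o i), ← h.mul (nth_lt o i) (pc_lt o _)]
    exact congrArg v (beq_iff.1 (all0 (band_iff.1 (all0 e3 j hj)).2 i l))), fun i hi => Subtype.ext (by
    rw [coe_pow, k, show Pd.p = 3 from rfl, ← h.cu (nth_lt o i)]
    exact congrArg v (beq_iff.1 (band_iff.1 (all0 e3 i hi)).1))⟩ (n 1 e1) (n 2 e2)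
  have inj : ∀ {a b}, a < 19683 → b < 19683 → v (ap q a) = v (ap q b) → a = b := fun ha hb e =>
    m.inj ha hb (Subtype.ext (by rw [k2, k2, e]))
  refine ⟨fun ha hb => by rw [← k2, ← k2, ← k2, m.mul ha hb, coe_mul], inj, fun _ => h.mem (ap_lt o _), fun hs => ?_,
    h.fin, h.pg⟩
  obtain ⟨a, ha, rfl⟩ := h.sur hs
  obtain ⟨b, hb⟩ := (Finite.injective_iff_surjective (f := fun c : Fin 19683 => (⟨ap q c, ap_lt o c⟩ : Fin 19683))).1
    (fun a b e => Fin.ext (inj a.2 b.2 (congrArg (fun c : Fin 19683 => v c) e))) ⟨a, ha⟩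
  exact ⟨b, b.2, congrArg (fun c : Fin 19683 => v c) hb⟩

theorem aut (e : band (RL q) (leq (lmap (ap q) g9) q) = true := by decide +kernel) : ∃ α : MulAut S, Rq α v g9 q := by
  obtain ⟨f, h1, h2⟩ := h.piso (h.par (band_iff.1 e).1)
  obtain ⟨α, h3⟩ := h1.exists_aut
  refine ⟨α, (Rq.of_map fun a ha => ?_).congr (band_iff.1 e).2⟩
  have := (by decide : ∀ a ∈ g9, a < 19683) a ha
  exact ⟨this, ap_lt (band_iff.1 (band_iff.1 (band_iff.1 e).1).1).1 a, h.mem this, (h3 _ (h.mem this)).trans (h2 a this)⟩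

theorem rq_S {α : MulAut S} (k : Rq α v g9 q) (hc : c < 19683) : fn α (v c) = v (ap q c) :=
  (h.rq_ap k (allN_spec kIN le_rfl c hc)).2

end Md

end CF.Cw3
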