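import Cfsg.Agent.Cw3.P

/-! The torus of `S` and the automorphism group of `S` in a saturated fusion system. -/

set_option autoImplicit false
set_option linter.style.haveILetI false
set_option linter.unusedSimpArgs false

namespace CF.Cw3

open Cfsg Cfsg.FusionSystem Subgroup CF.Fus CF.FusU CF.Comp CF.Th3

variable {Ω Ω' : Type*} [Group Ω] [Group Ω'] {S E U : Subgroup Ω} {S' E' : Subgroup Ω'} {F : FusionSystem S} {v : ℕ → Ω}
  {w : ℕ → Ω'} {α β γ τ : MulAut E} {s t x y : Ω} {a b c i k : ℕ} {A B D R p q : List ℕ} {L : List (List ℕ)}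

/-- torus elements -/
def t121 : List ℕ := [6561, 4374, 1458, 243, 162, 54, 9, 3, 1]
/-- torus elements -/
def t211 : List ℕ := [13122, 2187, 1458, 243, 81, 54, 9, 6, 1]
/-- torus elements -/
def t221 : List ℕ := [13122, 4374, 729, 243, 162, 27, 9, 6, 1]
/-- torus elements -/
def t112 : List ℕ := [6561, 2187, 729, 486, 162, 54, 18, 6, 2]
/-- the part of the torus that fixes the centre -/
def lT4 : List (List ℕ) := [[6561, 2187, 729, 243, 81, 27, 9, 3, 1], t121, t211, t221]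
/-- the torus -/
def lT8 : List (List ℕ) := [[6561, 2187, 729, 243, 81, 27, 9, 3, 1], t121, t211, t221, t112,
  [6561, 4374, 1458, 486, 81, 27, 18, 6, 2], [13122, 2187, 1458, 486, 162, 27, 18, 3, 2],
  [13122, 4374, 729, 486, 81, 54, 18, 3, 2]]

/-- every automorphism of `S` in `F` is inner times one of the list -/
def Bs (F : FusionSystem S) (v : ℕ → Ω) (L : List (List ℕ)) : Prop :=
  ∀ β ∈ F.autGroup S, ∃ q ∈ L, ∃ s ∈ S, Rq (β * cA S s) v g9 q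

theorem Rq.tr {f : Ω → Ω'} {α' : MulAut E'} (h : Rq α v A q) (e : ∀ c < 19683, w c = f (v c)) (m : ∀ x ∈ E, f x ∈ E')
    (k : ∀ x ∈ E, fn α' (f x) = f (fn α x)) : Rq α' w A q :=
  List.Forall₂.imp (fun a b r => ⟨r.1, r.2.1, e a r.1 ▸ m _ r.2.2.1, by rw [e a r.1, e b r.2.1, k _ r.2.2.1, r.2.2.2]⟩) h

theorem mem_of_leq (e : lany (leq q) L = true) : q ∈ L :=
  let ⟨_, h1, h2⟩ := lany_iff.1 e; leq_iff.1 h2 ▸ h1

namespace Md

variable (h : Md S v)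
include h

theorem cv (R : List ℕ) (hx : x ∈ cl v A) (e : CV A D (lm R) = true := by decide +kernel) : ∃ r ∈ R, Cg (cl v D) (v r) x :=
  let ⟨r, _, h1, _, h2⟩ := h.CV_spec e hx; ⟨r, mem_of_lm h1, h2⟩

theorem cgl (e : band (band (lt a 19683) (lt b 19683)) (MM D (mu (iv a) b)) = true := by decide +kernel) :
    Cg (cl v D) (v a) (v b) := by
  rw [band_iff, band_iff, lt_iff, lt_iff] at e
  rw [Cg, ← h.inv e.1.1, ← h.mul (iv_lt e.1.1).1 e.1.2]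
  exact h.mem_of e.2

theorem cg_lt (e : Cg (Z v k) (v a) (v b)) (ha : a < 19683 := by decide) (hb : b < 19683 := by decide)
    (hk : k ≤ 9 := by decide) : mu (iv a) b < 3 ^ k := by
  rwa [Cg, ← h.inv ha, ← h.mul (iv_lt ha).1 hb, h.mem_Z hk (mu_lt (iv_lt ha).1 hb)] at e

theorem sgn {β : MulAut S} (a : ℕ) (hA : St S ⊤ v A) (e : band (band (MM A a) (NN lP a))
    (CV A lP (lm [0, a, 2 * a])) = true := by decide +kernel) : ∃ r ∈ [a, 2 * a], Cg (cl v lP) (v r) (fn β (v a)) := by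
  simp only [band_iff] at e
  obtain ⟨r, r1, r2⟩ := h.cv _ (stab_maps (hA.1 (mem_top β)) (h.mem_of e.1.1)) e.2
  rcases List.mem_cons.1 r1 with rfl | r1
  · exact absurd (r2.mem le_rfl (h.zero ▸ one_mem _)) ((h.chS ⊤).2.2.2.2.1.not_mem (mem_top β) (h.not_mem kKP e.1.2))
  · exact ⟨r, r1, r2⟩

theorem op_of {δ : MulAut S} (k : ∀ c ∈ g3, Cg (cl v lP) (v c) (fn δ (v c))) : δ ∈ OpIn 3 (⊤ : Subgroup (MulAut S)) := by
  haveI := h.fin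
  obtain ⟨z, -, -, -, sP, -⟩ := h.chS ⊤
  have s : St S ⊤ v g9 := .top h.S_eq
  have t9 := h.tr_of s.2 (sP.1 (mem_top δ)) g3 k
  have tP := h.trc lP (zl 4) [(0, 0), (0, 0), (13122, 2187), (0, 0), (4374, 243), (13122, 81), (2187, 81), (13122, 9),
    (6561, 3)] t9 t9 s.2 s.2
  have t4 := h.trc (zl 4) (zl 2) [(0, 0), (0, 0), (0, 0), (0, 0), (0, 0), (1458, 243), (162, 2187), (1458, 81), (729, 27)]
    tP t9 sP.2 s.2
  have t2 := h.trc (zl 2) (zl 1) [(0, 0), (0, 0), (0, 0), (0, 0), (0, 0), (0, 0), (0, 0), (27, 2187), (54, 729)]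
    t4 t9 (z 4 (by decide)).2 s.2
  have t1 := h.trc (zl 1) (zl 0) [(0, 0), (0, 0), (0, 0), (0, 0), (0, 0), (0, 0), (0, 0), (0, 0), (6, 6561)]
    t2 t9 (z 2 (by decide)).2 s.2
  exact (Lv.fin (Lv.tr (Lv.tr (Lv.tr (Lv.tr (Lv.tr h.lv0 (z 1 (by decide)) t1) (z 2 (by decide)) t2) (z 4 (by decide)) t4)
    sP tP) s t9) h.S_eq).op h.pg (mem_top δ)

theorem tor (β : MulAut S) : ∃ q ∈ lT8, ∃ τ : MulAut S, Rq τ v g9 q ∧ τ⁻¹ * β ∈ OpIn 3 (⊤ : Subgroup (MulAut S)) := by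
  obtain ⟨z, -, -, -, sP, sR, sF⟩ := h.chS ⊤
  obtain ⟨a, a1, a2⟩ := h.sgn (β := β) 6561 sF
  obtain ⟨b, b1, b2⟩ := h.sgn (β := β) 2187 sR
  obtain ⟨c, c1, c2⟩ := h.sgn (β := β) 243 (z 7 (by decide))
  obtain ⟨q, q1, q2, q3⟩ := (by decide +kernel : ∀ a ∈ [6561, 2 * 6561], ∀ b ∈ [2187, 2 * 2187], ∀ c ∈ [243, 2 * 243],
    ∃ q ∈ lT8, band (RL q) (leq (lmap (ap q) g9) q) = true ∧ ap q 6561 = a ∧ ap q 2187 = b ∧ ap q 243 = c) a a1 b b1 c c1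
  obtain ⟨τ, t1⟩ := h.aut q2
  have k : ∀ c < 19683, Cg (cl v lP) (v (ap q c)) (fn β (v c)) → Cg (cl v lP) (v c) (fn (τ⁻¹ * β) (v c)) := fun c hc e => by
    have := e.fn (sP.1 (mem_top τ⁻¹)) (h.mem (ap_lt t1.ok.2.1 c)) (fn_mem β (h.mem hc))
    rwa [← h.rq_S t1 hc, fn_inv_fn, ← fn_mul] at this
  refine ⟨q, q1, τ, t1, h.op_of ?_⟩
  simp only [g3, List.forall_mem_cons]
  exact ⟨k _ (by decide) (q3.1 ▸ a2), k _ (by decide) (q3.2.1 ▸ b2), k _ (by decide) (q3.2.2 ▸ c2), by simp⟩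

theorem t_mul {α β : MulAut S} (h1 : Rq α v g9 p) (h2 : Rq β v g9 q) : Rq (α * β) v g9 (lmap (ap p) q) :=
  h.rq_mul h1 h2 (lall_iff.2 fun c hc => allN_spec kIN le_rfl c (okl_iff.1 h2.ok.2.1 c hc))

theorem t_sq {α : MulAut S} (h1 : Rq α v g9 q) (hq : q ∈ lT8) : α * α = 1 :=
  ((h.t_mul h1 h1).congr ((by decide +kernel : ∀ q ∈ lT8, leq (lmap (ap q) q) g9 = true) q hq)).ext
    (Md.rq_one h1.ok.1 h1.ok.2.2) h.S_eq

theorem exists_bs (hF : Sat F 3) : ∃ w, Md S w ∧ Bs F w lT8 := by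
  haveI := h.fin
  haveI : Fact (Nat.Prime 2) := ⟨Nat.prime_two⟩
  let T : Subgroup (MulAut S) :=
    { carrier := {α | ∃ q ∈ lT8, Rq α v g9 q}
      one_mem' := ⟨_, List.mem_cons_self, (Md.rq_one (by decide +kernel) h.S_eq.ge).congr⟩
      mul_mem' := fun ⟨p, p1, p2⟩ ⟨q, q1, q2⟩ => ⟨_, mem_of_leq ((by decide +kernel : ∀ p ∈ lT8, ∀ q ∈ lT8,
        lany (leq (lmap (ap p) q)) lT8 = true) p p1 q q1), h.t_mul p2 q2⟩
      inv_mem' := fun ⟨p, p1, p2⟩ => ⟨p, p1, by rwa [inv_eq_of_mul_eq_one_right (h.t_sq p2 p1)]⟩ }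
  obtain ⟨P, P1, P2⟩ := exists_sylIn_ge (le_top (a := T))
    (isPGroup_iff_mem.2 fun α ⟨p, p1, p2⟩ => ⟨1, by rw [pow_one, sq, h.t_sq p2 p1]⟩ : IsPGroup 2 T)
  obtain ⟨H, H1⟩ := exists_sylIn 2 (F.autGroup S)
  obtain ⟨b, -, hb⟩ := P2.exists_conj le_top H1.pg
  refine ⟨_, h.comp (piso_fn b⁻¹), fun β hβ => ?_⟩
  obtain ⟨a, a1, a2⟩ := H1.exists_mul_of_pow_mem (Inn_norm _) (fun γ hγ => ⟨1, by
    obtain ⟨q, q1, τ, t1, t2⟩ := h.tor γ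
    have : γ ^ 2 ^ 1 ∈ OpIn 3 (⊤ : Subgroup (MulAut S)) := by
      have e : γ ^ 2 ^ 1 = τ * (τ⁻¹ * γ) * τ⁻¹ * (τ * τ) * (τ⁻¹ * γ) := by rw [pow_one, sq]; group
      rw [e, h.t_sq t1 q1, mul_one]
      exact mul_mem (conj_mem_of_norm (le_norm_OpIn (mem_top τ)) t2) t2
    obtain ⟨k, hk⟩ := isPGroup_iff_mem.1 OpIn_isPGroup _ this
    exact hF.mem_Inn_top (pow_mem hγ _) hk⟩) hβ
  obtain ⟨s, s1, s2⟩ := mem_Inn.1 a2
  obtain ⟨q, q1, τ, t1, t2⟩ := h.tor (b * a * b⁻¹)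
  obtain ⟨k, hk⟩ := isPGroup_iff_mem.1 OpIn_isPGroup _ t2
  obtain ⟨l, hl⟩ := isPGroup_iff_mem.1 P2.pg _ (mul_mem (inv_mem (P1 ⟨q, q1, t1⟩)) (hb a a1))
  have e := inv_mul_eq_one.1 (pow_eq_one_iff_of_coprime (Nat.Coprime.pow k l (by decide)) |>.1 ⟨hk, hl⟩)
  refine ⟨q, q1, s⁻¹, inv_mem s1, t1.tr (fun _ _ => rfl) (fun _ => fn_mem _) fun x _ => ?_⟩
  rw [cA_inv (le_normalizer s1), s2, ← fn_mul, ← fn_mul, e]
  congr 1; group

theorem pick (k : Bs F v L) {g : Ω → Ω} (hg : Mor F S g) : ∃ q ∈ L, Has F S v g9 q ∧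
    ∀ k < 9, ∀ c < 3 ^ (k + 1), ∀ d < 19683, Cg (Z v k) (v d) (g (v c)) → mu (iv d) (ap q c) < 3 ^ k := by
  haveI := h.fin
  obtain ⟨β, hβ, e⟩ := hg.iso_top.exists_aut
  obtain ⟨q, q1, s, s1, q2⟩ := k β hβ
  refine ⟨q, q1, ⟨_, mul_mem hβ (cA_mem_autGroup F le_rfl s1), q2⟩, fun k hk c hc d hd r => ?_⟩
  have hc' := hc.trans_le (pow_le hk)
  have m := h.mem hc'
  refine h.cg_lt (r.trans ?_) hd (ap_lt q2.ok.2.1 c) hk.le
  rw [← h.rq_S q2 hc', fn_mul, fn_cA (le_normalizer s1) m, ← e _ m]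
  exact (Cg.conj (h.cm_Z hk (h.Z_of_lt hk hc) s1)).fn (((h.chS ⊤).1 k (Nat.le_of_lt_succ hk)).1 (mem_top β)) m
    (conj_mem_of_norm (le_normalizer s1) m)

/-- two models of `S` differ by an automorphism -/
theorem same {w : ℕ → Ω} (h' : Md S w) (k : St S ⊤ v A) (e : okl A = true := by decide +kernel) : cl w A = cl v A := by
  obtain ⟨f, h1, h2⟩ := h.piso h'
  obtain ⟨β, h3⟩ := h1.exists_aut
  have o := okl_iff.1 e
  refine le_antisymm (cl_le.2 fun c hc => ?_) (cl_le.2 fun c hc => ?_)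
  · rw [← h2 c (o c hc), ← h3 _ (h.mem (o c hc))]; exact stab_maps (k.1 (mem_top β)) (mem_cl hc)
  · have : cl v A ≤ pre (fn β) S (cl w A) := cl_le.2 fun d hd => mem_pre_of (h.mem (o d hd))
      (by rw [h3 _ (h.mem (o d hd)), h2 d (o d hd)]; exact mem_cl hd)
    simpa using ((mulOn_fn β).mem_pre.1 (this (stab_maps (k.1 (mem_top β⁻¹)) (mem_cl hc)))).2

end Md

end CF.Cw3
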