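import Cfsg.Agent.Cw3.Q

/-! The four sections. -/

set_option autoImplicit false
set_option linter.style.haveILetI false
set_option linter.unusedSimpArgs false

namespace CF.Cw3

open Cfsg Cfsg.FusionSystem Subgroup CF.Fus CF.FusU CF.Comp CF.Th3

variable {Ω : Type*} [Group Ω] {S E U : Subgroup Ω} {F : FusionSystem S} {v : ℕ → Ω}
  {α β γ τ n : MulAut E} {s x y : Ω} {a b c i k t : ℕ} {A A0 B C C' D L R l p q : List ℕ}

/-- the code of a point of the plane -/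
noncomputable def ec (l : List ℕ) (p : P2) : ℕ := nth 0 l (3 * p.1.val + p.2.val)

/-- congruence of codes -/
noncomputable def CG (D : List ℕ) (a b : ℕ) : Bool := band (band (lt a 19683) (lt b 19683)) (MM D (mu (iv a) b))

/-- planes -/
def eA : List ℕ := [0, 729, 1458, 2187, 2916, 3645, 4374, 5103, 5832]
/-- planes -/
def eB : List ℕ := [0, 1458, 729, 6561, 8019, 7290, 13122, 14580, 13851]
/-- planes -/
def eC : List ℕ := [0, 162, 81, 2187, 2349, 2268, 4374, 4536, 4455]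
/-- planes -/
def eD : List ℕ := [0, 9, 18, 243, 252, 261, 486, 495, 504]

/-- the section in terms of codes -/
abbrev Sc (F : FusionSystem S) (v : ℕ → Ω) (A0 A D L C C' : List ℕ) (t : ℕ) (l : List ℕ) : Prop :=
  Sec F (cl v A0) (cl v A) (cl v D) (cl v L) (trivOn (cl v A0) (cl v C) (cl v C')) (v t) fun p => v (ec l p)

namespace Md

variable (h : Md S v)
include h

theorem sec (hF : Sat F 3) (fn : F.IsFullyNormalized (cl v A0)) (gen : NS S (cl v A0) ≤ cl v A0 ⊔ zpowers (v t))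
    (sA : St (cl v A0) (F.autGroup _) v A) (sD : St (cl v A0) (F.autGroup _) v D) (sC : St (cl v A0) (F.autGroup _) v C)
    (sC' : St (cl v A0) (F.autGroup _) v C') (kD : KL D = true) (kL : KL L = true)
    (lv : ∀ Y : Subgroup (MulAut (cl v A0)), St _ Y v L → Lv Y (cA _ (v t)) ⊤)
    (inn : ∀ α ∈ F.autGroup (cl v A0), Tr α v C C' → Tr α v A D → Lv (F.autGroup _) α ⊤)
    (e : (NM A0 t = true ∧ MM A0 (Cw3.cu t) = true ∧ LE D L = true ∧ LE L A = true ∧ lall (NM D) A = true ∧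
      CD A A0 D = true ∧ CD C [t] C' = true ∧ CD C A0 C' = true ∧ CV A D (lm l) = true) ∧ (∀ r ∈ l, ∃ p, ec l p = r) ∧
      ∀ p, (MM A (ec l p) = true ∧ CG D (ec l (act (tau 1) p)) (Cw3.cjc (ec l p) t) = true ∧
        (if p.1 = 0 then MM L (ec l p) else NN L (ec l p)) = true) ∧
        ∀ q, CG D (ec l (p + q)) (mu (ec l p) (ec l q)) = true ∧ (p = q ∨ NN D (mu (iv (ec l p)) (ec l q)) = true) := by
      decide +kernel) : Sc F v A0 A D L C C' t l := by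
  obtain ⟨⟨e1, e2, e3, e4, e5, e6, e7, e8, e9⟩, e10, e11⟩ := e
  have n := h.NM_spec e1
  have ht : t < 19683 := lt_iff.1 (band_iff.1 (band_iff.1 e1).1).2
  have o : ∀ p, ec l p < 19683 := fun p => lt_iff.1 (band_iff.1 (band_iff.1 (e11 p).1.1).1).2
  have l0 := fn.1
  refine ⟨hF, l0, fn, n, h.cu ht ▸ h.mem_of e2, gen, sA.1, sD.1, sA.2, h.LE_spec e3, h.LE_spec e4, h.NM_all e5,
    fun _ hx _ hy => h.CD_spec e6 hx hy, fun p => h.mem_of (e11 p).1.1, fun p q => h.mul (o p) (o q) ▸ h.cgl ((e11 p).2 q).1,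
    fun x hx => ?_, fun p q k => ((e11 p).2 q).2.resolve_right fun e => h.not_mem kD e ?_, fun p => ?_,
    fun p => h.cjc (o p) ht ▸ h.cgl (e11 p).1.2.1, fun Y hY => lv Y ⟨hY, (h.LE_spec e4).trans sA.2⟩,
    (le_inf sC.1 sC'.1).trans le_norm_trivOn, ⟨sC'.1 (cA_mem_autGroup F l0 n.1), fun x hx hx' => ?_⟩, fun α hα => ?_,
    fun α hα hK k => inn α hα (fun x hx => hK.2 x (sC.2 hx) hx) k⟩
  · obtain ⟨r, r1, r2⟩ := h.cv l hx e9
    obtain ⟨p, rfl⟩ := e10 r r1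
    exact ⟨p, r2⟩
  · rwa [h.mul (iv_lt (o p)).1 (o q), h.inv (o p)]
  · have := (e11 p).1.2.2
    split_ifs at this with c
    exacts [iff_of_true (h.mem_of this) c, iff_of_false (h.not_mem kL this) c]
  · rw [fn_cA n.2 hx]; exact h.CD_spec e7 hx' (mem_cl List.mem_cons_self)
  · obtain ⟨s, hs, rfl⟩ := mem_Inn.1 hα
    exact ⟨sC'.1 (cA_mem_autGroup F l0 (l0 hs)), fun x hx hx' => by
      rw [fn_cA (le_normalizer hs) hx]; exact h.CD_spec e8 hx' hs⟩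

theorem mt (k : Rq α v A q) (φ : P2 → P2) (e : ∀ p, IN A (ec l p) = true ∧ CG D (ec l (φ p)) (ap q (ec l p)) = true := by
    decide +kernel) : Mt (cl v D) (fun p => v (ec l p)) α φ := fun p => (h.rq_ap k (e p).1).2 ▸ h.cgl (e p).2

theorem secA (hF : Sat F 3) : Sc F v (zl 8) (zl 8) (zl 6) (zl 7) (zl 6) (zl 5) 6561 eA := by
  haveI := h.fin
  obtain ⟨s3, s5, s6⟩ := h.chA rfl (F.autGroup (cl v (zl 8)))
  have s := St.top (Y := F.autGroup (cl v (zl 8))) rfl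
  refine h.sec hF (fn_of_norm F (h.Z_le (by decide)) h.nrm) (NS_le.trans (h.S_eq.le.trans (h.sup_of _))) s s6 s6 s5 kK6 kK7
    (fun _ e => h.lvA rfl e (h.mem (by decide))) fun α _ t6 t8 => ?_
  have t5 := h.trc (zl 5) (zl 3) [(0, 0), (0, 0), (0, 0), (0, 0), (243, 2187), (243, 729), (162, 2187), (81, 729), (54, 729)]
    t6 t8 s6.2 s.2
  have t3 := h.trc (zl 3) (zl 0) [(0, 0), (0, 0), (0, 0), (0, 0), (0, 0), (0, 0), (162, 2187), (81, 729), (54, 729)]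
    t5 t8 s5.2 s.2
  exact Lv.fin (Lv.tr (Lv.tr (Lv.tr (Lv.tr h.lv0 s3 t3) s5 t5) s6 t6) s t8) rfl

theorem secB (hF : Sat F 3) : Sc F v lB lB (zl 6) (zl 7) (zl 1) (zl 0) 2187 eB := by
  haveI := h.fin
  obtain ⟨s1, sU, s6⟩ := h.chB rfl (F.autGroup (cl v lB))
  have s := St.top (Y := F.autGroup (cl v lB)) rfl
  refine h.sec hF (fn_of_norm F (h.cl_le_S (by decide +kernel)) h.nrm) (NS_le.trans (h.S_eq.le.trans (h.sup_of _))) s s6 s1
    h.st0 kK6 kK7 (fun _ e => h.lvB rfl e (h.mem (by decide))) fun α hα t1 t8 => ?_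
  have tU := h.trz (zl 1) hα sU t8 t1 s.2 kK0
  have t6 := h.trz lU hα s6 t8 tU s.2 kK1
  exact Lv.fin (Lv.tr (Lv.tr (Lv.tr (Lv.tr h.lv0 s1 t1) sU tU) s6 t6) s t8) rfl

theorem secC (hF : Sat F 3) : Sc F v lC lR lE lP lC lR 243 eC := by
  haveI := h.fin
  obtain ⟨s1, s2, s3, sE, sR⟩ := h.chC rfl (F.autGroup (cl v lC))
  have s := St.top (Y := F.autGroup (cl v lC)) rfl
  refine h.sec hF (fn_of_norm F (h.cl_le_S (by decide +kernel)) h.nrm) (NS_le.trans (h.S_eq.le.trans (h.sup_of _))) sR sE s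
    sR kKE kKP (fun _ e => h.lvC rfl e) fun α _ t8 tR => ?_
  have tE := h.trc lE (zl 3) [(0, 0), (0, 0), (2187, 6561), (0, 0), (0, 0), (81, 6561), (2187, 81), (4374, 27), (729, 27)]
    tR t8 sR.2 s.2
  have t3 := h.trc (zl 3) (zl 2) [(0, 0), (0, 0), (0, 0), (0, 0), (0, 0), (0, 0), (2187, 81), (4374, 27), (729, 27)]
    tR tR sR.2 sR.2
  have t2 := h.trc (zl 2) (zl 1) [(0, 0), (0, 0), (0, 0), (0, 0), (0, 0), (0, 0), (0, 0), (4374, 27), (729, 27)]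
    tR tE sR.2 sE.2
  have t1 := h.trc (zl 1) (zl 0) [(0, 0), (0, 0), (0, 0), (0, 0), (0, 0), (0, 0), (0, 0), (0, 0), (6, 6561)]
    t2 t8 s2.2 s.2
  exact Lv.fin (Lv.tr (Lv.tr (Lv.tr (Lv.tr (Lv.tr (Lv.tr h.lv0 s1 t1) s2 t2) s3 t3) sE tE) sR tR) s t8) rfl

theorem nsD : NS S (cl v (lD 8748)) = cl v [8748, 0, 729, 243, 81, 27, 9, 3, 1] :=
  h.NE_spec (r := 48) (k := 0) (by decide +kernel)

theorem secD (hF : Sat F 3) (fn : F.IsFullyNormalized (cl v (lD 8748))) :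
    Sc F v (lD 8748) (zl 6) lG (zl 5) (lD 8748) (zl 6) 729 eD := by
  obtain ⟨sZ, sG, s6⟩ := h.chD rfl (F.autGroup (cl v (lD 8748)))
  have s := St.top (Y := F.autGroup (cl v (lD 8748))) rfl
  refine h.sec hF fn (h.nsD.le.trans (h.sup_of _)) s6 sG s s6 kKG kK5 (fun _ e => h.lvD rfl e) fun α _ t8 t6 => ?_
  have tG := h.trc lG [0, 0, 0, 0, 0, 48, 0, 0, 1] [(0, 0), (0, 0), (0, 0), (0, 0), (243, 8748), (81, 8748), (0, 0),
    (27, 8748), (6, 8748)] t6 t8 s6.2 s.2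
  have tZ := h.trc [0, 0, 0, 0, 0, 48, 0, 0, 1] (zl 0) [(0, 0), (0, 0), (0, 0), (0, 0), (0, 0), (99, 8748), (0, 0), (0, 0),
    (45, 8748)] tG t8 sG.2 s.2
  exact Lv.fin (Lv.tr (Lv.tr (Lv.tr (Lv.tr h.lv0 sZ tZ) sG tG) s6 t6) s t8) rfl

end Md

end CF.Cw3
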