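import Cfsg.Agent.Cw3.R

/-! Words in automorphisms of `J`, extensions from `J`, weight spaces. -/

set_option autoImplicit false
set_option linter.style.haveILetI false
set_option linter.unusedSimpArgs false

namespace CF.Cw3

open Cfsg Cfsg.FusionSystem Subgroup CF.Fus CF.FusU CF.Comp CF.Th3

variable {Ω : Type*} [Group Ω] {S E U : Subgroup Ω} {F : FusionSystem S} {v : ℕ → Ω}
  {α β γ δ τ n : MulAut E} {s x y : Ω} {a b c g i j k t : ℕ} {A A0 B C C' D L R l p p' q : List ℕ} {f f' : ℕ → ℕ}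
  {G : List (List ℕ)}

/-- strict map -/
noncomputable def mapF {X : Type} (f : ℕ → ℕ) (l : List ℕ) : (List ℕ → X) → X :=
  List.rec (motive := fun _ => (List ℕ → X) → X) (fun k => k [])
    (fun a _ ih k => force (f a) fun b => ih fun r => k (b :: r)) l

theorem mapF_eq {X : Type} (f : ℕ → ℕ) (l : List ℕ) (k : List ℕ → X) : mapF f l k = k (lmap f l) := by
  induction l generalizing k with
  | nil => rfl
  | cons a l ih => exact (force_eq (f a) fun b => mapF f l fun r => k (b :: r)).trans (ih _)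

/-- value of a word -/
noncomputable def ev (G : List (List ℕ)) (w : List ℕ) : List ℕ :=
  List.rec (motive := fun _ => List ℕ) (zl 6) (fun i _ r => mapF (ap (nth (zl 6) G i)) r id) w

/-- the fourth power has order nine -/
noncomputable def bad (q : List ℕ) : Bool := mapF id q fun q => mapF (ap q) q fun q => mapF (ap q) q fun r =>
  mapF (fun c => ap r (ap r c)) r fun r => band (Bool.rec true false (leq r (zl 6))) (leq (lmap (fun c => ap r (ap r c)) r) (zl 6))

/-- products of generators are respected -/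
noncomputable def RA (A q : List ℕ) : Bool := allFrom (fun i => allFrom (fun j =>
  Nat.beq (ap q (mu (nth 0 A i) (nth 0 A j))) (mu (nth 0 q i) (nth 0 q j))) 0 9) 0 9

/-- `α` acts on `J` by `f` -/
def JF (α : MulAut E) (v : ℕ → Ω) (f : ℕ → ℕ) : Prop := ∀ c < 729, f c < 729 ∧ fn α (v c) = v (f c)

theorem JF.mul (h : JF α v f) (k : JF β v f') : JF (α * β) v fun c => f (f' c) := fun c hc =>
  ⟨(h _ (k c hc).1).1, by rw [fn_mul, (k c hc).2, (h _ (k c hc).1).2]⟩

/-- weight spaces -/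
noncomputable def Wl (s s' : Bool) : List ℕ := Bool.rec
  (Bool.rec [0, 27, 54, 729, 758, 784, 1458, 1486, 1514] [0, 81, 162, 2187, 2286, 2358, 4374, 4464, 4554] s')
  (Bool.rec [0, 3, 6, 6561, 6566, 6568, 13122, 13126, 13130] [0, 1, 2, 9, 10, 11, 18, 19, 20, 243, 244, 245, 252, 253, 254,
    261, 262, 263, 486, 487, 488, 495, 496, 497, 504, 505, 506] s') s

/-- `d` or its inverse -/
noncomputable def pm (s : Bool) (d : ℕ) : ℕ := Bool.rec (iv d) d s

theorem kWl : allN 19683 (fun d => force (ap t121 d) fun a => lall (fun s => Bool.rec true (force (ap t211 d) fun b =>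
    lall (fun s' => Bool.rec true (lm (Wl s s') d) (Nat.beq b (pm s' d))) [true, false]) (Nat.beq a (pm s d)))
    [true, false]) = true := by decide +kernel

/-- `n` intertwines two torus elements with the standard ones -/
def Cm (n : MulAut E) (v : ℕ → Ω) (p p' : List ℕ) : Prop := ∀ c < 19683, v c ∈ E → ∀ d < 19683, fn n (v c) = v d →
  fn n (v (ap p c)) = v (ap t121 d) ∧ fn n (v (ap p' c)) = v (ap t211 d)

namespace Md

variable (h : Md S v)
include h

theorem uniq (h1 : Rq α v A p) (h2 : Rq α v A q) : p = q := by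
  induction h1 generalizing q with
  | nil => cases h2; rfl
  | cons k _ ih =>
    obtain - | ⟨k', h2⟩ := h2
    rw [h.inj k.2.1 k'.2.1 (k.2.2.2.symm.trans k'.2.2.2), ih h2]

theorem jf (k : Rq α v (zl 6) q) (s : α ∈ stab E (Z v 6)) : JF α v (ap q) := fun c hc =>
  have e := (h.rq_ap k (allN_spec kIJ (by decide) c hc)).2
  ⟨(h.mem_Z (k := 6) (by decide) (ap_lt k.ok.2.1 c)).1 (e ▸ stab_maps s (h.Z_of_lt (by decide) hc)), e⟩

theorem jf_cA (ht : t < 19683) (n : v t ∈ normalizer (E : Set Ω)) (l : Z v 6 ≤ E) :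
    JF (cA E (v t)) v fun c => Cw3.cjc c t := fun c hc => by
  have m := h.Z_of_lt (k := 6) (by decide) hc
  have o : c < 19683 := by omega
  exact ⟨(h.mem_Z (k := 6) (by decide) (cjc_lt o ht)).1 (h.cjc o ht ▸ conj_mem_of_norm (h.Z_norm (by decide) (h.mem ht)) m),
    (fn_cA n (l m)).trans (h.cjc o ht).symm⟩

theorem jf_rq (k : JF α v f) (h2 : Rq β v (zl 6) q) (s : β ∈ stab E (Z v 6)) : Rq (α * β) v (zl 6) (lmap f q) := by
  have : ∀ {A q}, Rq β v A q → cl v A ≤ Z v 6 → Rq (α * β) v A (lmap f q) := fun h2 l => by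
    induction h2 with
    | nil => exact .nil
    | cons r _ ih =>
      have o := k _ ((h.mem_Z (k := 6) (by decide) r.2.1).1 (r.2.2.2 ▸ stab_maps s (l (mem_cl List.mem_cons_self))))
      exact .cons ⟨r.1, by omega, r.2.2.1, by rw [fn_mul, r.2.2.2, o.2]⟩
        (ih (cl_le.2 fun c hc => l (mem_cl (List.mem_cons_of_mem _ hc))))
  exact this h2 le_rfl

theorem jf_inn (l : List ℕ) (hE : E = cl v A) (lJ : Z v 6 ≤ E) (k : JF δ v f) (i : δ ∈ Inn E)
    (e : CV A (zl 6) (lm l) = true := by decide +kernel) : ∃ r ∈ l, ∀ c < 729, f c = Cw3.cjc c r := by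
  obtain ⟨s, hs, rfl⟩ := mem_Inn.1 i
  obtain ⟨r, r0, r1, -, r2⟩ := h.CV_spec e (hE ▸ hs)
  refine ⟨r, mem_of_lm r1, fun c hc => ?_⟩
  have m := h.Z_of_lt (k := 6) (by decide) hc
  have o : c < 19683 := by omega
  refine h.inj ((k c hc).1.trans (by decide)) (cjc_lt o r0) ?_
  rw [← (k c hc).2, fn_cA (le_normalizer hs) (lJ m), h.cjc o r0, ← mul_inv_cancel_left (v r) s, mul_assoc (v r),
    h.comm (A := zl 6) (B := zl 6) r2 m]
  group

theorem has_ev (k : ∀ q ∈ G, Has F (Z v 6) v (zl 6) q) (w : List ℕ) : Has F (Z v 6) v (zl 6) (ev G w) := by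
  have o : Has F (Z v 6) v (zl 6) (zl 6) := ⟨1, one_mem _, Md.rq_one (by decide +kernel) le_rfl⟩
  have n : ∀ i, Has F (Z v 6) v (zl 6) (nth (zl 6) G i) := by
    induction G with
    | nil => exact fun _ => o
    | cons q G ih =>
      rintro (_ | i)
      exacts [k q List.mem_cons_self, ih (fun q hq => k q (List.mem_cons_of_mem _ hq)) i]
  induction w with
  | nil => exact o
  | cons i w ih =>
    obtain ⟨α, a1, a2⟩ := n i
    obtain ⟨β, b1, b2⟩ := ih
    exact ⟨_, mul_mem a1 b1, (h.jf_rq (h.jf a2 (stab_self.ge (mem_top _))) b2 (stab_self.ge (mem_top _))).congr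
      (leq_iff.2 (mapF_eq _ (ev G w) id).symm)⟩

theorem has_cJ (t : ℕ) (ht : t < 19683 := by decide) : Has F (Z v 6) v (zl 6) (lmap (fun a => Cw3.cjc a t) (zl 6)) :=
  ⟨_, cA_mem_autGroup F (h.Z_le (by decide)) (h.mem ht),
    h.rq_cA (by decide +kernel) le_rfl ht (h.Z_norm (by decide) (h.mem ht))⟩

theorem cube (hF : Sat F 3) {α : MulAut (Z v 6)} (hα : α ∈ F.autGroup _) (e : α ^ 3 ^ k = 1) : α ^ 3 = 1 := by
  haveI := h.fin
  haveI := fin_of_le (h.Z_le (k := 6) (by decide))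
  have n := h.Z_norm (k := 6) (by decide)
  obtain ⟨b, -, hb⟩ := (hF.syl_of_fn (fn_of_norm F (h.Z_le (by decide)) n)).exists_conj_elt hα e
  obtain ⟨s, hs, -, e1⟩ := mem_autInducedBy.1 hb
  obtain ⟨r, r0, r1, r2⟩ := h.CVS_spec (D := zl 6) (P := fun r => lt (Cw3.cu r) 729) (by decide +kernel) hs
  have m : s ^ 3 ∈ Z v 6 := (Cg.pow r2 (n (h.mem r0)) 3).mem le_rfl (h.cu r0 ▸ h.Z_of_lt (by decide) (lt_iff.1 r1))
  have : (b * α * b⁻¹) ^ 3 = 1 := by
    rw [← e1, ← cA_pow (n hs)]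
    exact aut_ext fun x hx => by
      rw [fn_cA (le_normalizer m) hx, h.comm (A := zl 6) (B := zl 6) m hx, mul_inv_cancel_right, fn_one]
  simpa only [conj_pow, conj_eq_one_iff] using this

theorem not_bad (hF : Sat F 3) (k : Has F (Z v 6) v (zl 6) q) (e : bad q = true) : False := by
  obtain ⟨α, a1, a2⟩ := k
  have s : ∀ β : MulAut (Z v 6), β ∈ stab _ (Z v 6) := fun β => stab_self.ge (mem_top β)
  have sq : ∀ {β : MulAut (Z v 6)} {q}, Rq β v (zl 6) q → Rq (β * β) v (zl 6) (lmap (ap q) q) := fun k =>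
    h.jf_rq (h.jf k (s _)) k (s _)
  have cb : ∀ {β : MulAut (Z v 6)} {q}, Rq β v (zl 6) q → Rq (β ^ 3) v (zl 6) (lmap (fun c => ap q (ap q c)) q) := fun k => by
    rw [pow_three']; exact h.jf_rq ((h.jf k (s _)).mul (h.jf k (s _))) k (s _)
  simp only [bad, mapF_eq, band_iff, leq_iff] at e
  rw [show lmap id q = q by rw [lmap_eq, List.map_id]] at e
  have o := Md.rq_one (v := v) (A := zl 6) (E := Z v 6) (by decide +kernel) le_rfl
  have r := cb (sq (sq a2))
  have := h.cube hF (k := 2) (mul_mem (mul_mem a1 a1) (mul_mem a1 a1)) (by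
    rw [pow_two, pow_mul]; exact (e.2 ▸ cb r).ext o rfl)
  rw [h.uniq r (this ▸ o), leq_iff.2 rfl] at e
  exact absurd e.1 (by decide)

theorem ra (k : Rq α v A q) (e : allFrom (fun i => allFrom (fun j => IN A (mu (nth 0 A i) (nth 0 A j))) 0 9) 0 9 = true := by
    decide +kernel) : RA A q = true := by
  have o := k.ok
  have : ∀ {f : ℕ → Bool} {k}, (∀ i < k, f i = true) → allFrom f 0 k = true := fun {f k} e => by
    induction k with
    | zero => rfl
    | succ k ih => exact brec_and.2 ⟨by rw [force_eq]; exact e _ (by simp), ih fun i hi => e i (by omega)⟩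
  refine this fun i hi => this fun j hj => beq_iff.2 (h.inj (ap_lt o.2.1 _) (mu_lt (nth_lt o.2.1 i) (nth_lt o.2.1 j)) ?_)
  have a := h.rq_nth k i
  have b := h.rq_nth k j
  rw [← (h.rq_ap k (all0 (all0 e i hi) j hj)).2, h.mul (nth_lt o.1 i) (nth_lt o.1 j), mulOn_fn α (o.2.2 a.1) (o.2.2 b.1),
    a.2, b.2, h.mul (nth_lt o.2.1 i) (nth_lt o.2.1 j)]

theorem rq_cc (i j : ℕ) (k : Rq α v A q) (e : Cw3.cc (nth 0 A i) (nth 0 A j) = 0 := by decide +kernel) :
    Cw3.cc (nth 0 q i) (nth 0 q j) = 0 := by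
  have o := k.ok
  have a := h.rq_nth k i
  have b := h.rq_nth k j
  rw [← h.one_iff (cc_lt (nth_lt o.2.1 i) (nth_lt o.2.1 j)), h.cc (nth_lt o.2.1 i) (nth_lt o.2.1 j), ← a.2, ← b.2,
    ← fn_cm α (o.2.2 a.1) (o.2.2 b.1), ← h.cc (nth_lt o.1 i) (nth_lt o.1 j), e, h.zero, (mulOn_fn α).map_one]

theorem wt (l : E ≤ S) (k : Cm n v p p') (g : ℕ) (s s' : Bool) (m : v g ∈ E)
    (e : g < 19683 ∧ ap p g = pm s g ∧ ap p' g = pm s' g := by decide +kernel) :
    ∃ d ∈ Wl s s', d < 19683 ∧ fn n (v g) = v d := by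
  obtain ⟨d, hd, e1⟩ := h.sur (l (fn_mem n m))
  have k := k g e.1 m d hd e1.symm
  have : ∀ {t : List ℕ} {s}, okl t = true → fn n (v (pm s g)) = v (ap t d) → Nat.beq (ap t d) (pm s d) = true := by
    intro t s o k
    refine beq_iff.2 (h.inj (ap_lt o d) (by cases s; exacts [(iv_lt hd).1, hd]) (k.symm.trans ?_))
    cases s
    · rw [show pm false g = iv g from rfl, show pm false d = iv d from rfl, h.inv e.1, h.inv hd, e1, (mulOn_fn n).map_inv m]
    · exact e1.symm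
  have w := allN_spec kWl le_rfl d hd
  simp only [force_eq, lall_iff, brec_imp] at w
  exact ⟨d, mem_of_lm (w s (by cases s <;> simp) (this (by decide +kernel) (e.2.1 ▸ k.1)) s' (by cases s' <;> simp)
    (this (by decide +kernel) (e.2.2 ▸ k.2))), hd, e1.symm⟩

theorem rq_cj (t : ℕ) (k : Rq α v A q) (ht : t < 19683) (n : v t ∈ normalizer (E : Set Ω)) :
    Rq (cA E (v t) * α) v A (lmap (fun a => Cw3.cjc a t) q) := by
  induction k with
  | nil => exact .nil
  | cons k _ ih => exact .cons ⟨k.1, cjc_lt k.2.1 ht, k.2.2.1, by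
      rw [fn_mul, fn_cA n (fn_mem α k.2.2.1), k.2.2.2, h.cjc k.2.1 ht]⟩ ih

theorem ext_J (hF : Sat F 3) (A : List ℕ) (L : List (ℕ × ℕ)) (k : Has F (Z v 6) v (zl 6) q)
    (e : band (band (LE (zl 6) A) (lall (fun c => Bool.rec (lm (lmap Prod.fst L) c) true (lt c 729)) A))
      (lall (fun r => band (band (MM A r.1) (MM A r.2)) (lall (fun g => Nat.beq (ap q (Cw3.cjc g r.1))
        (Cw3.cjc (ap q g) r.2)) (zl 6))) L) = true := by decide +kernel) :
    ∃ γ ∈ F.autGroup (cl v A), Rq γ v (zl 6) q ∧ ∀ r ∈ L, Cg (Z v 6) (v r.2) (fn γ (v r.1)) := by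
  haveI := h.fin
  obtain ⟨α, a1, a2⟩ := k
  simp only [band_iff, lall_iff, beq_iff, brec_or, lt_iff] at e
  obtain ⟨⟨e1, e2⟩, e3⟩ := e
  have lJ : Z v 6 ≤ cl v A := h.LE_spec e1
  have n := h.Z_norm (k := 6) (by decide)
  have lS := h.Z_le (k := 6) (by decide)
  have j := h.jf a2 (stab_self.ge (mem_top _))
  have o : ∀ {c}, MM A c = true → c < 19683 := fun e => lt_iff.1 (band_iff.1 (band_iff.1 e).1).2
  have lA := h.cl_le_S (band_iff.1 (band_iff.1 e1).1).2
  have key : ∀ r ∈ L, ∀ x ∈ Z v 6, fn α (v r.1 * x * (v r.1)⁻¹) = v r.2 * fn α x * (v r.2)⁻¹ := fun r hr x hx => by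
    obtain ⟨⟨r1, r2⟩, r3⟩ := e3 r hr
    refine MulOn.eqOn_closure (f := fun x => fn α (v r.1 * x * (v r.1)⁻¹)) (g := fun x => v r.2 * fn α x * (v r.2)⁻¹)
      (fun x hx y hy => ?_) (fun x hx y hy => ?_) ?_ x hx
    · rw [← mulOn_fn α (conj_mem_of_norm (n (h.mem (o r1))) hx) (conj_mem_of_norm (n (h.mem (o r1))) hy), conj_mul]
    · beta_reduce; rw [conj_mul, mulOn_fn α hx hy]
    · rintro _ ⟨c, hc, rfl⟩
      have hc := (zl_spec (k := 6) (by decide)).1 c hc
      have c1 := h.jf_cA (o r1) (n (h.mem (o r1))) le_rfl c hc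
      rw [← h.cjc (by omega) (o r1), (j _ c1.1).2, r3 c ‹_›, (j c hc).2, h.cjc (ap_lt a2.ok.2.1 c) (o r2)]
  obtain ⟨g, g1, g2⟩ := rec_ext (hF.rec_of_fn (fn_of_norm F lS n)) (iso_fn lS a1)
  have lN : cl v A ≤ Nf S (Z v 6) (fn α) := cl_le.2 fun c hc => (e2 c hc).elim
    (fun k => (mor_fn lS a1).le_Nf (h.Z_of_lt (by decide) k)) fun k => by
      obtain ⟨r, r1, rfl⟩ := List.mem_map.1 (lmap_eq _ _ ▸ mem_of_lm k)
      have := e3 r r1
      exact ⟨h.mem (o this.1.1), n (h.mem (o this.1.1)), _, h.mem (o this.1.2), key r r1⟩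
  replace g1 := g1.mono lN
  have cg : ∀ r ∈ L, Cg (Z v 6) (v r.2) (g (v r.1)) := fun r hr => by
    have m := h.mem_of (e3 r hr).1.1
    refine h.cen' (A := g9) (B := zl 6) (h.S_eq ▸ mul_mem (inv_mem (h.mem (o (e3 r hr).1.2))) (g1.maps m)) fun y hy => ?_
    have hx := fn_mem α⁻¹ hy
    have := key r hr _ hx
    rw [← g2 _ (conj_mem_of_norm (n (lA m)) hx), g1.mul.map_conj m (lJ hx), g2 _ hx, fn_fn_inv] at this
    rw [mul_assoc, inv_mul_eq_iff_eq_mul, mul_inv_eq_iff_eq_mul.1 this]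
    group
  have mp : cl v A ≤ pre g (cl v A) (cl v A) := cl_le.2 fun c hc => mem_pre_of (mem_cl hc) <| by
    rcases e2 c hc with k | k
    · have := h.Z_of_lt (k := 6) (by decide) k
      exact g2 _ this ▸ lJ (fn_mem α this)
    · obtain ⟨r, r1, rfl⟩ := List.mem_map.1 (lmap_eq _ _ ▸ mem_of_lm k)
      exact (cg r r1).mem lJ (h.mem_of (e3 r r1).1.2)
  obtain ⟨γ, c1, c2⟩ := (g1.iso_self fun x hx => (g1.mul.mem_pre.1 (mp hx)).2).exists_aut
  exact ⟨γ, c1, a2.of_eq lJ fun x hx => (c2 x (lJ hx)).trans (g2 x hx),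
    fun r hr => c2 _ (h.mem_of (e3 r hr).1.1) ▸ cg r hr⟩

end Md

end CF.Cw3
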