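import Cfsg.Agent.Cw3.U

/-! The fourth radical subgroup. -/

set_option autoImplicit false
set_option linter.style.haveILetI false
set_option linter.unusedSimpArgs false

namespace CF.Cw3

open Cfsg Cfsg.FusionSystem Subgroup CF.Fus CF.FusU CF.Comp CF.Th3

variable {Ω : Type*} [Group Ω] {S E U : Subgroup Ω} {F : FusionSystem S} {v : ℕ → Ω}
  {α β γ δ τ n : MulAut E} {s x y : Ω} {a b c g i j k t : ℕ} {A A0 B C C' D L R l p p' q : List ℕ} {f f' : ℕ → ℕ}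
  {G : List (List ℕ)}

theorem fl_eq {X : Type} (q : List ℕ) (k : List ℕ → X) : mapF id q k = k q := by rw [mapF_eq, lmap_eq, List.map_id]

theorem Has.congr (h : Has F E v A q) (e : leq q p = true := by decide +kernel) : Has F E v A p := leq_iff.1 e ▸ h

theorem Sec.mv {A D L : Subgroup Ω} {K : Subgroup (MulAut E)} {t : Ω} {e : P2 → Ω} (h : Sec F E A D L K t e)
    (hE : F.IsEssential 3 E) : ∃ g ∈ F.autGroup E, g ∉ stab E L := by
  haveI := h.sat.finite h.le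
  by_contra! k
  exact absurd (h.uniq h.mt_t (h.mt_inn (cA_mem_Inn (h.sat.ess_mem hE h.tN
    ((h.lv _ k).op (h.sat.pgroup h.le) (h.cA_mem h.tN.1))))) (1, 0)) (by decide)

/-- conjugations on `J` -/
def cJa : List ℕ := [0, 0, 0, 243, 108, 27, 13, 5, 1]
/-- conjugations on `J` -/
def cJb : List ℕ := [0, 0, 0, 333, 99, 30, 9, 3, 1]
/-- elements of the derived subgroup -/
def G81 : List ℕ := [0, 1, 2, 3, 4, 5, 6, 7, 8, 45, 46, 47, 48, 49, 50, 51, 52, 53, 63, 64, 65, 66, 67, 68, 69, 70, 71, 99,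
  100, 101, 102, 103, 104, 105, 106, 107, 117, 118, 119, 120, 121, 122, 123, 124, 125, 135, 136, 137, 138, 139, 140, 141,
  142, 143, 171, 172, 173, 174, 175, 176, 177, 178, 179, 189, 190, 191, 192, 193, 194, 195, 196, 197, 234, 235, 236, 237,
  238, 239, 240, 241, 242]
/-- the good solutions -/
def gD : List (List ℕ) := [[0, 0, 0, 10, 622, 727, 629, 242, 49], [0, 0, 0, 14, 549, 587, 557, 193, 49],
  [0, 0, 0, 17, 682, 488, 679, 171, 49], [0, 0, 0, 27, 683, 486, 680, 171, 49], [0, 0, 0, 32, 623, 728, 627, 242, 49],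
  [0, 0, 0, 33, 550, 585, 555, 193, 49], [0, 0, 0, 73, 551, 586, 556, 193, 49], [0, 0, 0, 76, 681, 487, 678, 171, 49],
  [0, 0, 0, 78, 621, 726, 628, 242, 49]]
/-- generators of `J` as words -/
def wD : List (List ℕ) := [[], [], [], [0], [0, 1, 4, 4], [0, 1, 1, 2, 3, 3, 4], [1], [3, 3, 5], [1, 1, 3, 3, 5, 5]]

/-- images of module generators -/
noncomputable def yD (u w : ℕ) : List ℕ :=
  [u, w, cjc u 8748, cjc w 8748, cjc (cjc u 8748) 8748, cjc (cjc w 8748) 8748]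

/-- `f` acts as an element of the list on two generators -/
noncomputable def tD (f : ℕ → ℕ) : Bool := force (f 243) fun a => force (f 9) fun b =>
  lany (fun r => band (Nat.beq a (cjc 243 r)) (Nat.beq b (cjc 9 r))) [0, 8748, 18954]

theorem kD1 : lall (fun r => force (mu 9 r) fun u => lall (fun r' => force (mu 486 r') fun w => mapF id (yD u w) fun y =>
    mapF id (lmap (pc y) wD) fun q => Bool.rec true (Bool.rec true (Bool.rec (lany (fun w => bad (ev [q, cJa, cJb] w))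
      [[0, 0, 0, 2, 0, 1, 0, 1], [0, 0, 0, 2, 0, 2, 0, 1], [0, 1, 0, 1, 1, 0, 2], [0, 1, 0, 1, 2, 1, 0, 2],
        [0, 1, 0, 2, 0, 1, 2, 2], [0, 1, 0, 2, 2, 0, 2]]) true (lany (leq q) gD))
      (tD fun c => ap q (cjc (ap q (cjc (ap q (cjc c 729)) 729)) 729)))
      (tD fun c => ap q (ap q (ap q (ap q c))))) G81) G81 = true := by decide +kernel

/-- the check of `ext_J` -/
noncomputable def EX (A q : List ℕ) (L : List (ℕ × ℕ)) : Bool :=
  band (band (LE (zl 6) A) (lall (fun c => Bool.rec (lm (lmap Prod.fst L) c) true (lt c 729)) A))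
    (lall (fun r => band (band (MM A r.1) (MM A r.2)) (lall (fun g => Nat.beq (ap q (Cw3.cjc g r.1))
      (Cw3.cjc (ap q g) r.2)) (zl 6))) L)

/-- some word extends and moves `Z 7` -/
noncomputable def MV (A : List ℕ) (a : ℕ) (C : List (List ℕ × ℕ × ℕ)) : Bool := lall (fun q => lany (fun c =>
  mapF id (ev [q, cJa, cJb] c.1) fun p => band (Nat.ble 2187 c.2.2) (EX A p [(a, c.2.1), (729, c.2.2)])) C) gD

namespace Md

variable (h : Md S v)
include h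

theorem has3 (k : Has F (Z v 6) v (zl 6) q) : ∀ p ∈ [q, cJa, cJb], Has F (Z v 6) v (zl 6) p := by
  simp only [List.forall_mem_cons]
  exact ⟨k, (h.has_cJ 6561).congr, (h.has_cJ 2187).congr, by simp⟩

theorem els (R : List ℕ) (k : Cg (cl v A) (v a) y) (ha : a < 19683 := by decide)
    (e : CV A (zl 0) (lm R) = true := by decide +kernel) : ∃ r ∈ R, mu a r < 19683 ∧ y = v (mu a r) := by
  obtain ⟨r, r0, r1, -, r2⟩ := h.CV_spec e k
  rw [show cl v (zl 0) = ⊥ from h.Z_zero, mem_bot, inv_mul_eq_one, eq_inv_mul_iff_mul_eq] at r2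
  exact ⟨r, mem_of_lm r1, mu_lt ha r0, by rw [h.mul ha r0, r2]⟩

theorem enumD (hF : Sat F 3) (hE : F.IsEssential 3 (cl v (lD 8748))) : ∃ q ∈ gD, Has F (Z v 6) v (zl 6) q := by
  haveI := h.fin
  have sc := h.secD hF (hF.ess_fn hE)
  obtain ⟨g, g1, g2⟩ := sc.mv hE
  obtain ⟨n, n1, n2, n3⟩ := sc.weyl g1 g2
  obtain ⟨r, r1, r2, r3⟩ := h.els G81 (a := 9) (n3 (1, 0))
  obtain ⟨r', r1', r2', r3'⟩ := h.els G81 (a := 486) (n3 (0, 1))
  have lJ : Z v 6 ≤ cl v (lD 8748) := sc.AE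
  have sJ := sc.sA n1
  have x1 : v 8748 ∈ cl v (lD 8748) := mem_cl List.mem_cons_self
  have cj : ∀ {c d}, c < 19683 ∧ d < 19683 ∧ v c ∈ Z v 6 ∧ fn n (v c) = v d → Cw3.cjc c 8748 < 19683 ∧
      Cw3.cjc d 8748 < 19683 ∧ v (Cw3.cjc c 8748) ∈ Z v 6 ∧ fn n (v (Cw3.cjc c 8748)) = v (Cw3.cjc d 8748) :=
    fun ⟨k1, k2, k3, k4⟩ => ⟨cjc_lt k1 (by decide), cjc_lt k2 (by decide), h.cjc (b := 8748) k1 (by decide) ▸
      conj_mem_of_norm (h.Z_norm (by decide) (sc.le x1)) k3, by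
      rw [h.cjc k1 (by decide), h.cjc k2 (by decide), (mulOn_fn n).map_conj x1 (lJ k3), ← k4,
        ← mul_inv_cancel_left (v 8748) (fn n (v 8748)), mul_assoc (v 8748),
        h.comm (A := zl 6) (B := zl 6) (n2.2 _ x1 x1) (stab_maps sJ k3)]
      group⟩
  have u1 : 243 < 19683 ∧ _ ∧ v 243 ∈ Z v 6 ∧ _ := ⟨by decide, r2, h.mem_of, r3⟩
  have w1 : 9 < 19683 ∧ _ ∧ v 9 ∈ Z v 6 ∧ _ := ⟨by decide, r2', h.mem_of, r3'⟩
  have up : ∀ {c d}, c < 19683 ∧ d < 19683 ∧ v c ∈ Z v 6 ∧ fn n (v c) = v d →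
    c < 19683 ∧ d < 19683 ∧ v c ∈ cl v (lD 8748) ∧ fn n (v c) = v d := fun k => ⟨k.1, k.2.1, lJ k.2.2.1, k.2.2.2⟩
  have q0 : Rq n v (yD 243 9) (yD (mu 9 r) (mu 486 r')) := .cons (up u1) (.cons (up w1) (.cons (up (cj u1)) (.cons (up (cj w1))
    (.cons (up (cj (cj u1))) (.cons (up (cj (cj w1))) .nil)))))
  have q1 := (h.rq_words wD q0).congr' (B := zl 6)
  have k := lall_iff.1 ((force_eq _ _).symm.trans (lall_iff.1 kD1 r r1)) r' r1'
  simp only [force_eq, fl_eq, brec_imp, brec_or] at k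
  generalize lmap (pc (yD (mu 9 r) (mu 486 r'))) wD = q at q1 k
  have j := h.jf q1 sJ
  have jt := j.mul (h.jf_cA (t := 729) (by decide) sc.tN.2 lJ)
  have td : ∀ {δ f}, JF δ v f → δ ∈ Inn (cl v (lD 8748)) → tD f = true := fun k i => by
    obtain ⟨r, r1, r2⟩ := h.jf_inn [0, 8748, 18954] rfl lJ k i
    simp only [tD, force_eq, lany_iff, band_iff, beq_iff]
    exact ⟨r, r1, r2 _ (by decide), r2 _ (by decide)⟩
  obtain ⟨s3, s4⟩ := sc.sl n1 n2 n3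
  obtain ⟨β, b1, b2⟩ := res_aut sc.le lJ n1 sJ
  have hq : Has F (Z v 6) v (zl 6) q := ⟨β, b1, q1.of_eq le_rfl b2⟩
  rw [pow_succ', pow_three] at s4
  rw [pow_three] at s3
  rcases k (td (j.mul (j.mul (j.mul j))) s4) (td (jt.mul (jt.mul jt)) s3) with k | k
  · exact ⟨q, mem_of_leq k, hq⟩
  · obtain ⟨w, -, k⟩ := lany_iff.1 k
    exact (h.not_bad hF (h.has_ev (h.has3 hq) w) k).elim

theorem mv_of (hF : Sat F 3) (A : List ℕ) (a : ℕ) (C : List (List ℕ × ℕ × ℕ)) (hq : q ∈ gD) (k : Has F (Z v 6) v (zl 6) q)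
    (e : MV A a C = true := by decide +kernel) : Mv F v A (zl 7) := by
  obtain ⟨c, -, e⟩ := lany_iff.1 (lall_iff.1 e q hq)
  rw [fl_eq, band_iff] at e
  obtain ⟨γ, c1, -, c3⟩ := h.ext_J hF A _ (h.has_ev (h.has3 k) c.1) e.2
  refine ⟨γ, c1, fun s => ?_⟩
  have m := (c3 (729, c.2.2) (by simp)).mem' (h.Z_mono (by decide) (by decide : 7 ≤ 9)) (stab_maps s (h.mem_of (c := 729)))
  have o := lall_iff.1 (band_iff.1 e.2).2 (729, c.2.2) (by simp)
  simp only [band_iff, MM, lt_iff] at o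
  exact absurd ((h.mem_Z (k := 7) (by decide) o.1.2.1.2).1 m) (not_lt.2 (Nat.le_of_ble_eq_true e.1))

theorem hd0 (hF : Sat F 3) (hE : F.IsEssential 3 (cl v (lD 8748))) : Mv F v (zl 8) (zl 7) ∧ Mv F v lB (zl 7) := by
  obtain ⟨q, q1, q2⟩ := h.enumD hF hE
  exact ⟨h.mv_of hF _ 2187 [([0, 1, 0, 1, 2, 1, 0, 1, 1, 0, 2, 0, 2, 0], 1458, 5103),
    ([0, 1, 0, 1, 0, 2, 0, 1, 0, 2, 0, 1, 0], 2916, 5103), ([0, 1, 0, 2, 0, 1, 0, 1, 0, 2, 2, 0], 729, 4374)] q1 q2,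
    h.mv_of hF _ 6561 [([0, 1, 0, 1, 0, 2, 2, 0, 2, 0, 1, 2, 2, 0], 14580, 13122),
    ([0, 1, 0, 0, 0, 1, 0, 1, 0, 2, 0, 1, 0], 729, 14580), ([0, 1, 1, 0, 2, 0, 2, 0, 1, 0, 2, 0], 1458, 6561)] q1 q2⟩

end Md

end CF.Cw3
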