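import Cfsg.Agent.Cw3.V

/-! Normal forms of the Weyl elements of the three normal radical subgroups. -/

set_option autoImplicit false
set_option linter.style.haveILetI false
set_option linter.unusedSimpArgs false

namespace CF.Cw3

open Cfsg Cfsg.FusionSystem Subgroup CF.Fus CF.FusU CF.Comp CF.Th3

variable {Ω : Type*} [Group Ω] {S E U : Subgroup Ω} {F : FusionSystem S} {v : ℕ → Ω}
  {α β γ δ τ n σ ρ : MulAut E} {s x y : Ω} {a b c g i j k t : ℕ} {A A0 B C C' D L R l p p' q : List ℕ} {f f' : ℕ → ℕ}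
  {G : List (List ℕ)}

/-- `σ` is the restriction of the automorphism `q` of `S` -/
def TR (σ : MulAut E) (v : ℕ → Ω) (q : List ℕ) : Prop := ∀ c < 19683, v c ∈ E → fn σ (v c) = v (ap q c)

/-- first Weyl element -/
def nA (l : ℕ) : List ℕ := [0, 729, 4374, l, 27, 162, 1, 6, 9]
/-- second Weyl element -/
def nB (l m : ℕ) : List ℕ := [1458, 0, 6561, l, 162, 3, m, 54, 1]
/-- third Weyl element -/
def nC : List ℕ := [6561, 162, 54, 0, 2187, 729, 9, 3, 1]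
/-- words -/
def wA : List (List ℕ) := [[], [0], [1], [2], [0, 2, 2, 0, 2, 0], [1, 2, 2, 1, 2, 1], [0, 2, 2, 0, 2, 2, 0, 2, 2],
  [0, 0, 2, 1, 2, 2, 0, 2, 1, 1, 2, 2], [1, 2, 2, 1, 2, 2, 1, 2, 2]]
/-- words -/
def wB : List (List ℕ) := [[0], [], [1], [2], [4], [0, 0, 4, 4, 0, 4], [3], [0, 3, 3, 0, 3, 0], [0, 1, 4, 0, 1, 4, 0, 1, 4]]
/-- words -/
def wC : List (List ℕ) := [[0], [1], [0, 0, 1, 1, 0, 1], [], [2], [0, 0, 2, 2, 0, 2], [1, 1, 2, 1, 2, 2],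
  [0, 0, 1, 0, 2, 1, 2, 0, 1, 0, 0, 2], [0, 2, 1, 0, 2, 1, 0, 2, 1]]

/-- the cube of `q` times conjugation by `t` acts on `J` as an element of the list -/
noncomputable def tJ (q : List ℕ) (t : ℕ) (l : List ℕ) : Bool := mapF (ap q) (zl 6) fun q =>
  mapF (fun c => ap q (cjc (ap q (cjc (ap q (cjc c t)) t)) t)) (zl 6) fun y =>
    lany (fun r => leq y (lmap (fun c => cjc c r) (zl 6))) l

/-- a conjugate of `q` lies in the list -/
noncomputable def fN (q l : List ℕ) (G : List (List ℕ)) : Bool :=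
  lany (fun e => band (lt e 19683) (lany (leq (lmap (fun a => cjc a e) q)) G)) l

theorem kEA : lall (fun a => Bool.rec true (lall (fun b => Bool.rec true (lall (fun c => Bool.rec true
    (mapF id (lmap (pc [a, b, c]) wA) fun q => Bool.rec true (Bool.rec true (fN q [0, 243, 486] [nA 243, nA 254, nA 262])
      (tJ q 6561 eA)) (RA (zl 8) q)) (lt (mu (iv 243) c) 243)) (Wl true true)) (lt (mu (iv 4374) b) 729)) (Wl false true))
    (lt (mu (iv 729) a) 729)) (Wl false false) = true := by decide +kernel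

theorem kEB : lall (fun a => Bool.rec true (lall (fun b => Bool.rec true (lall (fun c => Bool.rec true
    (lall (fun d => Bool.rec true (lall (fun e =>
    (mapF id (lmap (pc [a, b, c, d, e]) wB) fun q => Bool.rec true (Bool.rec true (Bool.rec true
      (fN q [0, 9, 18, 243, 252, 261, 486, 495, 504] [nB 9 243, nB 10 245, nB 11 244])
      (tJ q 2187 eB)) (RA lB q)) (Nat.beq (ap q 1) 1))) (Wl false true)) (Nat.beq (cc d b) 0)) (Wl true true))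
    (Nat.beq (cc c a) 0)) (Wl true true)) (lt (mu (iv 13122) (mu b (mu b 0))) 729)) (Wl true false))
    (lt (mu (iv 1458) a) 729)) (Wl false false) = true := by decide +kernel

theorem kEC : lall (fun a => Bool.rec true (lall (fun b => Bool.rec (lall (fun c => Bool.rec
    (mapF id (lmap (pc [a, b, c]) wC) fun q => Bool.rec true (fN q [0, 9, 18] [nC]) (RA lC q))
    true (NN lE (mu (iv 4374) (mu c (mu c 0))))) (Wl false true)) true (NN lE (mu (iv 162) b))) (Wl false true))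
    (lt (mu (iv 6561) a) 6561)) (Wl true false) = true := by decide +kernel

namespace Md

variable (h : Md S v)
include h

theorem torA (hF : Sat F 3) (k : Bs F v lT8) (m : Mv F v (zl 8) (zl 7)) : Has F S v g9 t121 := by
  have sc := h.secA hF
  obtain ⟨g, g1, g2⟩ := m
  obtain ⟨n, n1, n2, n3⟩ := sc.weyl g1 g2
  have m2 := (sc.mul n1 n3 n3).congr (ψ := act ((2, 0), (0, 2)))
  obtain ⟨f, f1, f2⟩ := h.extA hF (mul_mem n1 n1) ((sc.stab_iff (mul_mem n1 n1) m2).2 rfl)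
  obtain ⟨q, q1, q2, q3⟩ := h.pick k f1
  have o : v 243 ∈ cl v (zl 8) := h.mem_of
  rwa [(by decide +kernel : ∀ q ∈ lT8, mu (iv 4374) (ap q 2187) < 3 ^ 7 → mu (iv 1458) (ap q 729) < 3 ^ 6 →
    mu (iv 243) (ap q 243) < 3 ^ 5 → q = t121) q q1
    (q3 7 (by decide) _ (by decide) _ (by decide) ((f2 _ (sc.eE (1, 0))).symm ▸ (m2 (1, 0)).mono sc.DL :))
    (q3 6 (by decide) _ (by decide) _ (by decide) ((f2 _ (sc.eE (0, 1))).symm ▸ m2 (0, 1) :))
    (q3 5 (by decide) _ (by decide) _ (by decide) ((f2 _ o).symm ▸ (mul_mem n2 n2).2 _ o h.mem_of :))] at q2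

theorem torB (hF : Sat F 3) (k : Bs F v lT8) (m : Mv F v lB (zl 7)) : Has F S v g9 t211 := by
  have sc := h.secB hF
  obtain ⟨g, g1, g2⟩ := m
  obtain ⟨n, n1, n2, n3⟩ := sc.weyl g1 g2
  have m2 := (sc.mul n1 n3 n3).congr (ψ := act ((2, 0), (0, 2)))
  obtain ⟨f, f1, f2⟩ := h.extB hF (mul_mem n1 n1) ((sc.stab_iff (mul_mem n1 n1) m2).2 rfl)
  obtain ⟨q, q1, q2, q3⟩ := h.pick k f1
  have o : v 1 ∈ cl v lB := h.mem_of
  rwa [(by decide +kernel : ∀ q ∈ lT8, mu (iv 13122) (ap q 6561) < 3 ^ 8 → mu (iv 729) (ap q 1458) < 3 ^ 6 →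
    mu (iv 1) (ap q 1) < 3 ^ 0 → q = t211) q q1
    (q3 8 (by decide) _ (by decide) _ (by decide) ((f2 _ (sc.eE (1, 0))).symm ▸ (m2 (1, 0)).mono
      (h.Z_mono (j := 6) (k := 8) (by decide) (by decide)) :))
    (q3 6 (by decide) _ (by decide) _ (by decide) ((f2 _ (sc.eE (0, 1))).symm ▸ m2 (0, 1) :))
    (q3 0 (by decide) _ (by decide) _ (by decide) ((f2 _ o).symm ▸ (mul_mem n2 n2).2 _ o h.mem_of :))] at q2

theorem hb0 (hF : Sat F 3) (m : Mv F v lB (zl 7)) : ∃ n ∈ F.autGroup (cl v lB), fn n (v 1) = v 1 ∧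
    Cg (Z v 6) (v 1458) (fn n (v 6561)) ∧ Cg (Z v 6) (v 13122) (fn n (v 1458)) := by
  obtain ⟨g, g1, g2⟩ := m
  obtain ⟨n, n1, n2, n3⟩ := (h.secB hF).weyl g1 g2
  have := n2.2 (v 1) h.mem_of h.mem_of
  rw [show cl v (zl 0) = ⊥ from h.Z_zero, mem_bot, inv_mul_eq_one] at this
  exact ⟨n, n1, this.symm, n3 (1, 0), n3 (0, 1)⟩

theorem tori (h1 : Has F S v g9 t121) (h2 : Has F S v g9 t211) (sE : St S ⊤ v A) :
    ∃ σ ∈ F.autGroup (cl v A), ∃ ρ ∈ F.autGroup (cl v A), σ * σ = 1 ∧ ρ * ρ = 1 ∧ σ * ρ = ρ * σ ∧ TR σ v t121 ∧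
      TR ρ v t211 ∧ TR (σ * ρ) v t221 := by
  obtain ⟨α, a1, a2⟩ := h1
  obtain ⟨β, b1, b2⟩ := h2
  have s := fun γ => sE.1 (mem_top γ)
  have m := fun γ δ => mulOn_res sE.2 (s γ) (s δ)
  have t : ∀ {γ q}, Rq γ v g9 q → TR (res (cl v A) γ) v q := fun k c hc e => (fn_res sE.2 (s _) e).trans (h.rq_S k hc)
  have o := (mulOn_res sE.2).map_one
  refine ⟨_, res_mem_autGroup sE.2 le_rfl a1 (s _), _, res_mem_autGroup sE.2 le_rfl b1 (s _), ?_, ?_, ?_, t a2, t b2,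
    m _ _ ▸ t (h.t_mul a2 b2).congr⟩
  · rw [← m, h.t_sq a2 (by decide), o]
  · rw [← m, h.t_sq b2 (by decide), o]
  · rw [← m, ← m, ((h.t_mul a2 b2).congr (p := t221)).ext (h.t_mul b2 a2).congr h.S_eq]

omit h in
theorem cm_of (h1 : TR σ v t121) (h2 : TR ρ v t211) (h3 : TR α v p) (h4 : TR β v p') (e1 : n * α = σ * n)
    (e2 : n * β = ρ * n) : Cm n v p p' := fun c hc m d hd e =>
  have m' : v d ∈ E := e ▸ fn_mem n m
  ⟨by rw [← h3 c hc m, ← fn_mul, e1, fn_mul, e, h1 d hd m'], by rw [← h4 c hc m, ← fn_mul, e2, fn_mul, e, h2 d hd m']⟩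

theorem mt' {φ : P2 → P2} (k : TR σ v q) (m : ∀ p, v (ec l p) ∈ E)
    (e : ∀ p, ec l p < 19683 ∧ CG D (ec l (φ p)) (ap q (ec l p)) = true := by decide +kernel) :
    Mt (cl v D) (fun p => v (ec l p)) σ φ := fun p => k _ (e p).1 (m p) ▸ h.cgl (e p).2

theorem tj (l : List ℕ) (hE : E = cl v A) (k : Rq n v A q) (lJ : Z v 6 ≤ E) (sJ : n ∈ stab E (Z v 6))
    (nt : v t ∈ normalizer (E : Set Ω)) (i : (n * cA E (v t)) ^ 3 ∈ Inn E)
    (e : t < 19683 ∧ lall (IN A) (zl 6) = true ∧ CV A (zl 6) (lm l) = true := by decide +kernel) : tJ q t l = true := by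
  have jt := (h.jf (h.rq_sub _ k e.2.1) sJ).mul (h.jf_cA e.1 nt lJ)
  rw [pow_three] at i
  obtain ⟨r, r1, r2⟩ := h.jf_inn l hE lJ (jt.mul (jt.mul jt)) i e.2.2
  simp only [tJ, mapF_eq, lany_iff, leq_iff]
  exact ⟨r, r1, by
    rw [lmap_eq _ (zl 6), lmap_eq _ (zl 6)]
    exact List.map_congr_left fun c hc => r2 c ((zl_spec (k := 6) (by decide)).1 c hc)⟩

theorem fn_has (l : E ≤ S) (nE : S ≤ normalizer (E : Set Ω)) (hn : n ∈ F.autGroup E) (k : Rq n v A q)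
    (e : fN q R G = true) : ∃ p ∈ G, Has F E v A p := by
  obtain ⟨r, -, e⟩ := lany_iff.1 e
  rw [band_iff, lt_iff] at e
  exact ⟨_, mem_of_leq e.2, _, mul_mem (cA_mem_autGroup F l (h.mem e.1)) hn, h.rq_cj r k e.1 (nE (h.mem e.1))⟩

theorem enumA (hF : Sat F 3) (h1 : Has F S v g9 t121) (h2 : Has F S v g9 t211) (m : Mv F v (zl 8) (zl 7)) :
    ∃ p ∈ [nA 243, nA 254, nA 262], Has F (cl v (zl 8)) v (zl 8) p := by
  have sc := h.secA hF
  obtain ⟨g, g1, g2⟩ := m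
  obtain ⟨σ, s1, ρ, r1, s2, r2, c, t1, t2, t3⟩ := h.tori h1 h2 ((h.chS ⊤).1 8 le_rfl)
  obtain ⟨n, n1, n2, n3, n4, n5⟩ := sc.full g1 g2 s1 r1 (mul_mem s1 r1) s2 r2
    (by rw [mul_assoc, ← mul_assoc ρ, ← c, mul_assoc, r2, mul_one, s2]) c (by rw [mul_assoc, c])
    (by
      rw [c, mul_inv_rev, mul_assoc, inv_mul_cancel, mul_one]
      have st := (h.chA rfl (F.autGroup _)).2.1.1 s1
      exact inv_mem ⟨st, fun x _ => h.tr_of (sc.DL.trans sc.LA) st [243] (by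
        simp only [List.forall_mem_cons]; exact ⟨by rw [t1 243 (by decide) h.mem_of]; exact h.cgl, by simp⟩) (by decide +kernel) x⟩)
    (h.mt' t1 sc.eE) (h.mt' (φ := act ((1, 0), (0, 2))) t2 sc.eE) (h.mt' (φ := act ((2, 0), (0, 1))) t3 sc.eE) (by decide)
  have w := Md.cm_of t1 t2 t1 t3 n4 (by rw [← mul_assoc, n4, mul_assoc, n5, ← mul_assoc, ← mul_assoc, s2, one_mul])
  obtain ⟨a, a1, a2, a3⟩ := h.wt sc.le w 2187 false false h.mem_of
  obtain ⟨b, b1, b2, b3⟩ := h.wt sc.le w 729 false true h.mem_of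
  obtain ⟨c, c1, c2, c3⟩ := h.wt sc.le w 243 true true h.mem_of
  have q0 : Rq n v [2187, 729, 243] [a, b, c] := .cons ⟨by decide, a2, h.mem_of, a3⟩ (.cons ⟨by decide, b2, h.mem_of, b3⟩
    (.cons ⟨by decide, c2, h.mem_of, c3⟩ .nil))
  have q1 := (h.rq_words wA q0).congr' (B := zl 8)
  have k := kEA
  simp only [lall_iff, brec_imp, lt_iff, fl_eq] at k
  exact h.fn_has sc.le h.nrm n1 q1 (k a a1 (h.cg_lt (k := 6) (a3 ▸ n3 (1, 0)) (hb := a2)) b b1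
    (h.cg_lt (k := 6) (b3 ▸ n3 (0, 1)) (hb := b2)) c c1 (h.cg_lt (k := 5) (c3 ▸ n2.2 _ h.mem_of h.mem_of) (hb := c2))
    (h.ra q1) (h.tj eA rfl q1 (sc.DL.trans sc.LA) (sc.sD n1) sc.tN.2 (sc.sl n1 n2 n3).1))

theorem enumB (hF : Sat F 3) (h1 : Has F S v g9 t121) (h2 : Has F S v g9 t211) (m : Mv F v lB (zl 7)) :
    ∃ p ∈ [nB 9 243, nB 10 245, nB 11 244], Has F (cl v lB) v lB p := by
  have sc := h.secB hF
  obtain ⟨g, g1, g2⟩ := m
  obtain ⟨σ, s1, ρ, r1, s2, r2, c, t1, t2, t3⟩ := h.tori h1 h2 (h.chS ⊤).2.1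
  obtain ⟨n, n1, n2, n3, n4, n5⟩ := sc.full g1 g2 r1 s1 (mul_mem s1 r1) r2 s2
    (by rw [mul_assoc, ← mul_assoc ρ, ← c, mul_assoc, r2, mul_one, s2]) c.symm (by rw [← mul_assoc, ← c])
    (by
      rw [mul_inv_rev, mul_assoc, inv_mul_cancel, mul_one]
      have st := (h.st0 (Y := F.autGroup _)).1 r1
      exact inv_mem ⟨st, fun x _ => h.tr_of h.LE_spec st [1] (by
        simp only [List.forall_mem_cons]; exact ⟨by rw [t2 1 (by decide) h.mem_of]; exact h.cgl, by simp⟩)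
        (by decide +kernel) x⟩)
    (h.mt' t2 sc.eE) (h.mt' (φ := act ((1, 0), (0, 2))) t1 sc.eE) (h.mt' (φ := act ((2, 0), (0, 1))) t3 sc.eE) (by decide)
  have w := Md.cm_of t1 t2 t3 t2 (by rw [← mul_assoc, n5, mul_assoc, n4, ← mul_assoc, mul_assoc σ, r2, mul_one]) n4
  obtain ⟨a, a1, a2, a3⟩ := h.wt sc.le w 6561 false false h.mem_of
  obtain ⟨b, b1, b2, b3⟩ := h.wt sc.le w 729 true false h.mem_of
  obtain ⟨c, c1, c2, c3⟩ := h.wt sc.le w 243 true true h.mem_of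
  obtain ⟨d, d1, d2, d3⟩ := h.wt sc.le w 9 true true h.mem_of
  obtain ⟨e, e1, e2, e3⟩ := h.wt sc.le w 81 false true h.mem_of
  have q0 : Rq n v [6561, 729, 243, 9, 81] [a, b, c, d, e] := .cons ⟨by decide, a2, h.mem_of, a3⟩
    (.cons ⟨by decide, b2, h.mem_of, b3⟩ (.cons ⟨by decide, c2, h.mem_of, c3⟩ (.cons ⟨by decide, d2, h.mem_of, d3⟩
      (.cons ⟨by decide, e2, h.mem_of, e3⟩ .nil))))
  have q1 := (h.rq_words wB q0).congr' (B := lB)
  have k := kEB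
  simp only [lall_iff, brec_imp, lt_iff, fl_eq, beq_iff] at k
  have z := n2.2 (v 1) h.mem_of h.mem_of
  rw [show cl v (zl 0) = ⊥ from h.Z_zero, mem_bot, inv_mul_eq_one, (h.rq_ap q1).2] at z
  exact h.fn_has sc.le h.nrm n1 q1 (k a a1 (h.cg_lt (k := 6) (a3 ▸ n3 (1, 0)) (hb := a2)) b b1
    (h.cg_lt (k := 6) ((h.rq_pc q0 [1, 1]).2 ▸ n3 (0, 1) :) (hb := mu_lt b2 (mu_lt b2 (by decide)))) c c1 (h.rq_cc 2 0 q0) d d1 (h.rq_cc 3 1 q0)
    e e1 (h.inj (ap_lt q1.ok.2.1 1) (by decide) z.symm) (h.ra q1)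
    (h.tj eB rfl q1 (sc.DL.trans sc.LA) (sc.sD n1) sc.tN.2 (sc.sl n1 n2 n3).1))

theorem enumC (hF : Sat F 3) (h1 : Has F S v g9 t121) (h2 : Has F S v g9 t211) (m : Mv F v lC lP) :
    Has F (cl v lC) v lC nC := by
  have sc := h.secC hF
  obtain ⟨g, g1, g2⟩ := m
  obtain ⟨σ, s1, ρ, r1, s2, r2, c, t1, t2, -⟩ := h.tori h1 h2 (h.chS ⊤).2.2.1
  obtain ⟨n, n1, n2, n3, n4, n5⟩ := sc.full g1 g2 s1 r1 r1 s2 r2 r2 c c (by simp)
    (h.mt' t1 sc.eE) (h.mt' (φ := id) t2 sc.eE) (h.mt' (φ := id) t2 sc.eE) (by decide)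
  have w := Md.cm_of t1 t2 t1 t2 n4 n5
  obtain ⟨a, a1, a2, a3⟩ := h.wt sc.le w 6561 true false h.mem_of
  obtain ⟨b, b1, b2, b3⟩ := h.wt sc.le w 2187 false true h.mem_of
  obtain ⟨c, c1, c2, c3⟩ := h.wt sc.le w 81 false true h.mem_of
  have q0 : Rq n v [6561, 2187, 81] [a, b, c] := .cons ⟨by decide, a2, h.mem_of, a3⟩ (.cons ⟨by decide, b2, h.mem_of, b3⟩
    (.cons ⟨by decide, c2, h.mem_of, c3⟩ .nil))
  have q1 := (h.rq_words wC q0).congr' (B := lC)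
  have k := kEC
  simp only [lall_iff, brec_imp, lt_iff, fl_eq, brec_or] at k
  have nn : ∀ {a b}, a < 19683 → b < 19683 → Cg (cl v lE) (v a) (v b) → NN lE (mu (iv a) b) ≠ true := fun ha hb k e =>
    h.not_mem kKE e (by rwa [h.mul (iv_lt ha).1 hb, h.inv ha])
  obtain ⟨p, p1, p2⟩ := h.fn_has sc.le h.nrm n1 q1 (((((k a a1 (h.cg_lt (k := 8) (a3 ▸ Cg.mono (n2.2 _ h.mem_of h.mem_of)
    h.LE_spec) (hb := a2)) b b1).resolve_left (nn (by decide) b2 (b3 ▸ n3 (1, 0)))) c c1).resolve_left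
      (nn (by decide) (mu_lt c2 (mu_lt c2 (by decide))) ((h.rq_pc q0 [2, 2]).2 ▸ n3 (0, 1) :))) (h.ra q1))
  exact List.mem_singleton.1 p1 ▸ p2

end Md

end CF.Cw3
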