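import Cfsg.Agent.Cw3.C

/-! Groups satisfying the presentation are parametrized by the codes. -/

set_option autoImplicit false
set_option linter.style.haveILetI false
set_option maxRecDepth 100000

namespace CF.Cw3

open CF.Comp Subgroup CF.Fus CF.Schur.Pc Cfsg CF.Th3

theorem md_of_rel {Γ : Type*} [Group Γ] [Finite Γ] {y : ℕ → Γ} (h : Rel Pd y)
    (hc : 19683 ≤ Nat.card (gen 9 y 0)) : Md (gen 9 y 0) (vl y) ∧ Nat.card (gen 9 y 0) = 3 ^ 9 := by
  have m : ∀ {a}, a < 19683 → vl y a ∈ gen 9 y 0 := fun {a} ha =>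
    mul_mem (pv_mem fun i hi => mem_gen y (Nat.zero_le _)
      ((by decide +kernel : ∀ q < 81, ∀ i ∈ wq q, i < 9) _ (by omega) i hi))
      (pv_mem fun i hi => mem_gen y (Nat.zero_le _)
      ((by decide +kernel : ∀ q < 243, ∀ i ∈ wv q, i < 9) _ (by omega) i hi))
  have s : ∀ {s}, s ∈ gen 9 y 0 → ∃ a < 19683, vl y a = s := fun {s} hs => by
    refine clo_ind (S := ⊤) (p := fun s => ∃ a < 19683, vl y a = s) (fun _ _ => trivial)
      ⟨0, by decide, mul_one _⟩ ?_ hs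
    rintro _ ⟨i, ⟨-, hi⟩, rfl⟩ _ ⟨a, ha, rfl⟩
    obtain ⟨c, h1, h2⟩ := (by decide +kernel : ∀ i < 9, ∃ c ∈ g9, wq (c / 243) ++ wv (c % 243) = [i]) i hi
    have l := (by decide : ∀ c ∈ g9, c < 19683) c h1
    refine ⟨_, mu_lt l ha, ?_⟩
    rw [vl_mu h l ha, vl, ← pv_append, h2, pv_cons, pv_nil, mul_one]
  let f : Fin 19683 → gen 9 y 0 := fun a => ⟨vl y a, m a.2⟩
  have fs : Function.Surjective f := fun ⟨x, hx⟩ =>
    let ⟨a, ha, e⟩ := s hx
    ⟨⟨a, ha⟩, Subtype.ext e⟩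
  have fb := fs.bijective_of_nat_card_le (by simpa using hc)
  have c : Nat.card (gen 9 y 0) = 3 ^ 9 := by rw [← Nat.card_eq_of_bijective f fb]; simp
  exact ⟨⟨vl_mu h, fun {a b} ha hb e => congrArg Fin.val (fb.1 (a₁ := ⟨a, ha⟩) (a₂ := ⟨b, hb⟩) (Subtype.ext e)),
    m, s, inferInstance, IsPGroup.of_card c⟩, c⟩

theorem Md.map {Ω Γ : Type*} [Group Ω] [Group Γ] {S : Subgroup Ω} {T : Subgroup Γ} {v : ℕ → Γ} (h : Md T v)
    (e : T ≃* S) : ∃ w, Md S w := by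
  classical
  haveI := h.fin
  refine ⟨fun c => if hc : c < 19683 then (e ⟨v c, h.mem hc⟩ : Ω) else 1, fun {a b} ha hb => ?_,
    fun {a b} ha hb k => ?_, fun {a} ha => ?_, fun {s} hs => ?_, Finite.of_equiv _ e.toEquiv, h.pg.of_equiv e⟩
  · simp only [dif_pos ha, dif_pos hb, dif_pos (mu_lt ha hb)]
    rw [← coe_mul, ← map_mul]
    exact congrArg (fun x => (e x : Ω)) (Subtype.ext (h.mul ha hb))
  · simp only [dif_pos ha, dif_pos hb] at k
    exact h.inj ha hb (congrArg Subtype.val (e.injective (Subtype.ext k)))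
  · simp only [dif_pos ha]; exact Subtype.mem _
  · obtain ⟨a, ha, k⟩ := h.sur (e.symm ⟨s, hs⟩).2
    refine ⟨a, ha, ?_⟩
    simp only [dif_pos ha]
    rw [show (⟨v a, h.mem ha⟩ : T) = e.symm ⟨s, hs⟩ from Subtype.ext k, MulEquiv.apply_symm_apply]

end CF.Cw3
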