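import Cfsg.Agent.Cw3.W
import Cfsg.Agent.Cw3.NX
import Cfsg.Agent.Cw3.NJ

/-! The essential subgroups, standard systems and their comparison. -/

set_option autoImplicit false
set_option linter.style.haveILetI false
set_option linter.unusedSimpArgs false

namespace CF.Cw3

open Cfsg Cfsg.FusionSystem Subgroup CF.Fus CF.FusU CF.Comp CF.Th3

variable {Ω Ω' : Type*} [Group Ω] [Group Ω'] {S E U : Subgroup Ω} {S' : Subgroup Ω'} {F F' : FusionSystem S}
  {F₁ : FusionSystem S'} {v w : ℕ → Ω} {v₁ : ℕ → Ω'} {f : Ω → Ω'} {α β γ δ τ n σ ρ : MulAut E} {s x y : Ω}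
  {a b c g i j k l t : ℕ} {A B C D R p q r u : List ℕ} {G L : List (List ℕ)}

theorem cl_congr (e : ∀ c ∈ A, v c = w c) : cl v A = cl w A := congrArg Subgroup.closure (Set.image_congr e)

theorem cl_map (f : ℕ → ℕ) : cl (fun c => v (f c)) A = cl v (lmap f A) :=
  le_antisymm (cl_le.2 fun c hc => mem_cl (v := v) (lmap_eq f A ▸ List.mem_map_of_mem hc)) (cl_le.2 fun c hc => by
    obtain ⟨d, hd, rfl⟩ := List.mem_map.1 (lmap_eq f A ▸ hc); exact mem_cl (v := fun c => v (f c)) hd)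

theorem Mv.same (h : Md S v) (h' : Md S w) (m : Mv F w A B) (sA : St S ⊤ v A) (sB : St S ⊤ v B)
    (e : band (okl A) (okl B) = true := by decide +kernel) : Mv F v A B := by
  rwa [Mv, h.same h' sA (band_iff.1 e).1, h.same h' sB (band_iff.1 e).2] at m

/-- fourth Weyl element -/
def nD : List ℕ := [8748, 0, 0, 76, 681, 487, 678, 171, 49]

/-- a standard system -/
structure Std (F : FusionSystem S) (v : ℕ → Ω) (l : ℕ) (L : List (List ℕ)) : Prop where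
  md : Md S v
  sat : Sat F 3
  bs : Bs F v L
  tor : ∀ q ∈ L, Has F S v g9 q
  t1 : t121 ∈ L
  a : Has F (cl v (zl 8)) v (zl 8) (nA l)
  b : Has F (cl v lB) v lB (nB 9 243)
  c : Has F (cl v lC) v lC nC

namespace Md

variable (h : Md S v)
include h

theorem congr (e : ∀ c < 19683, w c = v c) : Md S w :=
  ⟨fun ha hb => by rw [e _ (mu_lt ha hb), e _ ha, e _ hb, h.mul ha hb], fun ha hb k => h.inj ha hb (by rwa [← e _ ha, ← e _ hb]),
    fun ha => e _ ha ▸ h.mem ha, fun hs => let ⟨a, ha, k⟩ := h.sur hs; ⟨a, ha, (e a ha).trans k⟩, h.fin, h.pg⟩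

theorem dcj {τ : MulAut S} (hs : s ∈ S) (k : Rq τ v g9 t121) (hx : t ∈ [8748, 10935]) : ∃ γ, (γ = cA S s⁻¹ ∨ γ = cA S s⁻¹ * τ) ∧
    cl (fun c => s⁻¹ * v c * s) (lD t) = cl (fun c => fn γ (v c)) (lD 8748) := by
  have o := okl_iff.1 (by decide +kernel : okl (lD 8748) = true)
  have n := le_normalizer (inv_mem hs)
  rcases List.mem_pair.1 hx with rfl | rfl
  · exact ⟨_, .inl rfl, cl_congr fun c hc => by rw [fn_cA n (h.mem (o c hc)), inv_inv]⟩
  · have e : ∀ c < 19683, fn (cA S s⁻¹ * τ) (v c) = s⁻¹ * v (ap t121 c) * s := fun c hc => by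
      rw [fn_mul, h.rq_S k hc, fn_cA n (h.mem (ap_lt k.ok.2.1 c)), inv_inv]
    refine ⟨_, .inr rfl, le_antisymm (cl_le.2 fun c hc => ?_) (cl_le.2 fun c hc => ?_)⟩
    · have := (by decide +kernel : ∀ c ∈ lD 10935, ap t121 (ap t121 c) = c ∧ MM (lD 8748) (ap t121 c) = true) c hc
      have m := (h.comp (piso_fn (cA S s⁻¹ * τ))).mem_of this.2
      rwa [e _ (ap_lt k.ok.2.1 c), this.1] at m
    · exact e c (o c hc) ▸ (h.cj hs).mem_of ((by decide +kernel : ∀ c ∈ lD 8748, MM (lD 10935) (ap t121 c) = true) c hc)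

theorem ess (hF : Sat F 3) (hE : F.IsEssential 3 E) : E = cl v (zl 8) ∨ E = cl v lB ∨ E = cl v lC ∨
    ∃ s ∈ S, ∃ t ∈ [8748, 10935], E = cl (fun c => s⁻¹ * v c * s) (lD t) := by
  obtain ⟨Y, M, m⟩ := exists_mx hF hE
  obtain ⟨k, lk⟩ := exists_lk h m
  obtain e | e | e | ⟨s, hs, e | e⟩ | ⟨e, -⟩ | ⟨-, s, hs, e⟩ := lk.cls
  exacts [.inl e, .inr (.inl e), .inr (.inr (.inl e)), .inr (.inr (.inr ⟨s, hs, _, by simp, e⟩)),
    .inr (.inr (.inr ⟨s, hs, _, by simp, e⟩)), (no_J h hF (fun _ h => no_X h hF) (fun s hs t ht k => by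
      obtain ⟨τ, t1⟩ := h.aut (q := t121)
      obtain ⟨γ, -, e⟩ := h.dcj hs t1 ht
      have h' := h.comp (piso_fn γ)
      have c := h.chS ⊤
      exact (h'.hd0 hF (e ▸ k)).imp (fun m => m.same h h' (c.1 8 le_rfl) (c.1 7 (by decide)))
        fun m => m.same h h' c.2.1 (c.1 7 (by decide))) (h.hb0 hF) (e ▸ hE)).elim, (no_X (h.cj hs) hF (e ▸ hE)).elim]

theorem ess' (hF : Sat F 3) (hE : F.IsEssential 3 E) : E = cl v (zl 8) ∨ E = cl v lB ∨ E = cl v lC ∨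
    ∃ w, Md S w ∧ E = cl w (lD 8748) := (h.ess hF hE).imp_right (.imp_right (.imp_right fun ⟨_, hs, _, ht, e⟩ => by
  obtain ⟨τ, t1⟩ := h.aut (q := t121)
  obtain ⟨γ, -, e'⟩ := h.dcj hs t1 ht
  exact ⟨_, h.comp (piso_fn γ), e.trans e'⟩))

theorem mvs (hF : Sat F 3) (n1 : ¬ F.IsNormal (Z v 1)) (n3 : ¬ F.IsNormal (Z v 3)) (n6 : ¬ F.IsNormal (Z v 6)) :
    Mv F v (zl 8) (zl 7) ∧ Mv F v lB (zl 7) ∧ Mv F v lC lP := by
  have c := h.chS ⊤
  have k : ∀ j ≤ 8, (∀ E, F.IsEssential 3 E → St E (F.autGroup E) v (zl j)) → F.IsNormal (Z v j) := fun j hj k =>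
    hF.normal_of_ess fun P hP => hP.elim (fun e => by subst e; exact ((c.1 j hj).mono le_top).symm) fun e => (k P e).symm
  have d : ∀ {w}, Md S w → F.IsEssential 3 (cl w (lD 8748)) → Mv F v (zl 8) (zl 7) ∧ Mv F v lB (zl 7) := fun h' e =>
    (h'.hd0 hF e).imp (fun m => m.same h h' (c.1 8 le_rfl) (c.1 7 (by decide))) fun m => m.same h h' c.2.1 (c.1 7 (by decide))
  refine ⟨by_contra fun m => n1 (k 1 (by decide) fun E hE => ?_), by_contra fun m => n3 (k 3 (by decide) fun E hE => ?_),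
    by_contra fun m => n6 (k 6 (by decide) fun E hE => ?_)⟩ <;> obtain rfl | rfl | rfl | ⟨w, h', rfl⟩ := h.ess' hF hE
  exacts [(m ((h.secA hF).mv hE)).elim, (h.chB rfl _).1, (h.chC rfl _).1, (m (d h' hE).1).elim, (h.chA rfl _).1,
    (m ((h.secB hF).mv hE)).elim, (h.chC rfl _).2.2.1, (m (d h' hE).2).elim, (h.chA rfl _).2.2, (h.chB rfl _).2.2,
    (m ((h.secC hF).mv hE)).elim, by rw [St, ← h.same h' (c.1 6 (by decide))]; exact (h'.chD rfl _).2.2]

theorem img_cl (k : MulOn f S) (e : ∀ c < 19683, v₁ c = f (v c)) (o : okl A = true) : img f (cl v A) = cl v₁ A := by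
  rw [cl, (k.mono (h.cl_le_S o)).img_closure, Set.image_image]
  exact cl_congr (v := fun c => f (v c)) fun c hc => (e c (okl_iff.1 o c hc)).symm

theorem has_tr (k : FIso F f F₁) (e : ∀ c < 19683, v₁ c = f (v c)) (m : Has F (cl v A) v A q) : Has F₁ (cl v₁ A) v₁ A q := by
  obtain ⟨α, a1, a2⟩ := m
  have i := h.img_cl k.mul e a2.ok.1
  obtain ⟨β, b1, b2⟩ := k.toFac.aut_push k.sc_ker (h.cl_le_S a2.ok.1) k.ker_le i a1
  exact ⟨β, b1, a2.tr e (fun _ hx => i ▸ mem_img_of_mem hx) b2⟩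

end Md

theorem kH1 : allN 729 (fun j => force (mu 8748 j) fun y => Bool.rec true
    (lany (fun r => lany (fun s => Nat.beq (cjc y (mu r s)) 8748) [0, 243, 486, 9, 252, 495, 18, 261, 504])
      [0, 81, 162, 3, 84, 165, 6, 87, 168]) (Nat.beq (cu y) 0)) = true := by decide +kernel

namespace Std

variable (h : Std F v l L)
include h

theorem tr (k : FIso F f F₁) (e : ∀ c < 19683, v₁ c = f (v c)) : Std F₁ v₁ l L := by
  haveI := h.md.fin
  have m := (h.md.comp k.piso).congr e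
  refine ⟨m, k.sat' h.sat, fun β hβ => ?_, fun q hq => ?_, h.t1, h.md.has_tr k e h.a, h.md.has_tr k e h.b,
    h.md.has_tr k e h.c⟩
  · obtain ⟨α, a1, a2⟩ := k.toFac.aut_lift k.sc_ker le_rfl k.ker_le k.img_eq hβ
    obtain ⟨q, q1, s, s1, q2⟩ := h.bs α a1
    refine ⟨q, q1, f s, k.piso.maps s1, q2.tr e (fun _ => k.piso.maps) fun x hx => ?_⟩
    rw [fn_mul, fn_mul, fn_cA (le_normalizer s1) hx, fn_cA (le_normalizer (k.piso.maps s1)) (k.piso.maps hx),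
      ← k.mul.map_conj s1 hx, a2 _ (conj_mem_of_norm (le_normalizer s1) hx)]
  · have := h.md.has_tr (A := g9) (q := q) k e (by rw [← h.md.S_eq]; exact h.tor q hq)
    rwa [← m.S_eq] at this

theorem has4 (e : leq (lmap (ap (nA l)) (zl 6)) q = true ∧ band (lall (IN (zl 8)) (zl 6))
    (LE (lmap (ap (nA l)) (zl 6)) (zl 6)) = true := by decide +kernel) :
    ∀ p ∈ [q, [0, 0, 0, 9, 162, 3, 243, 54, 1], cJa, cJb], Has F (Z v 6) v (zl 6) p := by
  simp only [List.forall_mem_cons]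
  exact ⟨(h.md.has_res (h.md.Z_le (by decide)) _ h.a e.2).congr e.1,
    (h.md.has_res (h.md.cl_le_S (by decide +kernel)) _ h.b).congr, (h.md.has_cJ 6561).congr, (h.md.has_cJ 2187).congr, by simp⟩

end Std

theorem Std.d (h : Std F v 262 L) : Has F (cl v (lD 8748)) v (lD 8748) nD := by
  have m := h.md
  obtain ⟨γ, c1, c2, c3⟩ := m.ext_J h.sat (lD 8748) [(8748, 8748)]
    ((m.has_ev (h.has4 (q := [0, 0, 0, 262, 27, 162, 1, 6, 9])) [1, 0, 2, 0, 2, 3, 1, 0, 3, 1, 0, 2]).congr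
      (p := [0, 0, 0, 76, 681, 487, 678, 171, 49]))
  obtain ⟨j, j1, j2⟩ := m.ex_Z (by decide) (c3 _ List.mem_cons_self)
  have x1 : v 8748 ∈ cl v (lD 8748) := mem_cl List.mem_cons_self
  have o : mu 8748 j < 19683 := mu_lt (by decide) (by omega)
  replace j2 : fn γ (v 8748) = v (mu 8748 j) := by rw [m.mul (by decide) (by omega), j2, mul_inv_cancel_left]
  have k := allN_spec kH1 (by decide) j j1
  simp only [force_eq, brec_imp, lany_iff, beq_iff] at k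
  obtain ⟨r, r1, s, s1, k⟩ := k (by
    rw [← m.one_iff (cu_lt o), m.cu o, ← j2, ← (mulOn_fn γ).map_pow x1, ← m.cu (by decide),
      (by decide +kernel : cu 8748 = 0), m.zero, (mulOn_fn γ).map_one])
  obtain ⟨u1, u2, u3⟩ := (by decide +kernel : ∀ r ∈ [0, 81, 162, 3, 84, 165, 6, 87, 168],
    ∀ s ∈ [0, 243, 486, 9, 252, 495, 18, 261, 504], mu r s < 19683 ∧ MM (lD 8748) (mu r s) = true ∧
      leq (lmap (fun a => cjc a (mu r s)) [0, 0, 76, 681, 487, 678, 171, 49]) [0, 0, 76, 681, 487, 678, 171, 49] = true)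
    r r1 s s1
  have q : Rq γ v (lD 8748) (mu 8748 j :: [0, 0, 76, 681, 487, 678, 171, 49]) := by
    obtain - | ⟨-, c2⟩ := c2.congr' (B := [0, 0, 0, 243, 81, 27, 9, 3, 1])
    exact .cons ⟨by decide, o, x1, j2⟩ c2
  exact ⟨_, mul_mem (cA_mem_autGroup F (m.cl_le_S (by decide +kernel)) (m.mem u1)) c1,
    (m.rq_cj _ q u1 (le_normalizer (m.mem_of u2))).congr (leq_iff.2 (congrArg₂ List.cons k (leq_iff.1 u3)))⟩

theorem Std.no_d (h : Std F v 243 L) : ¬ F.IsEssential 3 (cl v (lD 8748)) := fun hE => by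
  obtain ⟨q, q1, q2⟩ := h.md.enumD h.sat hE
  obtain ⟨w, -, k⟩ := lany_iff.1 (lall_iff.1 (by decide +kernel : lall (fun q => lany (fun w => bad (ev
    [q, [0, 0, 0, 243, 27, 162, 1, 6, 9], [0, 0, 0, 9, 162, 3, 243, 54, 1], cJa, cJb] w)) [[0, 4, 0, 2], [0, 2, 0, 2, 2],
      [0, 3, 0, 1, 0, 2], [0, 4, 1, 2], [0, 2, 3, 1], [0, 2, 1], [0, 1, 2, 1], [0, 4, 0, 2, 1], [0, 1, 0, 2]]) gD = true) q q1)
  exact h.md.not_bad h.sat (h.md.has_ev (List.forall_mem_cons.2 ⟨q2, h.has4⟩) w) k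

section
variable {M : Subgroup Ω → (Ω → Ω) → Prop}
  (mono : ∀ {P Q f g}, Mor F Q g → M Q g → P ≤ Q → (∀ x ∈ P, f x = g x) → M P f)
  (comp : ∀ {P Q f g}, Mor F P f → Mor F Q g → M P f → M Q g → (∀ x ∈ P, f x ∈ Q) → M P (g ∘ f))
include mono comp

theorem Sec.step {A D L : Subgroup Ω} {K : Subgroup (MulAut E)} {t : Ω} {e : P2 → Ω} (h : Sec F E A D L K t e)
    (hE : F.IsEssential 3 E) (ih : ∀ (Q : Subgroup Ω) g, Nat.card E < Nat.card Q → Mor F Q g → M Q g)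
    (hn : n ∈ F.autGroup E) (m : Mt D e n (act n0)) (k : M E (Fus.fn n)) : ∀ α ∈ F.autGroup E, M E (Fus.fn α) := by
  haveI := h.sat.fin
  haveI := h.sat.finite h.le
  have st : ∀ α ∈ F.autGroup E, α ∈ stab E L → M E (Fus.fn α) := fun α hα s => by
    obtain ⟨β, b1, b2⟩ := rec_ext_norm (h.sat.rec_of_fn h.fn) hα (h.norm hα s)
    exact mono (mor_fn NS_le b1) (ih _ _ (card_lt_of_lt (h.sat.ess_NS hE)) (mor_fn NS_le b1)) (le_NS h.le) b2
  let H : Submonoid (MulAut E) :=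
    { carrier := {α | α ∈ F.autGroup E ∧ M E (Fus.fn α)}
      one_mem' := ⟨one_mem _, st 1 (one_mem _) (one_mem _)⟩
      mul_mem' := fun {α β} a b => ⟨mul_mem a.1 b.1, mono ((mor_fn h.le b.1).comp (mor_fn h.le a.1) fun _ => fn_mem β)
        (comp (mor_fn h.le b.1) (mor_fn h.le a.1) b.2 a.2 fun _ => fn_mem β) le_rfl fun x _ => fn_mul α β x⟩ }
  let H' : Subgroup (MulAut E) := { H with
    inv_mem' := fun {α} a => (Submonoid.powers_le (P := H)).2 a (mem_powers_iff_mem_zpowers.2 (inv_mem (mem_zpowers α))) }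
  exact fun α hα => (h.dec (H := H') hn m ⟨hn, k⟩ (fun β hβ s => ⟨hβ, st β hβ s⟩) hα).2

theorem Std.ind (h : Std F v l L) (hl : l = 243 ∨ l = 262) (hS : ∀ α ∈ F.autGroup S, M S (fn α))
    (ha : ∀ α ∈ F.autGroup (cl v (zl 8)), Rq α v (zl 8) (nA l) → M (cl v (zl 8)) (fn α))
    (hb : ∀ α ∈ F.autGroup (cl v lB), Rq α v lB (nB 9 243) → M (cl v lB) (fn α))
    (hc : ∀ α ∈ F.autGroup (cl v lC), Rq α v lC nC → M (cl v lC) (fn α))
    (hd : l = 262 → ∀ γ ∈ F.autGroup S, ∀ α ∈ F.autGroup (cl (fun c => fn γ (v c)) (lD 8748)),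
      Rq α (fun c => fn γ (v c)) (lD 8748) nD → M (cl (fun c => fn γ (v c)) (lD 8748)) (fn α)) : ∀ P f, Mor F P f → M P f := by
  haveI := h.md.fin
  refine h.sat.alperin' mono comp fun P hP ih => ?_
  rcases hP with rfl | hE
  · exact hS
  obtain rfl | rfl | rfl | ⟨s, hs, t, ht, rfl⟩ := h.md.ess h.sat hE
  · obtain ⟨n, n1, n2⟩ := h.a
    exact (h.md.secA h.sat).step mono comp hE ih n1 (by rcases hl with rfl | rfl <;> exact h.md.mt n2 _) (ha n n1 n2)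
  · obtain ⟨n, n1, n2⟩ := h.b
    exact (h.md.secB h.sat).step mono comp hE ih n1 (h.md.mt n2 _) (hb n n1 n2)
  · obtain ⟨n, n1, n2⟩ := h.c
    exact (h.md.secC h.sat).step mono comp hE ih n1 (h.md.mt n2 _) (hc n n1 n2)
  obtain ⟨τ, t1, t2⟩ := h.tor _ h.t1
  obtain ⟨γ, c1, e⟩ := h.md.dcj hs t2 ht
  have c2 : γ ∈ F.autGroup S := by
    have := cA_mem_autGroup F le_rfl (inv_mem hs)
    rcases c1 with rfl | rfl
    exacts [this, mul_mem this t1]
  have h' := h.tr (mor_fn le_rfl c2).fiso fun _ _ => rfl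
  rw [e] at hE ih ⊢
  rcases hl with rfl | rfl
  · exact (h'.no_d hE).elim
  · obtain ⟨n, n1, n2⟩ := h'.d
    exact (h'.md.secD h.sat (h.sat.ess_fn hE)).step mono comp hE ih n1 (h'.md.mt n2 _) (hd rfl γ c2 n n1 n2)

end

theorem Std.sub (h : Std F v l L) (h' : Std F' v l L) (hl : l = 243 ∨ l = 262) : F.IsSubsystemOf F' := by
  haveI := h.md.fin
  have hS : ∀ α ∈ F.autGroup S, α ∈ F'.autGroup S := fun α hα => by
    obtain ⟨q, q1, s, s1, q2⟩ := h.bs α hα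
    obtain ⟨τ, t1, t2⟩ := h'.tor q q1
    exact (mul_mem_cancel_right (cA_mem_autGroup F' le_rfl s1)).1 (t2.ext q2 h.md.S_eq ▸ t1)
  have k : ∀ {w A q} {α : MulAut (cl w A)}, Md S w → Has F' (cl w A) w A q → Rq α w A q → Mor F' (cl w A) (fn α) :=
    fun m ⟨β, b1, b2⟩ a => mor_fn (m.cl_le_S a.ok.1) (b2.ext a rfl ▸ b1)
  refine sub_iff.2 (h.ind (fun _ h h1 h2 => (h.mono h1).congr h2) (fun _ _ h1 h2 => h1.comp h2) hl
    (fun α hα => mor_fn le_rfl (hS α hα)) (fun _ _ => k h.md h'.a) (fun _ _ => k h.md h'.b) (fun _ _ => k h.md h'.c) ?_)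
  rintro rfl γ hγ α -
  have h'' := h'.tr (mor_fn le_rfl (hS γ hγ)).fiso fun _ _ => rfl
  exact k h''.md h''.d

theorem Std.fiso (h : Std F v l L) (h' : Std F₁ v₁ l L) (hl : l = 243 ∨ l = 262) : ∃ f, FIso F f F₁ := by
  haveI := h.md.fin
  obtain ⟨f, f1, f2⟩ := h.md.piso h'.md
  obtain ⟨E, k⟩ := exists_fiso F f1
  have h1 := h.tr k fun c hc => (f2 c hc).symm
  exact ⟨f, (k.trans (fiso_id_iff.2 (hom_eq_of_sub (h1.sub h' hl) (h'.sub h1 hl)))).congr fun _ _ => rfl⟩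

end CF.Cw3
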