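import Cfsg.Agent.Cw3.Y
import Cfsg.Agent.Cw3.Co

/-! Existence of standard forms, the models, and realizability. -/

set_option autoImplicit false
set_option linter.style.haveILetI false
set_option linter.unusedSimpArgs false

namespace CF.Cw3

open Cfsg Cfsg.FusionSystem Subgroup CF.Fus CF.FusU CF.Comp CF.Th3 CF.FusD

variable {Ω G : Type*} [Group Ω] [Group G] {S E U : Subgroup Ω} {H T : Subgroup G} {F : FusionSystem S}
  {v : ℕ → Ω} {w : ℕ → G} {f : Ω → Ω} {α β γ δ τ n σ ρ : MulAut E} {s x y : Ω} {g : G}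
  {a b c i j k l t : ℕ} {A B C D R p q r u : List ℕ} {L : List (List ℕ)}

/-- the class of the centre in the small systems -/
def lO : List ℕ := [1, 2, 9, 13, 16, 18, 23, 26, 243, 271, 298, 333, 364, 394, 414, 448, 472, 486, 515, 542, 585, 620, 644,
  666, 698, 728]

/-- the three standard types -/
def St3 (F : FusionSystem S) : Prop := ∃ v, Std F v 243 lT4 ∨ Std F v 243 lT8 ∨ Std F v 262 lT8

namespace Md

variable (h : Md S v)
include h

theorem rq_par (u B r : List ℕ) (k : Rq α v A p) (e : okl B = true ∧ okl r = true ∧ lall (IN A) (lmap (ap u) B) = true ∧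
    leq (lmap (ap p) (lmap (ap u) B)) (lmap (ap u) r) = true) : Rq α (fun c => v (ap u c)) B r := by
  have k := (h.rq_sub _ k e.2.2.1).congr e.2.2.2
  rw [lmap_eq, lmap_eq, Rq, List.forall₂_map_left_iff, List.forall₂_map_right_iff] at k
  obtain ⟨e1, e2, -⟩ := e
  rw [okl_iff] at e1 e2
  induction k with
  | nil => exact .nil
  | cons k _ ih =>
    rw [List.forall_mem_cons] at e1 e2
    exact .cons ⟨e1.1, e2.1, k.2.2⟩ (ih e1.2 e2.2)

theorem rep (u : List ℕ) (bs : Bs F v lT8) (hb : Has F (cl v lB) v lB p) (e : RL u = true ∧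
    (∀ q ∈ lT8, okl g9 = true ∧ okl q = true ∧ lall (IN g9) (lmap (ap u) g9) = true ∧
      leq (lmap (ap q) (lmap (ap u) g9)) (lmap (ap u) q) = true) ∧ okl lB = true ∧ okl (nB 9 243) = true ∧
      lall (IN lB) (lmap (ap u) lB) = true ∧ leq (lmap (ap p) (lmap (ap u) lB)) (lmap (ap u) (nB 9 243)) = true := by
      decide +kernel) : ∃ w, Md S w ∧ Bs F w lT8 ∧ Has F (cl w lB) w lB (nB 9 243) := by
  have m := h.par e.1
  refine ⟨_, m, fun β hβ => ?_, ?_⟩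
  · obtain ⟨q, q1, s, s1, q2⟩ := bs β hβ
    exact ⟨q, q1, s, s1, h.rq_par u _ _ q2 (e.2.1 q q1)⟩
  · obtain ⟨α, a1, a2⟩ := hb
    rw [h.same m (h.chS ⊤).2.1]
    exact ⟨α, a1, h.rq_par u _ _ a2 e.2.2⟩

theorem has_mul (h1 : Has F S v g9 p) (h2 : Has F S v g9 q) : Has F S v g9 (lmap (ap p) q) :=
  let ⟨_, a1, a2⟩ := h1; let ⟨_, b1, b2⟩ := h2; ⟨_, mul_mem a1 b1, h.t_mul a2 b2⟩

theorem no_inv (bs : Bs F v lT4) (hf : Mor F S f) : f (v 1) ≠ v 2 := fun e => by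
  obtain ⟨q, q1, -, q3⟩ := h.pick bs hf
  exact (by decide +kernel : ∀ q ∈ lT4, ¬ mu (iv 2) (ap q 1) < 3 ^ 0) q q1
    (q3 0 (by decide) 1 (by decide) 2 (by decide) (Cg.of_eq e.symm))

theorem std (hF : Sat F 3) (n1 : ¬ F.IsNormal (Z v 1)) (n3 : ¬ F.IsNormal (Z v 3)) (n6 : ¬ F.IsNormal (Z v 6)) : St3 F := by
  classical
  haveI := h.fin
  have mv : ∀ {w}, Md S w → Mv F w (zl 8) (zl 7) ∧ Mv F w lB (zl 7) ∧ Mv F w lC lP := fun h' =>
    have e := fun k hk => h.same h' ((h.chS ⊤).1 k hk) ((by decide +kernel : ∀ k ≤ 8, okl (zl k) = true) k hk)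
    h'.mvs hF (by rwa [Z, e 1 (by decide)]) (by rwa [Z, e 3 (by decide)]) (by rwa [Z, e 6 (by decide)])
  obtain ⟨w, m, bs⟩ := h.exists_bs hF
  obtain ⟨w, m, bs, hb⟩ : ∃ w, Md S w ∧ Bs F w lT8 ∧ Has F (cl w lB) w lB (nB 9 243) := by
    obtain ⟨p, p1, p2⟩ := m.enumB hF (m.torA hF bs (mv m).1) (m.torB hF bs (mv m).2.1) (mv m).2.1
    simp only [List.mem_cons, List.not_mem_nil, or_false] at p1
    rcases p1 with rfl | rfl | rfl
    exacts [⟨w, m, bs, p2⟩, m.rep [6561, 2187, 729, 245, 81, 27, 9, 3, 1] bs p2,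
      m.rep [6561, 2187, 729, 244, 81, 27, 9, 3, 1] bs p2]
  have t1 := m.torA hF bs (mv m).1
  have t2 := m.torB hF bs (mv m).2.1
  have t4 : ∀ q ∈ lT4, Has F S w g9 q := by
    simp only [lT4, List.forall_mem_cons]
    exact ⟨⟨1, one_mem _, (Md.rq_one (by decide +kernel) m.S_eq.ge).congr⟩, t1, t2, (m.has_mul t1 t2).congr, by simp⟩
  have hs : ∀ {β q s}, β ∈ F.autGroup S → s ∈ S → Rq (β * cA S s) w g9 q → Has F S w g9 q := fun b s k =>
    ⟨_, mul_mem b (cA_mem_autGroup F le_rfl s), k⟩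
  have mk : ∀ {l}, Has F (cl w (zl 8)) w (zl 8) (Cw3.nA l) → Std F w l (lT8.filter fun q => Has F S w g9 q) := fun ha =>
    ⟨m, hF, fun β hβ => let ⟨q, q1, s, s1, q2⟩ := bs β hβ; ⟨q, List.mem_filter.2 ⟨q1, decide_eq_true (hs hβ s1 q2)⟩, s, s1, q2⟩,
      fun q hq => of_decide_eq_true (List.mem_filter.1 hq).2, List.mem_filter.2 ⟨by decide, decide_eq_true t1⟩, ha, hb,
      m.enumC hF t1 t2 (mv m).2.2⟩
  have fu : ∀ {l L}, Std F w l L → Has F S w g9 t112 → Std F w l lT8 := fun k t => { k with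
    bs := bs, t1 := by decide
    tor := fun q hq => by
      obtain k | ⟨p, p1, p2⟩ := (by decide +kernel : ∀ q ∈ lT8, q ∈ lT4 ∨ ∃ p ∈ lT4, leq (lmap (ap p) t112) q = true) q hq
      exacts [t4 q k, (m.has_mul (t4 p p1) t).congr p2] }
  have nf : ¬ Has F S w g9 t112 → Bs F w lT4 := fun t β hβ => by
    obtain ⟨q, q1, s, s1, q2⟩ := bs β hβ
    obtain k | ⟨p, p1, p2⟩ := (by decide +kernel : ∀ q ∈ lT8, q ∈ lT4 ∨ ∃ p ∈ lT4, leq (lmap (ap p) q) t112 = true) q q1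
    exacts [⟨q, k, s, s1, q2⟩, (t ((m.has_mul (t4 p p1) (hs hβ s1 q2)).congr p2)).elim]
  obtain ⟨p, p1, p2⟩ := m.enumA hF t1 t2 (mv m).1
  simp only [List.mem_cons, List.not_mem_nil, or_false] at p1
  rcases p1 with rfl | rfl | rfl
  · by_cases t : Has F S w g9 t112
    exacts [⟨w, .inr (.inl (fu (mk p2) t))⟩, ⟨w, .inl { mk p2 with bs := nf t, tor := t4, t1 := by decide }⟩]
  · exact (m.not_bad hF (m.has_ev ((mk p2).has4 (q := [0, 0, 0, 254, 27, 162, 1, 6, 9])) [0, 1, 3, 2]) (by decide +kernel)).elim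
  · refine ⟨w, .inr (.inr (fu (mk p2) (by_contra fun t => ?_)))⟩
    obtain k := m.ext_J hF g9 [(6561, 6561), (2187, 2187), (729, 729)] ((m.has_ev ((mk p2).has4
      (q := [0, 0, 0, 262, 27, 162, 1, 6, 9])) [0, 1, 0, 1, 0, 1, 2, 0, 1, 0, 1, 3, 1, 0, 1, 0, 2]).congr
      (p := [0, 0, 0, 486, 162, 54, 18, 6, 2]))
    rw [← m.S_eq] at k
    obtain ⟨γ, c1, c2, -⟩ := k
    exact m.no_inv (nf t) (mor_fn le_rfl c1) ((m.rq_ap c2).2.trans (congrArg w (by decide +kernel)))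

theorem orb (k : Rq α v A q) (e : IN A c = true ∧ lm lO (ap q c) = true) : ∃ d ∈ lO, fn α (v c) = v d :=
  ⟨_, mem_of_lm e.2, (h.rq_ap k e.1).2⟩

theorem z1 (hx : x ∈ Z v 1) : x = 1 ∨ x = v 1 ∨ x = (v 1)⁻¹ := by
  obtain ⟨c, hc, rfl⟩ := h.ex_Z (by decide) hx
  interval_cases c
  exacts [.inl h.zero, .inr (.inl rfl), .inr (.inr (h.inv (a := 1) (by decide)))]

end Md

theorem Std.orb (h : Std F v 243 L) (hL : ∀ q ∈ L, q ∈ lT8) : ∀ P f, Mor F P f → ∀ c ∈ lO, v c ∈ P → ∃ d ∈ lO, f (v c) = v d := by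
  have m := h.md
  haveI := m.fin
  have o : ∀ c ∈ lO, c < 19683 := by decide
  refine h.ind (fun _ k l e c hc x => e _ x ▸ k c hc (l x)) (fun _ _ k k' l c hc x => ?_) (.inl rfl) (fun α hα c hc _ => ?_)
    (fun α _ k c hc _ => m.orb k ((by decide +kernel : ∀ c ∈ lO, IN (zl 8) c = true ∧ lm lO (ap (nA 243) c) = true) c hc))
    (fun α _ k c hc _ => m.orb k ((by decide +kernel : ∀ c ∈ lO, IN lB c = true ∧ lm lO (ap (nB 9 243) c) = true) c hc))
    (fun α _ k c hc x => m.orb k (((by decide +kernel : ∀ c ∈ lO, NN lE (cc c 2187) = true ∨ (IN lC c = true ∧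
      lm lO (ap nC c) = true)) c hc).resolve_left fun e => m.not_mem kKE e ?_)) (by simp)
  · obtain ⟨d, d1, d2⟩ := k c hc x
    exact Function.comp_apply ▸ d2 ▸ k' d d1 (d2 ▸ l _ x)
  · obtain ⟨q, q1, s, s1, q2⟩ := h.bs α hα
    obtain ⟨d, d1, d2⟩ : ∃ d ∈ lO, s⁻¹ * v c * s⁻¹⁻¹ = v d := by
      refine clo_ind (S := S) (X := v '' {c | c ∈ g3}) (p := fun s => ∃ d ∈ lO, s * v c * s⁻¹ = v d) ?_ ⟨c, hc, by simp⟩ ?_
        (m.S_eq3.le (inv_mem s1))
      · rintro _ ⟨g, hg, rfl⟩; exact m.S_eq3.ge (mem_cl hg)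
      · rintro _ ⟨g, hg, rfl⟩ y ⟨d, d1, d2⟩
        have := (by decide +kernel : ∀ g ∈ g3, g < 19683 ∧ ∀ d ∈ lO, lm lO (cjc d g) = true) g hg
        exact ⟨_, mem_of_lm (this.2 d d1), by rw [m.cjc (o d d1) this.1, ← d2]; group⟩
    refine ⟨_, mem_of_lm ((by decide +kernel : ∀ q ∈ lT8, ∀ d ∈ lO, lm lO (ap q d) = true) q (hL q q1) d d1), ?_⟩
    rw [← m.rq_S q2 (o d d1), fn_mul, fn_cA (le_normalizer s1) (m.mem (o d d1)), ← d2]
    congr 1; group
  · rw [m.cc (o c hc) (by decide)]; exact m.CD_spec (A := lC) (B := lC) (by decide +kernel) x m.mem_of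

section
variable [Finite H] (h : Md T w) (sy : SylIn 3 T H)
include h sy

omit [Finite H] in
theorem mor_g (hg : g ∈ H) (e : g * w a * g⁻¹ = w b) (hb : b < 19683) (ha : a < 19683) :
    Mor (FG H T sy.le) (zpowers (w a)) (cj g) := morG_cj sy.le (zpowers_le.2 (h.mem ha)) hg <| by
  rintro _ ⟨k, rfl⟩
  simpa only [← conj_zpow, e] using zpow_mem (h.mem hb) k

omit [Finite H] in
theorem nn (k : ℕ) (hg : g ∈ H) (e : g * w a * g⁻¹ = w b) (o : k ≤ 9 ∧ a < 3 ^ k ∧ 3 ^ k ≤ b ∧ b < 19683 := by decide) :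
    ¬ (FG H T sy.le).IsNormal (Z w k) := fun n => o.2.2.1.not_gt ((h.mem_Z o.1 o.2.2.2).1 (e ▸ sc_maps (sc_of_normal n)
  (mor_g h sy hg e o.2.2.2 (by omega)) (mem_zpowers _) (h.Z_of_lt o.1 o.2.1)))

omit h in
theorem Std.rz {v₁ : ℕ → G} (k : Std F v l L) (k' : Std (FG H T sy.le) v₁ l L) (hl : l = 243 ∨ l = 262) : F.IsRealizable 3 :=
  let ⟨_, i⟩ := k.fiso k' hl
  Rz.realizable (exists_shrink ((realG sy).of_fiso i))

theorem big (hg : g ∈ H) (e : g * w 1 * g⁻¹ = w 3027) : ∃ v, Std (FG H T sy.le) v 262 lT8 := by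
  have k : ∀ {v L}, Std (FG H T sy.le) v 243 L → (∀ q ∈ L, q ∈ lT8) → False := fun {v L} k l => by
    have c := (h.chS ⊤).1
    obtain ⟨a, a1, a2⟩ := k.md.ex_Z (k := 1) (by decide) ((h.same k.md (c 1 (by decide))).ge (h.mem_of (c := 1)))
    have : a ≠ 0 := by rintro rfl; exact absurd ((h.one_iff (by decide)).1 (a2.symm.trans k.md.zero)) (by decide)
    obtain ⟨d, d1, d2⟩ := k.orb l _ _ (mor_g h sy hg e (by decide) (by decide)) a (by interval_cases a <;> simp_all [lO])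
      (a2 ▸ mem_zpowers _)
    rw [a2, cj, e] at d2
    exact absurd ((h.mem_Z (k := 6) (by decide) (by decide)).1 (d2 ▸ (h.same k.md (c 6 (by decide))).le
      (k.md.Z_of_lt (by decide) ((by decide : ∀ d ∈ lO, d < 3 ^ 6) d d1)))) (by decide)
  obtain ⟨v, m | m | m⟩ := h.std (satG sy) (nn h sy 1 hg e) (nn h sy 3 hg e) (nn h sy 6 hg e)
  exacts [(k m (by decide)).elim, (k m fun _ => id).elim, ⟨v, m⟩]

omit [Finite H] sy in
theorem rq_pw {α : MulAut (Z w 6)} (k : Rq α w (zl 6) q) (j : ℕ) : Rq (α ^ j) w (zl 6) (ev [q] (List.replicate j 0)) := by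
  induction j with
  | zero => exact pow_zero α ▸ Md.rq_one (by decide +kernel) le_rfl
  | succ j ih =>
    exact pow_succ' α j ▸ (h.jf_rq (h.jf k (stab_self.ge (mem_top _))) ih (stab_self.ge (mem_top _))).congr
      (leq_iff.2 (mapF_eq _ _ id).symm)

omit [Finite H] sy in
theorem zz {v : ℕ → G} (m : Md T v) (e : g * v 1 * g⁻¹ = (v 1)⁻¹) : g * w 1 * g⁻¹ = (w 1)⁻¹ := by
  rcases m.z1 ((h.same m ((h.chS ⊤).1 1 (by decide))).ge (h.mem_of (c := 1))) with k | k | k <;> rw [k]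
  exacts [by simp, e, by rw [conj_inv.symm, e]]

omit [Finite H] in
theorem small (m : St3 (FG H T sy.le)) (k : ∀ g ∈ H, g * w 1 * g⁻¹ ≠ w 2) : ∃ v, Std (FG H T sy.le) v 243 lT4 := by
  have : ∀ {v l}, Std (FG H T sy.le) v l lT8 → False := fun {v l} m => by
    obtain ⟨τ, t1, t2⟩ := m.tor t112 (by decide)
    obtain ⟨g, g1, g2⟩ := morG_elt (mor_fn le_rfl t1)
    refine k g g1 ((zz h m.md ?_).trans (h.inv (a := 1) (by decide)).symm)
    rw [← g2 _ (m.md.mem (by decide)), m.md.rq_S t2 (by decide), ← m.md.inv (by decide)]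
    exact congrArg v (by decide +kernel)
  obtain ⟨v, m | m | m⟩ := m
  exacts [⟨v, m⟩, (this m).elim, (this m).elim]

omit [Finite H] in
theorem mid (m : St3 (FG H T sy.le)) (hg : g ∈ H) (e : g * w 1 * g⁻¹ = w 2) (k : ∀ g ∈ H, ¬ 11 ∣ orderOf g) :
    ∃ v, Std (FG H T sy.le) v 243 lT8 := by
  haveI := h.fin
  obtain ⟨v, m | m | m⟩ := m
  · have e := zz m.md h (e.trans (h.inv (a := 1) (by decide)))
    have l := m.md.Z_le (k := 1) (by decide)
    have i : ∀ x ∈ Z v 1, cj g x = x⁻¹ := fun x hx => by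
      rcases m.md.z1 hx with rfl | rfl | rfl
      exacts [by simp [cj], e, by rw [cj, conj_inv.symm, e]]
    have mp : ∀ x ∈ Z v 1, cj g x ∈ Z v 1 := fun x hx => i x hx ▸ inv_mem hx
    have n := m.md.Z_norm (k := 1) (by decide)
    obtain ⟨f, f1, f2⟩ := rec_ext (m.sat.rec_of_fn (fn_of_norm _ l n)) ((morG_cj sy.le l hg fun x hx => l (mp x hx)).iso_self mp)
    have c : ∀ s ∈ T, ∀ x ∈ Z v 1, s * x * s⁻¹ = x := fun s hs x hx => by
      rw [← m.md.comm (A := zl 1) (B := g9) hx (m.md.S_eq ▸ hs), mul_inv_cancel_right]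
    refine (m.md.no_inv m.bs (f1.mono fun s hs => ⟨hs, n hs, s, hs, fun x hx => by rw [c s hs x hx, c s hs _ (mp x hx)]⟩) ?_).elim
    rw [f2 _ m.md.mem_of, i _ m.md.mem_of, ← m.md.inv (by decide)]
    exact congrArg v (by decide +kernel)
  · exact ⟨v, m⟩
  obtain ⟨α, a1, a2⟩ := (m.md.has_ev (m.has4 (q := [0, 0, 0, 262, 27, 162, 1, 6, 9])) [0, 1, 2, 2]).congr
    (p := [0, 0, 0, 1, 57, 6, 406, 90, 9])
  obtain ⟨g, g1, g2⟩ := morG_elt (mor_fn (m.md.Z_le (by decide)) a1)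
  have o := Md.rq_one (v := v) (A := zl 6) (E := Z v 6) (by decide +kernel) le_rfl
  haveI : Fact (Nat.Prime 11) := ⟨by decide⟩
  refine (k g g1 ?_).elim
  rw [← orderOf_eq_prime ((rq_pw m.md a2 11).congr.ext o rfl) fun e => absurd (m.md.uniq (e ▸ a2) o) (by decide +kernel),
    orderOf_dvd_iff_pow_eq_one]
  have : ∀ j : ℕ, ∀ x ∈ Z v 6, fn (α ^ j) x = g ^ j * x * (g ^ j)⁻¹ := fun j x hx => by
    induction j with
    | zero => simp
    | succ j ih => rw [fn_pow_succ, g2 _ (fn_mem _ hx), ih]; group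
  exact aut_ext fun x hx => by rw [this _ x hx, pow_orderOf_eq_one]; simp

end

theorem Md.realizable (h : Md S v) (hF : Sat F 3) (hc : F.core = ⊥) : F.IsRealizable 3 := by
  have n : ∀ k, 0 < k → k ≤ 9 → ¬ F.IsNormal (Z v k) := fun k k0 hk n => absurd ((h.one_iff (a := 1) (by decide)).1
    (mem_bot.1 (hc ▸ le_core n (h.Z_of_lt hk (Nat.one_lt_pow k0.ne' (by decide)))))) (by decide)
  obtain ⟨G, _, _, H, K, T, w, m, l, s1, s2, ⟨g, g1, g2⟩, ⟨g', g1', g2'⟩, p1, ⟨b, b1, b2⟩, p2⟩ := re_sp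
  obtain ⟨u, k | k | k⟩ := h.std hF (n 1 (by decide) (by decide)) (n 3 (by decide) (by decide)) (n 6 (by decide) (by decide))
  · obtain ⟨_, k'⟩ := small m s1 (m.std (satG s1) (nn m s1 1 g1 g2) (nn m s1 3 g1 g2) (nn m s1 6 g1' g2')) p1
    exact k.rz s1 k' (.inl rfl)
  · obtain ⟨_, k'⟩ := mid m s2 (m.std (satG s2) (nn m s2 1 (l g1) g2) (nn m s2 3 (l g1) g2) (nn m s2 6 (l g1') g2')) b1 b2 p2
    exact k.rz s2 k' (.inl rfl)
  · obtain ⟨_, T, w, m, s, g, e⟩ := re_co1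
    obtain ⟨_, k'⟩ := big m s (mem_top g) e
    exact k.rz s k' (.inr rfl)

theorem exists_md (T : Sylow 3 Spor.Co1) (e : S ≃* (T : Subgroup Spor.Co1)) : ∃ v, Md S v := by
  obtain ⟨_, T', w, m, s, -⟩ := re_co1
  obtain ⟨P, rfl⟩ := s.exists_sylow
  exact m.map ((P.equiv T).trans e.symm)

end CF.Cw3
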